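import Cfsg.Agent.Lib.Co1Golay43.Check

/-!
# Conway type: the 135 subspaces of the class

Words moving the subspace to each member of its class.

Owner: helper43.
-/

set_option autoImplicit false
set_option maxRecDepth 100000

namespace Cfsg.Agent.Lib.Co1Golay43

open Cfsg.Agent.Lib.Co1Type31

/-- words, part 0 -/
def cosW0 : List (List (ℕ × ℕ)) :=
  [[], [(28, 201)], [(94, 54)],
   [(71, 163)], [(43, 192)], [(232, 53)],
   [(53, 208)], [(217, 78)], [(99, 29)],
   [(28, 201), (28, 201)], [(94, 54), (28, 201)], [(71, 163), (28, 201)],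
   [(43, 192), (28, 201)], [(53, 208), (28, 201)], [(217, 78), (28, 201)],
   [(99, 29), (28, 201)], [(28, 201), (94, 54)], [(71, 163), (94, 54)],
   [(43, 192), (94, 54)], [(232, 53), (94, 54)], [(53, 208), (94, 54)],
   [(217, 78), (94, 54)], [(99, 29), (94, 54)], [(94, 54), (71, 163)],
   [(71, 163), (71, 163)], [(43, 192), (71, 163)], [(232, 53), (71, 163)],
   [(53, 208), (71, 163)], [(99, 29), (71, 163)], [(28, 201), (43, 192)],
   [(71, 163), (43, 192)], [(232, 53), (43, 192)], [(53, 208), (43, 192)],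
   [(217, 78), (43, 192)], [(99, 29), (43, 192)], [(28, 201), (232, 53)],
   [(71, 163), (232, 53)], [(43, 192), (232, 53)], [(53, 208), (232, 53)],
   [(217, 78), (232, 53)], [(99, 29), (232, 53)], [(94, 54), (53, 208)],
   [(71, 163), (53, 208)], [(43, 192), (53, 208)], [(232, 53), (53, 208)]]

/-- words, part 1 -/
def cosW1 : List (List (ℕ × ℕ)) :=
  [[(53, 208), (53, 208)], [(217, 78), (53, 208)], [(99, 29), (53, 208)],
   [(28, 201), (217, 78)], [(94, 54), (217, 78)], [(71, 163), (217, 78)],
   [(43, 192), (217, 78)], [(53, 208), (217, 78)], [(217, 78), (217, 78)],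
   [(28, 201), (99, 29)], [(71, 163), (99, 29)], [(232, 53), (99, 29)],
   [(217, 78), (99, 29)], [(94, 54), (28, 201), (28, 201)], [(217, 78), (28, 201), (28, 201)],
   [(99, 29), (28, 201), (28, 201)], [(232, 53), (94, 54), (28, 201)], [(53, 208), (94, 54), (28, 201)],
   [(99, 29), (94, 54), (28, 201)], [(28, 201), (71, 163), (28, 201)], [(94, 54), (71, 163), (28, 201)],
   [(217, 78), (71, 163), (28, 201)], [(28, 201), (43, 192), (28, 201)], [(94, 54), (43, 192), (28, 201)],
   [(71, 163), (43, 192), (28, 201)], [(53, 208), (43, 192), (28, 201)], [(217, 78), (43, 192), (28, 201)],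
   [(94, 54), (53, 208), (28, 201)], [(53, 208), (53, 208), (28, 201)], [(217, 78), (53, 208), (28, 201)],
   [(71, 163), (217, 78), (28, 201)], [(43, 192), (217, 78), (28, 201)], [(232, 53), (217, 78), (28, 201)],
   [(53, 208), (217, 78), (28, 201)], [(99, 29), (217, 78), (28, 201)], [(28, 201), (99, 29), (28, 201)],
   [(217, 78), (99, 29), (28, 201)], [(28, 201), (28, 201), (94, 54)], [(94, 54), (28, 201), (94, 54)],
   [(217, 78), (28, 201), (94, 54)], [(28, 201), (71, 163), (94, 54)], [(232, 53), (71, 163), (94, 54)],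
   [(71, 163), (43, 192), (94, 54)], [(217, 78), (43, 192), (94, 54)], [(43, 192), (232, 53), (94, 54)]]

/-- words, part 2 -/
def cosW2 : List (List (ℕ × ℕ)) :=
  [[(28, 201), (53, 208), (94, 54)], [(94, 54), (53, 208), (94, 54)], [(71, 163), (53, 208), (94, 54)],
   [(53, 208), (53, 208), (94, 54)], [(99, 29), (53, 208), (94, 54)], [(71, 163), (217, 78), (94, 54)],
   [(217, 78), (217, 78), (94, 54)], [(94, 54), (99, 29), (94, 54)], [(71, 163), (99, 29), (94, 54)],
   [(43, 192), (99, 29), (94, 54)], [(217, 78), (99, 29), (94, 54)], [(28, 201), (94, 54), (71, 163)],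
   [(53, 208), (94, 54), (71, 163)], [(99, 29), (94, 54), (71, 163)], [(94, 54), (71, 163), (71, 163)],
   [(43, 192), (71, 163), (71, 163)], [(217, 78), (71, 163), (71, 163)], [(94, 54), (43, 192), (71, 163)],
   [(71, 163), (232, 53), (71, 163)], [(217, 78), (232, 53), (71, 163)], [(71, 163), (28, 201), (43, 192)],
   [(43, 192), (232, 53), (43, 192)], [(217, 78), (232, 53), (43, 192)], [(71, 163), (53, 208), (43, 192)],
   [(43, 192), (53, 208), (43, 192)], [(232, 53), (53, 208), (43, 192)], [(71, 163), (99, 29), (43, 192)],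
   [(232, 53), (71, 163), (232, 53)], [(71, 163), (43, 192), (232, 53)], [(232, 53), (43, 192), (232, 53)],
   [(53, 208), (53, 208), (232, 53)], [(99, 29), (53, 208), (232, 53)], [(232, 53), (217, 78), (232, 53)],
   [(53, 208), (217, 78), (232, 53)], [(99, 29), (217, 78), (232, 53)], [(232, 53), (71, 163), (53, 208)],
   [(28, 201), (43, 192), (53, 208)], [(43, 192), (53, 208), (53, 208)], [(99, 29), (53, 208), (53, 208)],
   [(217, 78), (217, 78), (53, 208)], [(28, 201), (43, 192), (217, 78)], [(53, 208), (217, 78), (217, 78)],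
   [(232, 53), (217, 78), (28, 201), (28, 201)], [(28, 201), (53, 208), (94, 54), (28, 201)], [(99, 29), (217, 78), (217, 78), (94, 54)]]

/-- the words -/
def cosW : List (List (ℕ × ℕ)) := cosW0 ++ cosW1 ++ cosW2

/-- the image of the subspace, as a mask -/
def imgW (ws : List (ℕ × ℕ)) : ℕ :=
  [0, 1, 4, 5, 16, 17, 20, 21, 64, 65, 68, 69, 80, 81, 84, 85].foldr (fun w m => m ||| (1 <<< prs ws w)) 0

theorem cosW_spec : cosW.length = 135 ∧ cosW.all okWord = true ∧ (cosW.map imgW).Nodup ∧
    cosW.getD 0 [] = [] := by decide +kernel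

end Cfsg.Agent.Lib.Co1Golay43
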