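import Cfsg.Agent.Lib.Co1Golay43.Stab
import Cfsg.Agent.Lib.Co1Golay43.CosetData

/-!
# Conway type: the centraliser of `z` and the stabiliser of the subspace

`C(z) ∩ N(A)` is generated by `Q`, `A` and lifts of transvections and has 135 cosets in `C(z)`, given
by words moving the subspace.

Owner: helper43.
-/

set_option autoImplicit false
set_option maxRecDepth 100000
set_option linter.unusedSectionVars false

namespace Cfsg.Agent.Lib.Co1Golay43

open Cfsg.Agent.Lib.Co1Type31

set_option synthInstance.maxSize 4000 in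
set_option synthInstance.maxHeartbeats 400000 in
theorem stage_cover : ∀ k < 4, ∀ v < 256, inW v = true →
    (∀ b0 b1 b2 : Bool, (k < 1 → b0 = false) → (k < 2 → b1 = false) → (k < 3 → b2 = false) →
      v ≠ (bif b0 then 1 else 0) ^^^ (bif b1 then 4 else 0) ^^^ (bif b2 then 16 else 0)) →
    ∃ w ∈ stageW.getD k [], prs (tvWord w) (wB.getD k 0) = v := by decide +kernel

theorem inW_mem : ∀ k < 256, inW k = true ↔
    k ∈ [0, 1, 4, 5, 16, 17, 20, 21, 64, 65, 68, 69, 80, 81, 84, 85] := by decide +kernel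

variable {G : Type*} [Group G] [Finite G] {z : G} {Q : Subgroup G} {co : G → ℕ} {ac : G → ℕ → ℕ}
variable {x n m : G} (C : Cfg z Q co ac x n m)

/-- The stabiliser in the normaliser. -/
abbrev NZ (h : Frame z Q co ac) : Subgroup G := NA h ⊓ Subgroup.centralizer ({z} : Set G)

theorem NZ_comm {h : Frame z Q co ac} {g : G} (hg : g ∈ NZ h) : Commute g z :=
  Subgroup.mem_centralizer_singleton_iff.1 hg.2

theorem mem_NZ {h : Frame z Q co ac} {g : G} (h1 : g ∈ NA h) (h2 : Commute g z) : g ∈ NZ h :=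
  ⟨h1, Subgroup.mem_centralizer_singleton_iff.2 h2.eq⟩

/-- Elements of the stabiliser preserve the subspace. -/
theorem NZ_inW {g : G} (hg : g ∈ NZ C.duo.fr) {w : ℕ} (hw : w < 256) (hW : inW w = true) :
    inW (ac g w) = true := by
  obtain ⟨r, hr, e⟩ := C.duo.fr.co_surj w hw
  have hrE : r ∈ EG C.duo.fr := ⟨hr, by rw [e]; exact hW⟩
  have := inter_Q C.duo.fr (C.duo.fr.norm g (NZ_comm hg) r hr)
    ((Subgroup.mem_normalizer_iff.1 hg.1 r).1 (EG_le_AG C.duo.fr hrE))
  have h2 := this.2
  rwa [C.duo.fr.conj g (NZ_comm hg) r hr, e] at h2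

set_option synthInstance.maxSize 4000 in
theorem wB_indep : ∀ j < 4, ∀ b0 b1 b2 : Bool, (j < 1 → b0 = false) → (j < 2 → b1 = false) →
    (j < 3 → b2 = false) → wB.getD j 0 ≠
      (bif b0 then 1 else 0) ^^^ (bif b1 then 4 else 0) ^^^ (bif b2 then 16 else 0) := by decide

/-- Transvection lifts lie in the stabiliser. -/
theorem tv_NZ {i : ℕ} (hi : i < 12) {c : G} (hc : Commute c z)
    (hck : ∀ k < 256, ac c k = prs (tvWord [i]) k) : c ∈ NZ C.duo.fr := by
  refine mem_NZ (norm_AG_of C.duo.fr hc fun w hw => ?_) hc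
  obtain ⟨h1, h2⟩ := wB_spec w hw
  rw [hck w h1]
  exact (tvWord_spec (by simpa using hi)).2 w h1 h2

/-- The stabiliser is generated by `Q`, `A` and lifts of the transvections. -/
theorem NZ_le {S : Subgroup G} (hQ : Q ≤ S) (hA : AG C.duo.fr ≤ S)
    (hT : ∀ i < 12, ∀ c, Commute c z → (∀ k < 256, ac c k = prs (tvWord [i]) k) → c ∈ S) :
    NZ C.duo.fr ≤ S := by
  set h := C.duo.fr
  have hword : ∀ l : List ℕ, (∀ i ∈ l, i < 12) →
      ∃ c ∈ S, c ∈ NZ h ∧ ∀ k < 256, ac c k = prs (tvWord l) k := by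
    intro l
    induction l with
    | nil => exact fun _ => ⟨1, one_mem S, one_mem _, fun k hk => h.ac_Q (one_mem Q) hk⟩
    | cons i l ih =>
      intro hl
      have hl' := fun j hj => hl j (List.mem_cons_of_mem _ hj)
      obtain ⟨c, hcS, hcN, hck⟩ := ih hl'
      have hi := hl i (List.mem_cons_self ..)
      obtain ⟨e, he, hek⟩ := h.exists_prs (tvWord_spec (l := [i]) (by simpa using hi)).1
      refine ⟨e * c, mul_mem (hT i hi e he hek) hcS, mul_mem (tv_NZ C hi he hek) hcN, fun k hk => ?_⟩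
      rw [h.ac_mul he (NZ_comm hcN) hk, hck k hk, hek _ ((prs_lin (tvWord_spec hl').1).lt k hk),
        show tvWord [i] = tvW.getD i [] by simp [tvWord],
        show tvWord (i :: l) = tvW.getD i [] ++ tvWord l from List.flatMap_cons .., prs_append]
  have hw4 : ∀ i < 4, wB.getD i 0 ∈ wB ∧ wB.getD i 0 < 256 ∧ inW (wB.getD i 0) = true := by decide
  -- reduce the vectors one by one
  have hred : ∀ k, k ≤ 4 → ∀ g ∈ NZ h,
      (∀ i < 4 - k, ac g (wB.getD i 0) = wB.getD i 0) → g ∈ S := by
    intro k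
    induction k with
    | zero =>
      intro _ g hg hfix
      have hz := NZ_comm hg
      obtain ⟨i, hi, hgi⟩ := exists_rA (h.iso hz) fun w hw => by
        have : ∀ w ∈ wB, ∃ i < 4, w = wB.getD i 0 := by decide
        obtain ⟨j, hj, rfl⟩ := this w hw
        exact hfix j hj
      obtain ⟨a, ha, hai⟩ := exists_lift h hi
      have hq : a⁻¹ * g ∈ Q := h.faithful _ ((AG_z h ha).inv_left.mul_left hz) fun k hk => by
        rw [h.ac_mul (AG_z h ha).inv_left hz hk, hgi k hk, ← hai k hk, h.ac_inv (AG_z h ha) hk]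
      rw [show g = a * (a⁻¹ * g) by group]
      exact mul_mem (hA ha) (hQ hq)
    | succ k ih =>
      intro hk g hg hfix
      have hz := NZ_comm hg
      set j := 4 - (k + 1) with hj
      have hjk : 4 - k = j + 1 := by omega
      have hj4 : j < 4 := by omega
      obtain ⟨-, hwlt, hwW⟩ := hw4 j hj4
      have hv : ac g (wB.getD j 0) < 256 := h.ac_lt hz hwlt
      have hlin : Lin8 (ac g) := (h.iso hz).toLin8
      obtain ⟨w, hw, e⟩ := stage_cover j hj4 _ hv (NZ_inW C hg hwlt hwW) (by
        intro b0 b1 b2 h0 h1 h2 e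
        have hb : ∀ (b : Bool) (i : ℕ), i < 3 → (j < i + 1 → b = false) →
            ac g (bif b then wB.getD i 0 else 0) = (bif b then wB.getD i 0 else 0) := by
          intro b i hi hbi
          cases b
          · exact hlin.zero
          · exact hfix i (by_contra fun hn => Bool.noConfusion (hbi (by omega)))
        have e0 := hb b0 0 (by norm_num) h0
        have e1 := hb b1 1 (by norm_num) h1
        have e2 := hb b2 2 (by norm_num) h2
        simp only [show wB.getD 0 0 = 1 from rfl, show wB.getD 1 0 = 4 from rfl,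
          show wB.getD 2 0 = 16 from rfl] at e0 e1 e2
        have l0 : (bif b0 then 1 else 0 : ℕ) < 256 := by cases b0 <;> simp
        have l1 : (bif b1 then 4 else 0 : ℕ) < 256 := by cases b1 <;> simp
        have l2 : (bif b2 then 16 else 0 : ℕ) < 256 := by cases b2 <;> simp
        have hfixed := hlin.add _ (xor_lt l0 l1) _ l2
        rw [hlin.add _ l0 _ l1, e0, e1, e2] at hfixed
        have hinj := congrArg (ac g⁻¹) (e.trans hfixed.symm)
        rw [h.ac_inv hz hwlt, h.ac_inv hz (xor_lt (xor_lt l0 l1) l2)] at hinj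
        revert hinj h0 h1 h2
        exact wB_indep j hj4 b0 b1 b2)
      have hok := List.all_eq_true.1 stage_spec.1 j (by interval_cases j <;> decide)
      simp only [stageOK, Bool.and_eq_true, List.all_eq_true, decide_eq_true_eq, List.mem_range] at hok
      obtain ⟨hall, hkeep⟩ := hok.1 w hw
      obtain ⟨c, hcS, hcN, hck⟩ := hword w hall
      have hcz := NZ_comm hcN
      suffices hmem : c⁻¹ * g ∈ S by simpa [mul_assoc] using mul_mem hcS hmem
      refine ih (by omega) _ (mul_mem (inv_mem hcN) hg) fun i hi => ?_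
      obtain ⟨-, hil, -⟩ := hw4 i (by omega)
      rw [h.ac_mul hcz.inv_left hz hil]
      rcases Nat.lt_or_ge i j with hij | hij
      · rw [hfix i hij]
        conv_lhs => rw [← Nat.eq_of_beq_eq_true (hkeep i hij), ← hck _ hil]
        rw [h.ac_inv hcz hil]
      · obtain rfl : i = j := by omega
        rw [← e, ← hck _ hil, h.ac_inv hcz hil]
  exact fun g hg => hred 4 le_rfl g hg (by simp)

theorem imgW_spec {ws : List (ℕ × ℕ)} {v : ℕ} :
    (imgW ws).testBit v = true ↔ ∃ w, w < 256 ∧ inW w = true ∧ prs ws w = v := by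
  have key : ∀ l : List ℕ, (l.foldr (fun w m => m ||| (1 <<< prs ws w)) 0).testBit v = true ↔
      ∃ w ∈ l, prs ws w = v := by
    intro l
    induction l with
    | nil => simp
    | cons a l ih =>
      rw [List.foldr_cons, Nat.testBit_or, Bool.or_eq_true, ih, Nat.one_shiftLeft, Nat.testBit_two_pow,
        decide_eq_true_eq]
      simp only [List.mem_cons, exists_eq_or_imp]
      exact or_comm
  rw [imgW, key]
  have hlt : ∀ w ∈ [0, 1, 4, 5, 16, 17, 20, 21, 64, 65, 68, 69, 80, 81, 84, 85], w < 256 := by decide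
  exact ⟨fun ⟨w, hw, e⟩ => ⟨w, hlt w hw, (inW_mem w (hlt w hw)).2 hw, e⟩,
    fun ⟨w, hw, hW, e⟩ => ⟨w, (inW_mem w hw).1 hW, e⟩⟩

/-- The coset decomposition. -/
theorem exists_cosets :
    ∃ c : Fin 135 → G, (∀ i, Commute (c i) z ∧
        ∀ k < 256, ac (c i) k = prs (cosW.getD i []) k) ∧
      Nat.card (NZ C.duo.fr) = 660602880 ∧
      ∀ g, Commute g z → ∃ i, (c i)⁻¹ * g ∈ NZ C.duo.fr := by
  classical
  set h := C.duo.fr
  obtain ⟨hlen, hok, hnd, -⟩ := cosW_spec
  have hmem : ∀ i : Fin 135, cosW.getD i [] ∈ cosW := fun i => by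
    rw [List.getD_eq_getElem _ _ (by rw [hlen]; exact i.2)]
    exact List.getElem_mem _
  have hok' : ∀ i : Fin 135, okWord (cosW.getD i []) = true := fun i => List.all_eq_true.1 hok _ (hmem i)
  choose c hc hck using fun i : Fin 135 => h.exists_prs (hok' i)
  have hinj : ∀ i j, ∀ g ∈ NZ h, c i * g = c j → i = j := by
    intro i j g hg e
    have himg : imgW (cosW.getD j []) = imgW (cosW.getD i []) := by
      refine Nat.eq_of_testBit_eq fun v => ?_
      rw [Bool.eq_iff_iff, imgW_spec, imgW_spec]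
      constructor
      · rintro ⟨w, hw, hW, rfl⟩
        refine ⟨ac g w, h.ac_lt (NZ_comm hg) hw, NZ_inW C hg hw hW, ?_⟩
        rw [← hck j w hw, ← e, h.ac_mul (hc i) (NZ_comm hg) hw, hck i _ (h.ac_lt (NZ_comm hg) hw)]
      · rintro ⟨w, hw, hW, rfl⟩
        refine ⟨ac g⁻¹ w, h.ac_lt (NZ_comm hg).inv_left hw, NZ_inW C (inv_mem hg) hw hW, ?_⟩
        rw [← hck j _ (h.ac_lt (NZ_comm hg).inv_left hw), ← h.ac_mul (hc j) (NZ_comm hg).inv_left hw, ← e,
          mul_inv_cancel_right, hck i w hw]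
    refine Fin.ext ((hnd.getElem_inj_iff (i := i.1) (j := j.1)
      (hi := by rw [List.length_map, hlen]; exact i.2) (hj := by rw [List.length_map, hlen]; exact j.2)).1 ?_)
    simp only [List.getElem_map]
    rw [List.getD_eq_getElem _ _ (by rw [hlen]; exact j.2), List.getD_eq_getElem _ _ (by rw [hlen]; exact i.2)] at himg
    exact himg.symm
  have hbij : Function.Injective (fun p : Fin 135 × NZ h =>
      (⟨c p.1 * p.2, mul_mem (Subgroup.mem_centralizer_singleton_iff.2 (hc p.1).eq) p.2.2.2⟩ :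
        Subgroup.centralizer ({z} : Set G))) := by
    rintro ⟨i, g⟩ ⟨j, g'⟩ e
    have e' : c i * (g : G) = c j * g' := congrArg Subtype.val e
    obtain rfl : i = j := hinj i j ((g : G) * (g' : G)⁻¹) (mul_mem g.2 (inv_mem g'.2)) (by
      rw [← mul_assoc, e', mul_inv_cancel_right])
    exact Prod.ext rfl (Subtype.ext (mul_left_cancel e'))
  have hge := card_stab_ge C
  have hle := Nat.card_le_card_of_injective _ hbij
  rw [Nat.card_prod, Nat.card_fin, h.cardC] at hle
  have hcard : Nat.card (NZ h) = 660602880 := by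
    change 660602880 ≤ Nat.card (NZ h) at hge
    omega
  refine ⟨c, fun i => ⟨hc i, hck i⟩, hcard, fun g hg => ?_⟩
  obtain ⟨⟨i, g'⟩, e⟩ := (Function.Injective.bijective_of_nat_card_le hbij (by
    rw [Nat.card_prod, Nat.card_fin, h.cardC, hcard])).2 ⟨g, Subgroup.mem_centralizer_singleton_iff.2 hg.eq⟩
  refine ⟨i, ?_⟩
  have e' : c i * (g' : G) = g := congrArg Subtype.val e
  rw [← e', inv_mul_cancel_left]
  exact g'.2

end Cfsg.Agent.Lib.Co1Golay43
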