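import Cfsg.Agent.Lib.Co1Golay43.Compare
import Cfsg.Agent.Lib.Co1Golay43.Coset

/-!
# Conway type: the iso of the normalisers respects `Q` and its codes

The image of a lift of a dual vector acts on `A` as the lift, so differs from it by an element of `A`
whose line part is fixed by the transvections fixing the vector, hence is trivial; the induced isometry
of the codes fixes the subspace pointwise and is removed by an element of `A`.

Owner: helper43.
-/

set_option autoImplicit false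
set_option maxRecDepth 100000
set_option linter.unusedSectionVars false

namespace Cfsg.Agent.Lib.Co1Golay43

open Cfsg.Agent.Lib.Co1Type31

theorem defect_cases : ∀ k < 4, ∀ i < 64, i ≠ 0 → ∃ t ∈ List.range 12,
    prs (tvWord [t]) (dB.getD k 0) = dB.getD k 0 ∧
      agree (fun v => prs (tvWord [t]) (rA i v)) (fun v => rA i (prs (tvWord [t]) v)) = false := by
  decide +kernel

theorem bit8_step : ∀ k < 256, k ≠ 0 → ∃ j < 8, k ^^^ 2 ^ j < k := by decide +kernel

theorem bit8_kind : ∀ j < 8, inW (2 ^ j) = true ∨ ∃ k < 4, 2 ^ j = dB.getD k 0 := by decide +kernel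

universe u v

variable {G : Type u} [Group G] [Finite G] {z : G} {Q : Subgroup G} {co : G → ℕ} {ac : G → ℕ → ℕ}
variable {x n m : G} {C : Cfg z Q co ac x n m} (B : Base C)
variable {G' : Type v} [Group G'] [Finite G'] {z' : G'} {Q' : Subgroup G'} {co' : G' → ℕ} {ac' : G' → ℕ → ℕ}
variable {x' n' m' : G'} {C' : Cfg z' Q' co' ac' x' n' m'} (B' : Base C')

namespace Base

/-- The line part of a state is the action. -/
theorem high_eq {s i : ℕ} (hs : s < 2048) (hi : i < 64) (h : ActA ac (B.el s) i) : s >>> 5 = i := by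
  have hs5 : s >>> 5 < 64 := by rw [Nat.shiftRight_eq_div_pow]; omega
  have e : ridx (rA (s >>> 5)) = ridx (rA i) := by
    have hk : ∀ d, d ∈ dB → rA (s >>> 5) d = rA i d := fun d hd => by
      rw [← B.el_act s hs d (dB_spec d hd), h d (dB_spec d hd)]
    simp only [ridx, hk 2 (by decide), hk 8 (by decide), hk 32 (by decide)]
  rwa [ridx_rA _ hs5, ridx_rA _ hi] at e

theorem high_of_Q {s : ℕ} (hs : s < 2048) (h : B.el s ∈ Q) : s >>> 5 = 0 :=
  B.high_eq hs (by norm_num) fun k hk => by rw [C.duo.fr.ac_Q h hk, rA_zero hk]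

theorem EG_el {r : G} (hr : r ∈ EG C.duo.fr) : ∃ s < 32, B.el s = r := by
  obtain ⟨s, hs, e⟩ := B.el_surj (EG_le_AG C.duo.fr hr)
  have := B.high_of_Q hs (e ▸ hr.1)
  rw [Nat.shiftRight_eq_div_pow] at this
  exact ⟨s, by omega, e⟩

theorem el_NA (s : ℕ) : B.el s ∈ NA C.duo.fr := Subgroup.le_normalizer (B.el_mem s)

theorem Q_NA {q : G} (hq : q ∈ Q) : q ∈ NA C.duo.fr := mem_norm _ fun _ ha => Pre.Q_conj (C := C) hq ha

/-- The image of a lift of a dual vector lies in `Q'`. -/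
theorem dual_image {f : ↥(NA C.duo.fr) ≃* ↥(NA C'.duo.fr)}
    (hf : ∀ s, s < 2048 → (f ⟨B.el s, B.el_NA s⟩ : G') = B'.el s) {k : ℕ} (hk : k < 4) {q : G} (hq : q ∈ Q)
    (hqc : co q = dB.getD k 0) : (f ⟨q, Q_NA (C := C) hq⟩ : G') ∈ Q' := by
  have h := C.duo.fr
  have h' := C'.duo.fr
  set q1 := (f ⟨q, Q_NA (C := C) hq⟩ : G') with hq1
  obtain ⟨q', hq', hqc'⟩ := h'.co_surj (dB.getD k 0) (dB_spec _ (by interval_cases k <;> decide))
  have htr : ∀ (g : G) (hg : g ∈ NA h) (s t : ℕ), s < 2048 → t < 2048 → g * B.el s * g⁻¹ = B.el t →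
      (f ⟨g, hg⟩ : G') * B'.el s * (f ⟨g, hg⟩ : G')⁻¹ = B'.el t := by
    intro g hg s t hs ht e
    rw [← hf s hs, ← hf t ht, ← InvMemClass.coe_inv, ← Subgroup.coe_mul, ← Subgroup.coe_mul, ← map_inv,
      ← map_mul, ← map_mul]
    exact congrArg (fun g => ((f g : ↥(NA h')) : G')) (Subtype.ext e)
  have htk : ∀ s < 2048, tk k s < 2048 := tk_lt' hk
  have hact : ∀ s < 2048, q1 * B'.el s * q1⁻¹ = q' * B'.el s * q'⁻¹ := fun s hs => by
    rw [htr q _ s (tk k s) hs (htk s hs) (B.tk_conj hk hq hqc s hs), B'.tk_conj hk hq' hqc' s hs]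
  set a := q'⁻¹ * q1 with ha
  have haA : a ∈ AG h' := by
    refine Subgroup.mem_centralizer_iff.2 fun r hr => ?_
    obtain ⟨s, hs, rfl⟩ := B'.el_surj (EG_le_AG h' hr)
    have e := hact s hs
    have : a * B'.el s * a⁻¹ = B'.el s := by
      rw [ha, show q'⁻¹ * q1 * B'.el s * (q'⁻¹ * q1)⁻¹ = q'⁻¹ * (q1 * B'.el s * q1⁻¹) * q' by group, e]
      group
    exact (mul_inv_eq_iff_eq_mul.1 this).symm
  obtain ⟨s0, hs0, hs0a⟩ := B'.el_surj haA
  have hi : s0 >>> 5 < 64 := by rw [Nat.shiftRight_eq_div_pow]; omega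
  suffices hzero : s0 >>> 5 = 0 by
    have h32 : s0 < 32 := by rw [Nat.shiftRight_eq_div_pow] at hzero; omega
    have : q1 = q' * B'.el s0 := by rw [hs0a, ha]; group
    rw [this]
    exact mul_mem hq' (B'.el_low s0 h32).1
  by_contra hne
  obtain ⟨t, ht, htd, hbad⟩ := defect_cases k hk _ hi hne
  rw [List.mem_range] at ht
  have hok := (tvWord_spec (l := [t]) (by simpa using ht)).1
  obtain ⟨c, hc, hck⟩ := h.exists_prs hok
  have hcN := tv_NZ C ht hc hck
  have hzN : (f ⟨z, Subgroup.le_normalizer (EG_le_AG h (z_EG h))⟩ : G') = z' := by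
    have e : (⟨z, Subgroup.le_normalizer (EG_le_AG h (z_EG h))⟩ : ↥(NA h)) = ⟨B.el 1, B.el_NA 1⟩ :=
      Subtype.ext B.el_one.symm
    rw [e, hf 1 (by norm_num), B'.el_one]
  set c1 := (f ⟨c, hcN.1⟩ : G') with hc1
  have hc1z : Commute c1 z' := by
    have this := congrArg (fun g => ((f g : ↥(NA h')) : G'))
      (Subtype.ext hc.eq : (⟨c, hcN.1⟩ * ⟨z, Subgroup.le_normalizer (EG_le_AG h (z_EG h))⟩ : ↥(NA h)) =
        ⟨z, Subgroup.le_normalizer (EG_le_AG h (z_EG h))⟩ * ⟨c, hcN.1⟩)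
    simp only [map_mul, Subgroup.coe_mul] at this
    rw [hzN] at this
    exact this
  -- `c` commutes with `q` up to `z`
  obtain ⟨ε, hε⟩ : ∃ ε : Bool, c * q * c⁻¹ = q * pw z ε := by
    have e : co (c * q * c⁻¹) = co q := by
      rw [h.conj c hc q hq, hqc, hck _ (dB_spec _ (by interval_cases k <;> decide)), htd]
    rcases h.co_eq hq (h.norm c hc q hq) e.symm with e' | e'
    exacts [⟨false, e'.trans (mul_one q).symm⟩, ⟨true, e'⟩]
  have hε1 : c1 * q1 * c1⁻¹ = q1 * pw z' ε := by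
    have hpw : (f ⟨pw z ε, by cases ε; exacts [one_mem _, Subgroup.le_normalizer (EG_le_AG h (z_EG h))]⟩ : G') =
        pw z' ε := by
      cases ε
      · exact congrArg Subtype.val (map_one f)
      · exact hzN
    rw [hc1, hq1, ← hpw, ← InvMemClass.coe_inv, ← Subgroup.coe_mul, ← Subgroup.coe_mul, ← Subgroup.coe_mul,
      ← map_inv, ← map_mul, ← map_mul, ← map_mul]
    exact congrArg (fun g => ((f g : ↥(NA h')) : G')) (Subtype.ext hε)
  obtain ⟨s1, hs1, e1⟩ := B.el_surj ((Subgroup.mem_normalizer_iff.1 hcN.1 _).1 (B.el_mem s0))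
  have e1' := htr c hcN.1 s0 s1 hs0 hs1 e1.symm
  -- the image has the same line part
  have hlines : s1 >>> 5 = s0 >>> 5 := by
    have hx : s0 ^^^ s1 < 2048 := Nat.xor_lt_two_pow (n := 11) hs0 hs1
    have hmem : B'.el (s0 ^^^ s1) ∈ Q' := by
      have hq1' : q1 = q' * B'.el s0 := by rw [hs0a, ha]; group
      have e2 : B'.el s1 = (c1 * q' * c1⁻¹)⁻¹ * (q' * B'.el s0 * pw z' ε) := by
        rw [← hq1', ← hε1, hq1', ← e1', ← hc1]; group
      have hcomm : B'.el (s0 ^^^ s1) = B'.el s1 * B'.el s0 := by rw [Nat.xor_comm, B'.el_xor]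
      have hcom : Commute (B'.el s0) (pw z' ε) := by
        cases ε
        · exact Commute.one_right _
        · exact AG_z h' (B'.el_mem _)
      rw [hcomm, e2, show (c1 * q' * c1⁻¹)⁻¹ * (q' * B'.el s0 * pw z' ε) * B'.el s0 =
        (c1 * q' * c1⁻¹)⁻¹ * q' * ((B'.el s0 * pw z' ε) * B'.el s0) by group, hcom.eq, mul_assoc (pw z' ε),
        AG_sq C' (B'.el_mem s0), mul_one]
      refine mul_mem (mul_mem (inv_mem (h'.norm c1 hc1z q' hq')) hq') ?_
      cases ε
      exacts [one_mem Q', h'.es.mem]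
    have := B'.high_of_Q hx hmem
    rw [Nat.shiftRight_xor_distrib] at this
    exact (Nat.eq_of_xor_eq_zero this).symm
  -- so the transvection centralises the element of the radical
  refine absurd ?_ (Bool.eq_false_iff.1 hbad)
  refine List.all_eq_true.2 fun j hj => ?_
  have hj' : j < 256 := by revert j; decide
  have hL := prs_lin hok
  have A0 := AG_z h (B.el_mem s0)
  have A1 := AG_z h (B.el_mem s1)
  have e3 : ac (B.el s1 * c) j = ac (c * B.el s0) j := by
    rw [e1]; congr 1; group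
  rw [h.ac_mul A1 hc hj', h.ac_mul hc A0 hj', hck j hj', B.el_act s1 hs1 _ (hL.lt j hj'), hlines,
    B.el_act s0 hs0 j hj', hck _ ((rA_lin _).lt j hj')] at e3
  show Nat.beq (prs (tvWord [t]) (rA (s0 >>> 5) j)) (rA (s0 >>> 5) (prs (tvWord [t]) j)) = true
  rw [e3]
  exact Nat.beq_refl _

/-- An iso of the normalisers keeping the coordinates and the codes of `Q`. -/
theorem exists_aligned (hB : ∀ s < 2048, (B.O s ↔ zmask0.testBit s = true))
    (hB' : ∀ s < 2048, (B'.O s ↔ zmask0.testBit s = true)) :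
    ∃ f : ↥(NA C.duo.fr) ≃* ↥(NA C'.duo.fr),
      (∀ s, s < 2048 → (f ⟨B.el s, B.el_NA s⟩ : G') = B'.el s) ∧
      ∀ (q : G) (hq : q ∈ Q), (f ⟨q, Q_NA (C := C) hq⟩ : G') ∈ Q' ∧
        co' (f ⟨q, Q_NA (C := C) hq⟩ : G') = co q := by
  classical
  obtain ⟨f, hf⟩ := B.exists_iso B' hB hB'
  have h := C.duo.fr
  have h' := C'.duo.fr
  let F : ∀ q, q ∈ Q → G' := fun q hq => (f ⟨q, Q_NA (C := C) hq⟩ : G')
  have hmul : ∀ q r (hq : q ∈ Q) (hr : r ∈ Q), F (q * r) (mul_mem hq hr) = F q hq * F r hr := fun q r hq hr => by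
    simp only [F, ← Subgroup.coe_mul, ← map_mul]
    rfl
  have hlow : ∀ r, ∀ hr : r ∈ EG h, F r hr.1 ∈ Q' ∧ co' (F r hr.1) = co r := by
    intro r hr
    obtain ⟨s, hs, rfl⟩ := B.EG_el hr
    simp only [F]
    rw [hf s (by omega)]
    exact ⟨(B'.el_low s hs).1, (B'.el_low s hs).2.trans (B.el_low s hs).2.symm⟩
  have hmem : ∀ k < 256, ∀ q (hq : q ∈ Q), co q = k → F q hq ∈ Q' := by
    intro k
    induction k using Nat.strong_induction_on with
    | _ k ih =>
      intro hk q hq hqc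
      rcases eq_or_ne k 0 with rfl | h0
      · exact (hlow q ⟨hq, by rw [hqc]; rfl⟩).1
      · obtain ⟨j, hj, hlt⟩ := bit8_step k hk h0
        have hp : 2 ^ j < 256 := Nat.pow_lt_pow_right (a := 2) (n := 8) (by norm_num) hj
        obtain ⟨r, hr, hrc⟩ := h.co_surj _ hp
        have hrQ : F r hr ∈ Q' := by
          rcases bit8_kind j hj with hW | ⟨i, hi, e⟩
          · exact (hlow r ⟨hr, by rw [hrc]; exact hW⟩).1
          · exact dual_image B B' hf hi hr (hrc.trans e)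
        have hrest := ih _ hlt (hlt.trans hk) (q * r⁻¹) (mul_mem hq (inv_mem hr)) (by
          rw [h.co_mul q hq _ (inv_mem hr), h.co_inv hr, hqc, hrc])
        have e : F q hq = F (q * r⁻¹) (mul_mem hq (inv_mem hr)) * F r hr := by
          rw [← hmul _ _ (mul_mem hq (inv_mem hr)) hr]
          simp only [inv_mul_cancel_right]
        rw [e]
        exact mul_mem hrest hrQ
  have hQ' : ∀ q (hq : q ∈ Q), F q hq ∈ Q' := fun q hq => hmem _ (h.co_lt q hq) q hq rfl
  -- the induced map of the codes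
  have hz : F z h.es.mem = z' := by
    show (f ⟨z, _⟩ : G') = z'
    have e : (⟨z, Q_NA (C := C) h.es.mem⟩ : ↥(NA h)) = ⟨B.el 1, B.el_NA 1⟩ := Subtype.ext B.el_one.symm
    rw [e, hf 1 (by norm_num), B'.el_one]
  choose! R hR hRc using fun k (hk : k < 256) => h.co_surj k hk
  let τ : ℕ → ℕ := fun k => if hk : k < 256 then co' (F (R k) (hR k hk)) else k
  have hτ : ∀ q (hq : q ∈ Q), co' (F q hq) = τ (co q) := by
    intro q hq
    have hlt := h.co_lt q hq
    simp only [τ, dif_pos hlt]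
    rcases h.co_eq (hR _ hlt) hq (hRc _ hlt) with e | e
    · simp only [← e]
    · have : F q hq = F (R (co q)) (hR _ hlt) * F z h.es.mem := by
        rw [← hmul _ _ (hR _ hlt) h.es.mem]; simp only [← e]
      rw [this, hz, h'.co_mul _ (hQ' _ (hR _ hlt)) _ h'.es.mem, h'.co_z, Nat.xor_zero]
  have hτiso : Iso8 τ := by
    refine ⟨⟨fun k hk => ?_, fun j hj k hk => ?_⟩, fun k hk => ?_⟩
    · simp only [τ, dif_pos hk]
      exact h'.co_lt _ (hQ' _ (hR k hk))
    · conv_lhs => rw [← hRc j hj, ← hRc k hk, ← h.co_mul _ (hR j hj) _ (hR k hk), ← hτ _ (mul_mem (hR j hj) (hR k hk)),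
        hmul _ _ (hR j hj) (hR k hk), h'.co_mul _ (hQ' _ (hR j hj)) _ (hQ' _ (hR k hk)), hτ _ (hR j hj), hτ _ (hR k hk), hRc j hj, hRc k hk]
    · have e : F (R k * R k) (mul_mem (hR k hk) (hR k hk)) = pw z' (qn k) := by
        have e0 := h.sq _ (hR k hk)
        rw [hRc k hk] at e0
        cases hb : qn k <;> rw [hb] at e0
        · simp only [e0]
          exact congrArg Subtype.val (map_one f)
        · simp only [e0]
          exact hz
      rw [hmul _ _ (hR k hk) (hR k hk), h'.sq _ (hQ' _ (hR k hk)), hτ _ (hR k hk), hRc k hk] at e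
      cases h1 : qn (τ k) <;> cases h2 : qn k <;> rw [h1, h2] at e <;>
        first | rfl | exact absurd e h'.es.ne | exact absurd e.symm h'.es.ne
  obtain ⟨i, hi, hτi⟩ := exists_rA hτiso fun w hw => by
    obtain ⟨r, hr, e⟩ := h.co_surj w (wB_spec w hw).1
    rw [← e, ← hτ r hr]
    exact (hlow r ⟨hr, by rw [e]; exact (wB_spec w hw).2⟩).2
  obtain ⟨a, ha, hai⟩ := exists_lift h' hi
  set c : ↥(NA h') := ⟨a, Subgroup.le_normalizer ha⟩
  refine ⟨f.trans (MulAut.conj c⁻¹), fun s hs => ?_, fun q hq => ?_⟩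
  · show a⁻¹ * (f ⟨B.el s, B.el_NA s⟩ : G') * a⁻¹⁻¹ = _
    rw [hf s hs, (AG_abelian C' (inv_mem ha) (B'.el_mem s)).eq, mul_inv_cancel_right]
  · show a⁻¹ * F q hq * a⁻¹⁻¹ ∈ Q' ∧ co' (a⁻¹ * F q hq * a⁻¹⁻¹) = co q
    have haz := (AG_z h' ha).inv_left
    refine ⟨h'.norm _ haz _ (hQ' q hq), ?_⟩
    rw [h'.conj _ haz _ (hQ' q hq), hτ q hq, hτi _ (h.co_lt q hq), ← hai _ (h.co_lt q hq),
      h'.ac_inv (AG_z h' ha) (h.co_lt q hq)]

end Base

end Cfsg.Agent.Lib.Co1Golay43
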