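import Cfsg.Agent.Lib.Co1Golay43.Parity
import Cfsg.Agent.Lib.Co1Type31.Main

/-!
# Conway type: choosing the coordinates of the good class of maximal singular subspaces

Interchanging the bits of `64` and `128` is an outer automorphism of the coded space, so the middle
element may be assumed to centralize a lift of `64`.

Owner: helper43.
-/

set_option autoImplicit false
set_option maxRecDepth 100000

namespace Cfsg.Agent.Lib.Co1Golay43

open Cfsg.Agent.Lib.Co1Type31

/-- the interchange of `64` and `128` -/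
def sw (k : ℕ) : ℕ := (k &&& 63) ^^^ ((k &&& 64) <<< 1) ^^^ ((k &&& 128) >>> 1)

theorem sw_xor (j k : ℕ) : sw (j ^^^ k) = sw j ^^^ sw k := by
  simp only [sw, Nat.and_xor_distrib_right, Nat.shiftLeft_xor_distrib, Nat.shiftRight_xor_distrib]
  ac_rfl

theorem sw_spec : ∀ k < 256, sw k < 256 ∧ sw (sw k) = k ∧ qn (sw k) = qn k ∧ b1 (sw k) = b1 k ∧
    (sw k = 0 ↔ k = 0) := by decide +kernel

theorem sw_fixed : sw 1 = 1 ∧ sw 4 = 4 ∧ sw 16 = 16 ∧ sw 64 = 128 ∧ sw 128 = 64 := by decide +kernel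

theorem bn_sw {j k : ℕ} (hj : j < 256) (hk : k < 256) : bn (sw j) (sw k) = bn j k := by
  rw [bn_def, bn_def, ← sw_xor, (sw_spec _ (xor_lt hj hk)).2.2.1, (sw_spec j hj).2.2.1, (sw_spec k hk).2.2.1]

theorem sw_refl {v k : ℕ} (hv : v < 256) (hk : k < 256) : sw (refl v k) = refl (sw v) (sw k) := by
  simp only [Co1Type31.refl, bn_sw hv hk]
  cases bn v k
  · rfl
  · exact sw_xor _ _

theorem sw_eich_aux : w6.all (fun a => w6.contains (sw a) &&
    agree (fun k => sw (eich a (sw k))) (eich (sw a))) = true := by decide +kernel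

theorem sw_rho_aux : agree (fun k => sw (sg 4 16 (sw k))) (sg 4 16) = true := by decide +kernel

theorem sw_lin : Lin8 sw := ⟨fun k hk => (sw_spec k hk).1, fun j _ k _ => sw_xor j k⟩

variable {G : Type*} [Group G] {z : G} {Q : Subgroup G} {co : G → ℕ} {ac : G → ℕ → ℕ}

/-- the swapped code -/
def coS (co : G → ℕ) (g : G) : ℕ := sw (co g)

/-- the swapped action -/
def acS (ac : G → ℕ → ℕ) (g : G) (k : ℕ) : ℕ := sw (ac g (sw k))

theorem frame_sw (h : Frame z Q co ac) : Frame z Q (coS co) (acS ac) where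
  ord := h.ord
  es := h.es
  cent := h.cent
  norm := h.norm
  card := h.card
  cardC := h.cardC
  co_lt q hq := (sw_spec _ (h.co_lt q hq)).1
  co_mul q hq r hr := by rw [coS, h.co_mul q hq r hr]; exact sw_xor _ _
  co_zero q hq e := h.co_zero q hq ((sw_spec _ (h.co_lt q hq)).2.2.2.2.1 e)
  co_surj k hk := by
    obtain ⟨q, hq, e⟩ := h.co_surj (sw k) (sw_spec k hk).1
    exact ⟨q, hq, by rw [coS, e, (sw_spec k hk).2.1]⟩
  sq q hq := by rw [coS, (sw_spec _ (h.co_lt q hq)).2.2.1]; exact h.sq q hq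
  conj c hc q hq := by rw [coS, h.conj c hc q hq, acS, coS, (sw_spec _ (h.co_lt q hq)).2.1]
  faithful c hc hk := h.faithful c hc fun k hkl => by
    obtain ⟨l1, l2, -⟩ := sw_spec k hkl
    have e := congrArg sw (hk (sw k) l1)
    rwa [acS, l2, (sw_spec _ (h.ac_lt hc hkl)).2.1] at e
  exists_pair v hv w hw qv qw := by
    obtain ⟨v1, v2, v3, -⟩ := sw_spec v hv
    obtain ⟨w1, w2, w3, -⟩ := sw_spec w hw
    obtain ⟨c, hc, hck⟩ := h.exists_pair (sw v) v1 (sw w) w1 (v3.trans qv) (w3.trans qw)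
    refine ⟨c, hc, fun k hk => ?_⟩
    obtain ⟨k1, k2, -⟩ := sw_spec k hk
    rw [acS, hck _ k1]
    show sw (refl (sw v) (refl (sw w) (sw k))) = refl v (refl w k)
    rw [sw_refl v1 (refl_lt w1 k1), sw_refl w1 k1, v2, w2, k2]
  not_refl c hc v hv qv hall := by
    obtain ⟨v1, v2, v3, -⟩ := sw_spec v hv
    refine h.not_refl c hc (sw v) v1 (v3.trans qv) fun k hk => ?_
    obtain ⟨k1, k2, -⟩ := sw_spec k hk
    have e := congrArg sw (hall (sw k) k1)
    rw [acS, k2, (sw_spec _ (h.ac_lt hc hk)).2.1, sw_refl hv k1, k2] at e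
    exact e

variable {x n : G}

theorem duo_sw (d : Duo z Q co ac x n) : Duo z Q (coS co) (acS ac) x n :=
  ⟨frame_sw d.fr, d.xQ, by rw [coS, d.cox]; exact sw_fixed.1, d.nz, d.nx⟩

/-- The configuration: a middle element which centralizes lifts of `4, 16, 64` and moves one of `128` by `z`. -/
structure Cfg (z : G) (Q : Subgroup G) (co : G → ℕ) (ac : G → ℕ → ℕ) (x n m : G) : Prop where
  duo : Duo z Q co ac x n
  mid : Mid Q co ac z m
  good : Mv Q ac n z m 64 1
  bad : Mv Q ac n z m 128 z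

theorem zp_val : ∀ {z x : G}, zp z x true = z ∧ zp z x false = 1 := fun {z x} => by
  simp [zp, ee, pw]

theorem exists_cfg [Finite G] (d : Duo z Q co ac x n) :
    ∃ (co' : G → ℕ) (ac' : G → ℕ → ℕ) (m : G), Cfg z Q co' ac' x n m := by
  obtain ⟨m, hm, y, hy, hs⟩ := exists_sign d
  rcases hy with rfl | rfl
  · refine ⟨co, ac, m, d, hm, ?_, ?_⟩
    · have := hs 64 (by decide)
      rwa [show bn 64 64 = false by decide +kernel, zp_val.2] at this
    · have := hs 128 (by decide)
      rwa [show bn 64 128 = true by decide +kernel, zp_val.1] at this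
  · refine ⟨coS co, acS ac, m, duo_sw d, ⟨hm.comm, hm.sq, fun k hk => ?_, fun r hr h1 h2 => ?_⟩, ?_, ?_⟩
    · obtain ⟨k1, -⟩ := sw_spec k hk
      rw [acS, hm.act _ k1]
      exact (sw_lin.comp (rho_lin.comp sw_lin)).ext rho_lin sw_rho_aux k hk
    · have hl := d.fr.co_lt r hr
      rw [coS, show (4 : ℕ) = sw 4 by decide, bn_sw hl (by norm_num)] at h1
      rw [coS, show (16 : ℕ) = sw 16 by decide, bn_sw hl (by norm_num)] at h2
      exact hm.cent r hr h1 h2
    all_goals intro u hu hua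
    all_goals
      have hact : ∀ a ∈ w6, (∀ k < 256, acS ac u k = eich a k) → Act ac u (sw a) := by
        intro a ha he k hk
        obtain ⟨k1, k2, -⟩ := sw_spec k hk
        obtain ⟨hmem, hag⟩ := Bool.and_eq_true_iff.1 (List.all_eq_true.1 sw_eich_aux a ha)
        have e := congrArg sw (he (sw k) k1)
        rw [acS, k2, (sw_spec _ (d.fr.ac_lt hu.2 hk)).2.1] at e
        rw [e]
        exact (sw_lin.comp ((eich_lin (lt_of_w6 ha)).comp sw_lin)).ext
          (eich_lin (lt_of_w6 (List.contains_iff_mem.1 hmem))) hag k hk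
    · have := hs (sw 64) (by decide) u hu (hact 64 (by decide) hua)
      rwa [show bn 128 (sw 64) = false by decide +kernel, zp_val.2] at this
    · have := hs (sw 128) (by decide) u hu (hact 128 (by decide) hua)
      rwa [show bn 128 (sw 128) = true by decide +kernel, zp_val.1] at this

end Cfsg.Agent.Lib.Co1Golay43
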