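import Cfsg.Agent.Lib.Co1Golay43.Check
import Cfsg.Agent.Lib.Co1Golay43.Orient

/-!
# Conway type: the elementary abelian group of order `2^11`

`E` lies over the maximal singular subspace spanned by `1, 4, 16, 64`; `A` is its centralizer, and is
elementary abelian as the lifts of two pairs of lines commute.

Owner: helper43.
-/

set_option autoImplicit false
set_option maxRecDepth 100000

namespace Cfsg.Agent.Lib.Co1Golay43

open Cfsg.Agent.Lib.Co1Type31

variable {G : Type*} [Group G]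

theorem base_lines : agree (rA 1) (eich 4) = true ∧ agree (rA 2) (eich 16) = true ∧
    agree (rA 4) (eich 64) = true ∧ agree (rA 8) (sg 4 16) = true ∧
    (∀ a ∈ [4, 16, 64], a ∈ w6 ∧ bn a 1 = false ∧ qn a = false ∧ ∀ w ∈ wB, bn a (w &&& 252) = false) := by
  decide +kernel

theorem bit_step : ∀ i < 64, i ≠ 0 → ∃ j < 6, i ^^^ 2 ^ j < i := by decide +kernel

theorem ind64 {P : ℕ → Prop} (h0 : P 0) (hs : ∀ i < 64, ∀ j < 6, P i → P (i ^^^ 2 ^ j)) : ∀ i < 64, P i := by
  intro i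
  induction i using Nat.strong_induction_on with
  | _ i ih =>
    intro hi
    rcases eq_or_ne i 0 with rfl | h
    · exact h0
    · obtain ⟨j, hj, hlt⟩ := bit_step i hi h
      have := hs _ (hlt.trans hi) j hj (ih _ hlt (hlt.trans hi))
      rwa [Nat.xor_assoc, Nat.xor_self, Nat.xor_zero] at this

theorem gr_lt {g i : ℕ} (hg : g < 2) (hi : i < 64) : gr g i < 64 := ((genW_spec g hg).2.2 i hi).1

theorem grW_lt : ∀ {l : List ℕ}, (∀ g ∈ l, g < 2) → ∀ {i : ℕ}, i < 64 → grW l i < 64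
  | [], _, _, hi => hi
  | _ :: _, h, _, hi => gr_lt (h _ (List.mem_cons_self ..)) (grW_lt (fun g hg => h g (List.mem_cons_of_mem _ hg)) hi)

variable {z : G} {Q : Subgroup G} {co : G → ℕ} {ac : G → ℕ → ℕ}

/-- The elements over the singular subspace. -/
def EG (h : Frame z Q co ac) : Subgroup G where
  carrier := {r | r ∈ Q ∧ inW (co r) = true}
  one_mem' := ⟨one_mem Q, by rw [h.co_one]; rfl⟩
  mul_mem' := fun {a b} ha hb => ⟨mul_mem ha.1 hb.1, by rw [h.co_mul a ha.1 b hb.1]; exact inW_xor ha.2 hb.2⟩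
  inv_mem' := fun {a} ha => ⟨inv_mem ha.1, by rw [h.co_inv ha.1]; exact ha.2⟩

/-- Their centralizer. -/
def AG (h : Frame z Q co ac) : Subgroup G := Subgroup.centralizer (EG h : Set G)

/-- `a` acts as the coded element `i` of the radical. -/
def ActA (ac : G → ℕ → ℕ) (a : G) (i : ℕ) : Prop := ∀ k < 256, ac a k = rA i k

section frame

variable (h : Frame z Q co ac)
include h

theorem mem_EG {r : G} : r ∈ EG h ↔ r ∈ Q ∧ inW (co r) = true := Iff.rfl

theorem z_EG : z ∈ EG h := ⟨h.es.mem, by rw [h.co_z]; rfl⟩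

theorem EG_comm {r s : G} (hr : r ∈ EG h) (hs : s ∈ EG h) : Commute r s := by
  have key : ∀ j < 256, inW j = true → ∀ k < 256, inW k = true → bn j k = false := by decide +kernel
  exact (h.commute_Q hr.1 hs.1).2 (key _ (h.co_lt r hr.1) hr.2 _ (h.co_lt s hs.1) hs.2)

theorem EG_sq {r : G} (hr : r ∈ EG h) : r * r = 1 := by
  rw [h.sq r hr.1, inW_qn _ (h.co_lt r hr.1) hr.2]
  rfl

theorem EG_le_AG : EG h ≤ AG h := fun r hr =>
  Subgroup.mem_centralizer_iff.2 fun s hs => (EG_comm h hs hr).eq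

theorem AG_comm {a r : G} (ha : a ∈ AG h) (hr : r ∈ EG h) : Commute a r :=
  (Subgroup.mem_centralizer_iff.1 ha r hr).symm

theorem AG_z {a : G} (ha : a ∈ AG h) : Commute a z := AG_comm h ha (z_EG h)

theorem inter_Q {q : G} (hq : q ∈ Q) (ha : q ∈ AG h) : q ∈ EG h := by
  refine ⟨hq, (inW_iff (h.co_lt q hq)).2 fun w hw => ?_⟩
  obtain ⟨r, hr, e⟩ := h.co_surj w (wB_spec w hw).1
  rw [← e]
  exact (h.commute_Q hq hr).1 (AG_comm h ha ⟨hr, by rw [e]; exact (wB_spec w hw).2⟩)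

theorem exists_actA {a : G} (ha : a ∈ AG h) : ∃ i < 64, ActA ac a i := by
  have hz := AG_z h ha
  refine exists_rA (h.iso hz) fun w hw => ?_
  obtain ⟨r, hr, e⟩ := h.co_surj w (wB_spec w hw).1
  have hc := AG_comm h ha ⟨hr, by rw [e]; exact (wB_spec w hw).2⟩
  have := h.conj a hz r hr
  rwa [mul_inv_eq_iff_eq_mul.2 hc.eq, e, eq_comm] at this

theorem exists_root {j : ℕ} (hj : j < 6) : ∃ c, Commute c z ∧ ∀ k < 256, ac c k = rA (2 ^ j) k := by
  have hs := List.all_eq_true.1 rootW_spec j (List.mem_range.2 hj)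
  rw [Bool.and_eq_true] at hs
  obtain ⟨c, hc, hck⟩ := h.exists_prs hs.1
  exact ⟨c, hc, fun k hk => (hck k hk).trans ((prs_lin hs.1).ext (rA_lin _) hs.2 k hk)⟩

/-- An element centralizing lifts of the four basis vectors is in `A`. -/
theorem mem_AG_of {a : G} (haz : Commute a z)
    (ha : ∀ w ∈ wB, ∃ r ∈ Q, co r = w ∧ Commute a r) : a ∈ AG h := by
  refine Subgroup.mem_centralizer_iff.2 fun r hr => ?_
  let P : ℕ → Prop := fun k => ∃ s ∈ Q, co s = k ∧ Commute a s
  have h0 : P 0 := ⟨1, one_mem Q, h.co_one, Commute.one_right a⟩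
  have hm : ∀ {j k}, P j → P k → P (j ^^^ k) := fun {j k} ⟨s, hs, es, cs⟩ ⟨t, ht, et, ct⟩ =>
    ⟨s * t, mul_mem hs ht, by rw [h.co_mul s hs t ht, es, et], cs.mul_right ct⟩
  have hb : ∀ (b : Bool) (w : ℕ), w ∈ wB → P (bif b then w else 0) := by
    intro b w hw
    cases b
    · exact h0
    · obtain ⟨s, hs, es, cs⟩ := ha w hw
      exact ⟨s, hs, es, cs⟩
  obtain ⟨s, hs, es, cs⟩ : P (co r) := by
    rw [inW_gen _ (h.co_lt r hr.1) hr.2]
    exact hm (hm (hm (hb _ 1 (by decide)) (hb _ 4 (by decide))) (hb _ 16 (by decide))) (hb _ 64 (by decide))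
  rcases h.co_eq hs hr.1 es with e | e <;> subst e
  · exact cs.eq.symm
  · exact (cs.mul_right haz).eq.symm

theorem exists_lift {i : ℕ} (hi : i < 64) : ∃ a ∈ AG h, ActA ac a i := by
  obtain ⟨c, hc, hck⟩ : ∃ c, Commute c z ∧ ∀ k < 256, ac c k = rA i k := by
    refine ind64 (P := fun i => ∃ c, Commute c z ∧ ∀ k < 256, ac c k = rA i k)
      ⟨1, Commute.one_left z, fun k hk => by rw [h.ac_Q (one_mem Q) hk, rA_zero hk]⟩ (fun i hi j hj h' => ?_) i hi
    obtain ⟨c, hc, hck⟩ := h'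
    obtain ⟨e, he, hek⟩ := exists_root h hj
    refine ⟨c * e, hc.mul_left he, fun k hk => ?_⟩
    rw [h.ac_mul hc he hk, hek k hk, hck _ ((rA_lin _).lt k hk), rA_mul hi
      (lt_of_lt_of_le (Nat.pow_lt_pow_right (by norm_num) hj) (by norm_num)) hk]
  have hR : ∀ w ∈ wB, ∃ r, r ∈ Q ∧ co r = w := fun w hw => h.co_surj w (wB_spec w hw).1
  choose! R hRQ hRc using hR
  -- the sign of each basis lift
  have hsign : ∀ w ∈ wB, ∃ b : Bool, c * R w * c⁻¹ = R w * pw z b := by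
    intro w hw
    have e : co (c * R w * c⁻¹) = co (R w) := by
      rw [h.conj c hc _ (hRQ w hw), hRc w hw, hck w (wB_spec w hw).1, rA_fix i hi w hw]
    rcases h.co_eq (hRQ w hw) (h.norm c hc _ (hRQ w hw)) e.symm with e' | e'
    exacts [⟨false, e'.trans (mul_one _).symm⟩, ⟨true, e'⟩]
  choose! t ht using hsign
  have key : ∀ b1 b2 b3 b4 : Bool, ∃ d < 256, bn d 1 = b1 ∧ bn d 4 = b2 ∧ bn d 16 = b3 ∧ bn d 64 = b4 := by
    decide +kernel
  obtain ⟨d, hd, d1, d4, d16, d64⟩ := key (t 1) (t 4) (t 16) (t 64)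
  obtain ⟨q, hq, hqc⟩ := h.co_surj d hd
  have hqz := h.es.comm q hq
  refine ⟨c * q, mem_AG_of h (hc.mul_left hqz) fun w hw => ⟨R w, hRQ w hw, hRc w hw, ?_⟩, fun k hk => ?_⟩
  · have hb : bn (co q) (co (R w)) = t w := by
      rw [hqc, hRc w hw]
      simp only [wB, List.mem_cons, List.not_mem_nil, or_false] at hw
      rcases hw with rfl | rfl | rfl | rfl <;> assumption
    refine mul_inv_eq_iff_eq_mul.1 ?_
    calc c * q * R w * (c * q)⁻¹ = c * (q * R w * q⁻¹) * c⁻¹ := by group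
      _ = (c * R w * c⁻¹) * (c * pw z (t w) * c⁻¹) := by rw [h.comm_Q hq (hRQ w hw), hb]; group
      _ = R w := by
        rw [ht w hw]
        cases t w
        · simp [pw]
        · show R w * z * (c * z * c⁻¹) = R w
          rw [mul_inv_eq_iff_eq_mul.2 hc.eq, mul_assoc, h.es.sq, mul_one]
  · rw [h.ac_mul hc hqz hk, h.ac_Q hq hk, hck k hk]

theorem actA_quot {a b : G} {i : ℕ} (ha : a ∈ AG h) (hb : b ∈ AG h) (hai : ActA ac a i) (hbi : ActA ac b i) :
    a⁻¹ * b ∈ EG h := by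
  refine inter_Q h (h.faithful _ ((AG_z h ha).inv_left.mul_left (AG_z h hb)) fun k hk => ?_)
    (mul_mem (inv_mem ha) hb)
  rw [h.ac_mul (AG_z h ha).inv_left (AG_z h hb) hk, hbi k hk, ← hai k hk, h.ac_inv (AG_z h ha) hk]

theorem actA_mul {a b : G} {i j : ℕ} (ha : a ∈ AG h) (hb : b ∈ AG h) (hi : i < 64) (hj : j < 64)
    (hai : ActA ac a i) (hbj : ActA ac b j) : ActA ac (a * b) (i ^^^ j) := fun k hk => by
  rw [h.ac_mul (AG_z h ha) (AG_z h hb) hk, hbj k hk, hai _ ((rA_lin j).lt k hk), rA_mul hi hj hk]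

/-- Elements of `C(z)` acting as a generator of the complement. -/
theorem exists_gen {g : ℕ} (hg : g < 2) : ∃ c, Commute c z ∧ ∀ k < 256, ac c k = prs (genW.getD g []) k :=
  h.exists_prs (genW_spec g hg).1

theorem gen_EG {g : ℕ} (hg : g < 2) {c : G} (hc : Commute c z) (hck : ∀ k < 256, ac c k = prs (genW.getD g []) k)
    {r : G} (hr : r ∈ EG h) : c * r * c⁻¹ ∈ EG h := by
  obtain ⟨hok, hW, -⟩ := genW_spec g hg
  have hl := prs_lin hok
  refine ⟨h.norm c hc r hr.1, ?_⟩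
  rw [h.conj c hc r hr.1, hck _ (h.co_lt r hr.1), inW_gen _ (h.co_lt r hr.1) hr.2]
  have hlt : ∀ (b : Bool) (w : ℕ), w ∈ wB → (bif b then w else 0) < 256 := fun b w hw => by
    cases b
    · exact Nat.zero_lt_succ _
    · exact (wB_spec w hw).1
  have hb : ∀ (b : Bool) (w : ℕ), w ∈ wB → inW (prs (genW.getD g []) (bif b then w else 0)) = true :=
    fun b w hw => by
    cases b
    · rw [cond_false, hl.zero]; rfl
    · exact hW w hw
  have l1 := hlt ((co r).testBit 0) 1 (by decide)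
  have l2 := hlt ((co r).testBit 2) 4 (by decide)
  have l3 := hlt ((co r).testBit 4) 16 (by decide)
  rw [hl.add _ (xor_lt (xor_lt l1 l2) l3) _ (hlt _ 64 (by decide)), hl.add _ (xor_lt l1 l2) _ l3,
    hl.add _ l1 _ l2]
  exact inW_xor (inW_xor (inW_xor (hb _ 1 (by decide)) (hb _ 4 (by decide))) (hb _ 16 (by decide)))
    (hb _ 64 (by decide))

theorem gen_AG [Finite G] {g : ℕ} (hg : g < 2) {c : G} (hc : Commute c z)
    (hck : ∀ k < 256, ac c k = prs (genW.getD g []) k) {a : G} (ha : a ∈ AG h) : c * a * c⁻¹ ∈ AG h := by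
  have hE : (EG h).map (MulAut.conj c).toMonoidHom = EG h := by
    refine Subgroup.eq_of_le_of_card_ge ?_ (le_of_eq (Subgroup.card_map_of_injective (MulAut.conj c).injective).symm)
    rintro _ ⟨r, hr, rfl⟩
    exact gen_EG h hg hc hck hr
  refine Subgroup.mem_centralizer_iff.2 fun s hs => ?_
  rw [SetLike.mem_coe, ← hE] at hs
  obtain ⟨r, hr, rfl⟩ := hs
  exact ((AG_comm h ha hr).map (MulAut.conj c).toMonoidHom).eq.symm

theorem actA_conj {g : ℕ} (hg : g < 2) {c : G} (hc : Commute c z)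
    (hck : ∀ k < 256, ac c k = prs (genW.getD g []) k) {a : G} (ha : a ∈ AG h) {i : ℕ} (hi : i < 64)
    (hai : ActA ac a i) : ActA ac (c * a * c⁻¹) (gr g i) := by
  intro k hk
  obtain ⟨hok, -, hcomm⟩ := genW_spec g hg
  have hk' := h.ac_lt hc.inv_left hk
  rw [h.ac_conj (AG_z h ha) hc hk, hai _ hk', hck _ ((rA_lin i).lt _ hk'),
    ((prs_lin hok).comp (rA_lin i)).ext ((rA_lin _).comp (prs_lin hok)) (hcomm i hi).2 _ hk',
    ← hck _ hk', h.ac_inv' hc hk]

/-- Lifts of `i` and `j` commute. -/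
def CommP (i j : ℕ) : Prop := ∀ a ∈ AG h, ∀ b ∈ AG h, ActA ac a i → ActA ac b j → Commute a b

theorem commP_of {i j : ℕ} {a b : G} (ha : a ∈ AG h) (hb : b ∈ AG h) (hai : ActA ac a i) (hbj : ActA ac b j)
    (hab : Commute a b) : CommP h i j := by
  intro a' ha' b' hb' hai' hbj'
  have e1 := actA_quot h ha ha' hai hai'
  have e2 := actA_quot h hb hb' hbj hbj'
  rw [show a' = a * (a⁻¹ * a') by group, show b' = b * (b⁻¹ * b') by group]
  exact (hab.mul_right (AG_comm h ha e2)).mul_left ((AG_comm h hb e1).symm.mul_right (EG_comm h e1 e2))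

theorem commP_symm {i j : ℕ} (hij : CommP h i j) : CommP h j i :=
  fun a ha b hb hai hbj => (hij b hb a ha hbj hai).symm

theorem commP_word [Finite G] : ∀ {l : List ℕ}, (∀ g ∈ l, g < 2) → ∀ {i j : ℕ}, i < 64 → j < 64 →
    CommP h i j → CommP h (grW l i) (grW l j)
  | [], _, _, _, _, _, hij => hij
  | g :: l, hl, i, j, hi, hj, hij => by
    have hl' : ∀ g ∈ l, g < 2 := fun g hg => hl g (List.mem_cons_of_mem _ hg)
    have hg := hl g (List.mem_cons_self ..)
    have hij' := commP_word hl' hi hj hij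
    obtain ⟨c, hc, hck⟩ := exists_gen h hg
    obtain ⟨a, ha, hai⟩ := exists_lift h (grW_lt hl' hi)
    obtain ⟨b, hb, hbj⟩ := exists_lift h (grW_lt hl' hj)
    exact commP_of h (gen_AG h hg hc hck ha) (gen_AG h hg hc hck hb)
      (actA_conj h hg hc hck ha (grW_lt hl' hi) hai) (actA_conj h hg hc hck hb (grW_lt hl' hj) hbj)
      ((hij' a ha b hb hai hbj).map (MulAut.conj c).toMonoidHom)

/-- Lifts of `i` are involutions. -/
def SqP (i : ℕ) : Prop := ∀ a ∈ AG h, ActA ac a i → a * a = 1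

theorem sqP_of {i : ℕ} {a : G} (ha : a ∈ AG h) (hai : ActA ac a i) (haa : a * a = 1) : SqP h i := by
  intro a' ha' hai'
  have e1 := actA_quot h ha ha' hai hai'
  rw [show a' * a' = a * ((a⁻¹ * a') * a) * (a⁻¹ * a') by group, (AG_comm h ha e1).symm.eq,
    show a * (a * (a⁻¹ * a')) * (a⁻¹ * a') = (a * a) * ((a⁻¹ * a') * (a⁻¹ * a')) by group, haa,
    EG_sq h e1, one_mul]

theorem sqP_word [Finite G] : ∀ {l : List ℕ}, (∀ g ∈ l, g < 2) → ∀ {i : ℕ}, i < 64 →
    SqP h i → SqP h (grW l i)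
  | [], _, _, _, hi => hi
  | g :: l, hl, i, hi, hsq => by
    have hl' : ∀ g ∈ l, g < 2 := fun g hg => hl g (List.mem_cons_of_mem _ hg)
    have hg := hl g (List.mem_cons_self ..)
    obtain ⟨c, hc, hck⟩ := exists_gen h hg
    obtain ⟨a, ha, hai⟩ := exists_lift h (grW_lt hl' hi)
    refine sqP_of h (gen_AG h hg hc hck ha) (actA_conj h hg hc hck ha (grW_lt hl' hi) hai) ?_
    rw [show c * a * c⁻¹ * (c * a * c⁻¹) = c * (a * a) * c⁻¹ by group, sqP_word hl' hi hsq a ha hai]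
    group

end frame

variable {x n m : G} (C : Cfg z Q co ac x n m)
include C

theorem inB_AG {a i : ℕ} (ha : a ∈ [4, 16, 64]) (hag : agree (rA i) (eich a) = true) {u : G}
    (hu : InB Q n z u) (hua : Act ac u a) : u ∈ AG C.duo.fr ∧ ActA ac u i := by
  obtain ⟨ha6, -, -, hperp⟩ := base_lines.2.2.2.2 a ha
  refine ⟨mem_AG_of C.duo.fr hu.2 fun w hw => ?_, fun k hk => ?_⟩
  · obtain ⟨r, hr, e⟩ := C.duo.fr.co_surj w (wB_spec w hw).1
    have hb1 : ∀ w ∈ wB, b1 w = false := by decide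
    have hrA : InA Q co r := ⟨hr, by rw [e]; exact hb1 w hw⟩
    refine ⟨r, hr, e, ?_⟩
    have hc := C.duo.com_act a ha6 u r hu hua hrA
    rw [← bn_mask ha6 (C.duo.fr.co_lt r hr) hrA.2, e, hperp w hw, C.duo.ee_zero] at hc
    exact (mul_inv_eq_iff_eq_mul.1 (mul_inv_eq_one.1 hc)).symm
  · rw [hua k hk, (rA_lin i).ext (eich_lin (lt_of_w6 ha6)) hag k hk]

theorem mid_AG : m ∈ AG C.duo.fr ∧ ActA ac m 8 := by
  refine ⟨mem_AG_of C.duo.fr C.mid.comm fun w hw => ?_, fun k hk => ?_⟩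
  · obtain ⟨r, hr, e⟩ := C.duo.fr.co_surj w (wB_spec w hw).1
    have key : ∀ w ∈ wB, bn w 4 = false ∧ bn w 16 = false := by decide +kernel
    obtain ⟨k1, k2⟩ := key w hw
    exact ⟨r, hr, e, (C.mid.cent r hr (by rw [e]; exact k1) (by rw [e]; exact k2)).symm⟩
  · rw [C.mid.act k hk, (rA_lin 8).ext rho_lin base_lines.2.2.2.1 k hk]

theorem commP_all [Finite G] {i j : ℕ} (hi : i < 64) (hj : j < 64) : CommP C.duo.fr i j := by
  set h := C.duo.fr
  obtain ⟨g1, g2, g4, -, -⟩ := base_lines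
  obtain ⟨u4, hu4, hu4a⟩ := C.duo.lift 4 (by decide +kernel)
  obtain ⟨u16, hu16, hu16a⟩ := C.duo.lift 16 (by decide +kernel)
  obtain ⟨u64, hu64, hu64a⟩ := C.duo.lift 64 (by decide +kernel)
  obtain ⟨a4, b4⟩ := inB_AG C (a := 4) (by simp) g1 hu4 hu4a
  obtain ⟨a16, b16⟩ := inB_AG C (a := 16) (by simp) g2 hu16 hu16a
  obtain ⟨a64, b64⟩ := inB_AG C (a := 64) (by simp) g4 hu64 hu64a
  obtain ⟨am, bm⟩ := mid_AG C
  have h12 : CommP h 1 2 := by
    refine commP_of h a4 a16 b4 b16 ?_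
    have e := C.duo.com_BB (by decide +kernel) (by decide +kernel) hu4 hu16 hu4a hu16a
    rw [show bn 4 16 = false by decide +kernel] at e
    exact mul_inv_eq_iff_eq_mul.1 (mul_inv_eq_one.1 e)
  have h48 : CommP h 4 8 := by
    refine commP_of h a64 am b64 bm ?_
    have e := C.good u64 hu64 hu64a
    rw [mul_one] at e
    exact (mul_inv_eq_iff_eq_mul.1 e : Commute m u64).symm
  have hsingle : ∀ i < 6, ∀ j < 6, CommP h (2 ^ i) (2 ^ j) := by
    intro i hi j hj
    rcases eq_or_ne i j with rfl | hne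
    · intro a ha b hb hai hbi
      have e1 := actA_quot h ha hb hai hbi
      rw [show b = a * (a⁻¹ * b) by group]
      exact (Commute.refl a).mul_right (AG_comm h ha e1)
    · obtain ⟨e, he, hor⟩ := pairWords_cover i hi j hj hne
      have hs := List.all_eq_true.1 pairWords_spec e he
      simp only [Bool.and_eq_true, Bool.or_eq_true, beq_iff_eq, List.all_eq_true, decide_eq_true_eq] at hs
      obtain ⟨⟨⟨hb, w1⟩, w2⟩, hl⟩ := hs
      have hbase : CommP h (grW e.2.2 e.1.1) (grW e.2.2 e.1.2) := by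
        rcases hb with hb | hb <;> rw [hb]
        · exact commP_word h hl (by norm_num) (by norm_num) h12
        · exact commP_word h hl (by norm_num) (by norm_num) h48
      rw [Nat.eq_of_beq_eq_true w1, Nat.eq_of_beq_eq_true w2] at hbase
      rcases hor with ⟨p1, p2⟩ | ⟨p1, p2⟩
      · rwa [p1, p2] at hbase
      · rw [p1, p2] at hbase; exact commP_symm h hbase
  have hpow : ∀ {j}, j < 6 → 2 ^ j < 64 := fun hj =>
    lt_of_lt_of_le (Nat.pow_lt_pow_right (by norm_num) hj) (by norm_num)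
  have hadd : ∀ {k l j}, k < 64 → l < 64 → CommP h k j → CommP h l j → CommP h (k ^^^ l) j := by
    intro k l j hk hl h1 h2 a ha b hb hai hbj
    obtain ⟨c, hc, hck⟩ := exists_lift h hk
    have hrest : ActA ac (c⁻¹ * a) l := fun t ht => by
      have hcz := AG_z h hc
      rw [h.ac_mul hcz.inv_left (AG_z h ha) ht, hai t ht, ← rA_mul hk hl ht, ← hck _ ((rA_lin l).lt t ht),
        h.ac_inv hcz ((rA_lin l).lt t ht)]
    rw [show a = c * (c⁻¹ * a) by group]
    exact (h1 c hc b hb hck hbj).mul_left (h2 _ (mul_mem (inv_mem hc) ha) b hb hrest hbj)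
  have hzero : ∀ j, CommP h 0 j := fun j a ha b hb hai _ => by
    have haQ : a ∈ Q := h.faithful a (AG_z h ha) fun k hk => (hai k hk).trans (rA_zero hk)
    exact (AG_comm h hb (inter_Q h haQ ha)).symm
  have hl : ∀ i < 64, ∀ j < 6, CommP h i (2 ^ j) := fun i hi j hj =>
    ind64 (P := fun i => CommP h i (2 ^ j)) (hzero _)
      (fun k hk l hl h' => hadd hk (hpow hl) h' (hsingle l hl j hj)) i hi
  exact ind64 (P := fun j => CommP h i j) (commP_symm h (hzero i))
    (fun k hk l hl' h' => commP_symm h (hadd hk (hpow hl') (commP_symm h h') (commP_symm h (hl i hi l hl')))) j hj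

theorem AG_abelian [Finite G] {a b : G} (ha : a ∈ AG C.duo.fr) (hb : b ∈ AG C.duo.fr) : Commute a b := by
  obtain ⟨i, hi, hai⟩ := exists_actA C.duo.fr ha
  obtain ⟨j, hj, hbj⟩ := exists_actA C.duo.fr hb
  exact commP_all C hi hj a ha b hb hai hbj

theorem AG_sq [Finite G] {a : G} (ha : a ∈ AG C.duo.fr) : a * a = 1 := by
  set h := C.duo.fr
  obtain ⟨u4, hu4, hu4a⟩ := C.duo.lift 4 (by decide +kernel)
  obtain ⟨a4, b4⟩ := inB_AG C (a := 4) (by simp) base_lines.1 hu4 hu4a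
  have h1 : SqP h 1 := sqP_of h a4 b4 (by rw [C.duo.sq_act 4 (by decide +kernel) u4 hu4 hu4a]; rfl)
  have hline : ∀ j < 6, SqP h (2 ^ j) := fun j hj => by
    obtain ⟨e, hl⟩ := lineWords_spec j hj
    rw [← e]
    exact sqP_word h hl (by norm_num) h1
  have hall : ∀ i < 64, SqP h i := by
    refine ind64 (P := SqP h) (fun a ha hai => ?_) fun k hk j hj hk2 a ha hai => ?_
    · exact EG_sq h (inter_Q h (h.faithful a (AG_z h ha) fun k hk => (hai k hk).trans (rA_zero hk)) ha)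
    · obtain ⟨c, hc, hck⟩ := exists_lift h hk
      have hj' : 2 ^ j < 64 := lt_of_lt_of_le (Nat.pow_lt_pow_right (by norm_num) hj) (by norm_num)
      have hrest : ActA ac (c⁻¹ * a) (2 ^ j) := fun t ht => by
        have hcz := AG_z h hc
        rw [h.ac_mul hcz.inv_left (AG_z h ha) ht, hai t ht, ← rA_mul hk hj' ht,
          ← hck _ ((rA_lin _).lt t ht), h.ac_inv hcz ((rA_lin _).lt t ht)]
      have hd := mul_mem (inv_mem hc) ha
      have e1 := hk2 c hc hck
      have e2 := hline j hj _ hd hrest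
      calc a * a = c * ((c⁻¹ * a) * c) * (c⁻¹ * a) := by group
        _ = (c * c) * ((c⁻¹ * a) * (c⁻¹ * a)) := by rw [(AG_abelian C hd hc).eq]; group
        _ = 1 := by rw [e1, e2, one_mul]
  obtain ⟨i, hi, hai⟩ := exists_actA h ha
  exact hall i hi a ha hai

end Cfsg.Agent.Lib.Co1Golay43
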