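import Cfsg.Agent.Lib.Co1Golay43.Walsh
import Cfsg.Agent.Lib.FischerLarge43.Points

/-!
# Conway type: checks on the duality

Owner: helper43.
-/

set_option autoImplicit false
set_option maxRecDepth 100000

namespace Cfsg.Agent.Lib.Co1Golay43

open Cfsg.Agent.Lib.FischerLarge43 (ttList maskOf cb0)

theorem phi_psi : (List.range 11).all (fun j => Nat.beq (lap psiI (lap phiI (2 ^ j))) (2 ^ j) &&
    Nat.beq (lap phiI (lap psiI (2 ^ j))) (2 ^ j) && decide (lap phiI (2 ^ j) < 2048) &&
    decide (lap psiI (2 ^ j) < 2048)) = true := by decide +kernel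

theorem parMask_pow : ∀ i < 11, parMask.testBit (2 ^ i) = true := by decide +kernel

theorem pair11_base : parMask.testBit 0 = false ∧ ∀ i < 11, ∀ w < 2048, pair11 (2 ^ i) w = w.testBit i := by
  refine ⟨par_zero, fun i hi w _ => ?_⟩
  rw [pair11, Nat.and_comm, Nat.and_two_pow]
  cases w.testBit i
  · simpa using par_zero
  · simpa using parMask_pow i hi

/-- the comparison of the counts with the distinguished states -/
def cmpW (T : ℕ) : List (ℕ × ℕ) → ℕ → Bool
  | [], _ => true
  | p :: l, w => (Nat.beq p.2 352 == T.testBit (lap psiI w)) && cmpW T l (w + 1)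

theorem wh_tt : cmpW (maskOf (ttList cb0)) (wh zmask0 11 0) 0 = true := by decide +kernel

theorem cmpW_get {T : ℕ} : ∀ {l : List (ℕ × ℕ)} {k : ℕ}, cmpW T l k = true → ∀ i < l.length,
    Nat.beq (l.getD i (0, 0)).2 352 = T.testBit (lap psiI (k + i))
  | [], _, _, i, hi => absurd hi (Nat.not_lt_zero i)
  | p :: l, k, h, i, hi => by
    rw [cmpW, Bool.and_eq_true, beq_iff_eq] at h
    cases i with
    | zero => simpa using h.1
    | succ i =>
      have := cmpW_get h.2 i (by simpa using hi)
      rw [List.getD_cons_succ, this, show k + 1 + i = k + (i + 1) by omega]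

theorem lap_lt {l : List ℕ} (hl : ∀ j < 11, lap l (2 ^ j) < 2048) : ∀ s < 2048, lap l s < 2048 := by
  refine ind11 (P := fun s => lap l s < 2048) ?_ fun s _ j hj h => ?_
  · have : lap l 0 = 0 := by simpa using lap_xor l 0 0
    omega
  · rw [lap_xor]; exact Nat.xor_lt_two_pow (n := 11) h (hl j hj)

theorem lap_id {l l' : List ℕ} (hl : ∀ j < 11, lap l (lap l' (2 ^ j)) = 2 ^ j) :
    ∀ s < 2048, lap l (lap l' s) = s := by
  refine ind11 (P := fun s => lap l (lap l' s) = s) ?_ fun s _ j hj h => ?_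
  · have h1 : ∀ l : List ℕ, lap l 0 = 0 := fun l => by simpa using lap_xor l 0 0
    rw [h1, h1]
  · rw [lap_xor, lap_xor, h, hl j hj]

theorem phi_bits : ∀ j < 11, lap psiI (lap phiI (2 ^ j)) = 2 ^ j ∧ lap phiI (lap psiI (2 ^ j)) = 2 ^ j ∧
    lap phiI (2 ^ j) < 2048 ∧ lap psiI (2 ^ j) < 2048 := fun j hj => by
  have h := List.all_eq_true.1 phi_psi j (List.mem_range.2 hj)
  simp only [Bool.and_eq_true, decide_eq_true_eq] at h
  exact ⟨Nat.eq_of_beq_eq_true h.1.1.1, Nat.eq_of_beq_eq_true h.1.1.2, h.1.2, h.2⟩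

theorem vcnt_eq (v : ℕ) : vcnt v = cz zmask0 11 0 (lap phiI v) true := by
  rw [vcnt, cz, zlist, List.filter_filter, ← List.countP_eq_length_filter]
  refine List.countP_congr fun a _ => ?_
  rw [pair11, Nat.zero_add]
  cases parMask.testBit (a &&& lap phiI v) <;> cases zmask0.testBit a <;> rfl

theorem tt_count {v : ℕ} (hv : v < 2048) :
    Nat.beq (vcnt v) 352 = (maskOf (ttList cb0)).testBit v := by
  obtain ⟨hlen, hget⟩ := wh_spec zmask0 11 le_rfl 0
  have hw : lap phiI v < 2 ^ 11 := lap_lt (fun j hj => (phi_bits j hj).2.2.1) v hv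
  have h := cmpW_get wh_tt (lap phiI v) (by rw [hlen]; exact hw)
  rw [Nat.zero_add, hget _ hw, lap_id (fun j hj => (phi_bits j hj).1) v hv] at h
  rw [vcnt_eq]
  exact h

theorem f0_spec : (List.range 11).all (fun j => decide (lap f0 (2 ^ j) < 2048) && decide (lap g0 (2 ^ j) < 2048) &&
    decide (lap g0i (2 ^ j) < 2048) && Nat.beq (lap g0i (lap g0 (2 ^ j))) (2 ^ j) &&
    Nat.beq (lap g0 (lap g0i (2 ^ j))) (2 ^ j) &&
    (List.range 11).all fun i => pair11 (lap f0 (2 ^ i)) (lap phiI (lap g0 (2 ^ j))) ==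
      pair11 (2 ^ i) (lap phiI (2 ^ j))) = true := by decide +kernel

theorem g0_tt : (List.range 2048).all (fun v =>
    (maskOf (ttList cb0)).testBit (lap g0 v) == (maskOf (ttList cb0)).testBit v) = true := by decide +kernel

theorem cross_spec : sA < 2048 ∧ decL.contains (sA >>> 5) = true ∧ zmask0.testBit sA = false ∧ sA ≠ 0 ∧
    lap f0 sA = sB ∧ nsL.contains (sB >>> 5) = true ∧ zmask0.testBit sB = false := by decide +kernel

theorem tv_spec : tvW.all (fun ws => Co1Type31.okWord ws &&
    wB.all (fun w => inW (Co1Type31.prs ws w))) = true := by decide +kernel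

/-- the products at one stage fix the earlier vectors and separate -/
def stageOK (k : ℕ) : Bool :=
  let l := stageW.getD k []
  let e := wB.getD k 0
  l.all (fun w => w.all (fun i => decide (i < 12)) &&
    (List.range k).all fun i => Nat.beq (Co1Type31.prs (tvWord w) (wB.getD i 0)) (wB.getD i 0)) &&
  decide ((l.map fun w => Co1Type31.prs (tvWord w) e).Nodup)

theorem stage_spec : [0, 1, 2, 3].all stageOK = true ∧ stageW.map List.length = [15, 14, 12, 8] := by
  decide +kernel

end Cfsg.Agent.Lib.Co1Golay43
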