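import Cfsg.Agent.Lib.Co1Golay43.Signs
import Cfsg.Agent.Lib.Co1Golay43.BridgeCheck

/-!
# Conway type: the normaliser acts on 24 points

An automorphism of the module keeping the orbit of `z` acts on the functionals, keeping those which
are one on 352 elements of the orbit; these are the pairs of 24 points.

Owner: helper43.
-/

set_option autoImplicit false
set_option maxRecDepth 100000
set_option linter.unusedSectionVars false

namespace Cfsg.Agent.Lib.Co1Golay43

open Cfsg.Agent.Lib.Co1Type31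
open Cfsg.Agent.Lib.FischerLarge43 (Auto ttList maskOf cb0 pvF pvF_lt pvF_inj exists_avoid perm_mem_M24)
open Cfsg.Agent.Lib.Golay (indexHom)

/-- the functional of a state of the other module -/
def phi (v : ℕ) : ℕ := lap phiI v

/-- its inverse -/
def psi (w : ℕ) : ℕ := lap psiI w

theorem phi_lt {v : ℕ} (hv : v < 2048) : phi v < 2048 := lap_lt (fun j hj => (phi_bits j hj).2.2.1) v hv
theorem psi_lt {w : ℕ} (hw : w < 2048) : psi w < 2048 := lap_lt (fun j hj => (phi_bits j hj).2.2.2) w hw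
theorem psi_phi {v : ℕ} (hv : v < 2048) : psi (phi v) = v := lap_id (fun j hj => (phi_bits j hj).1) v hv
theorem phi_psi_eq {w : ℕ} (hw : w < 2048) : phi (psi w) = w := lap_id (fun j hj => (phi_bits j hj).2.1) w hw
theorem phi_xor (a b : ℕ) : phi (a ^^^ b) = phi a ^^^ phi b := lap_xor _ a b

theorem parMask_xor : ∀ b < 2048, ∀ a < 2048,
    parMask.testBit (a ^^^ b) = Bool.xor (parMask.testBit a) (parMask.testBit b) :=
  fun b hb a ha => parMask_xor_aux 11 le_rfl a ha b hb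

theorem pair11_xor {a b : ℕ} (ha : a < 2048) (hb : b < 2048) (w : ℕ) :
    pair11 (a ^^^ b) w = Bool.xor (pair11 a w) (pair11 b w) := by
  unfold pair11
  rw [Nat.and_xor_distrib_right]
  exact parMask_xor _ (lt_of_le_of_lt Nat.and_le_left hb) _ (lt_of_le_of_lt Nat.and_le_left ha)

theorem pair11_comm (a w : ℕ) : pair11 a w = pair11 w a := by rw [pair11, pair11, Nat.and_comm]

theorem pair11_zero (w : ℕ) : pair11 0 w = false := by rw [pair11, Nat.zero_and]; exact pair11_base.1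

theorem pair11_ext {w w' : ℕ} (hw : w < 2048) (hw' : w' < 2048)
    (h : ∀ a < 2048, pair11 a w = pair11 a w') : w = w' := by
  refine Nat.eq_of_testBit_eq fun i => ?_
  rcases lt_or_ge i 11 with hi | hi
  · rw [← pair11_base.2 i hi w hw, ← pair11_base.2 i hi w' hw']
    exact h _ (Nat.pow_lt_pow_right (a := 2) (n := 11) (by norm_num) hi)
  · have hp : (2048 : ℕ) ≤ 2 ^ i := Nat.pow_le_pow_right (show 0 < 2 by norm_num) hi
    rw [Nat.testBit_lt_two_pow (hw.trans_le hp), Nat.testBit_lt_two_pow (hw'.trans_le hp)]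

/-- the code of a functional -/
def fcode (χ : ℕ → Bool) : ℕ := Nat.ofBits fun i : Fin 11 => χ (2 ^ (i : ℕ))

theorem fcode_spec {χ : ℕ → Bool} (h : ∀ a < 2048, ∀ b < 2048, χ (a ^^^ b) = Bool.xor (χ a) (χ b)) :
    fcode χ < 2048 ∧ ∀ a < 2048, pair11 a (fcode χ) = χ a := by
  have hlt : fcode χ < 2048 := Nat.ofBits_lt_two_pow _
  refine ⟨hlt, ind11 (P := fun a => pair11 a (fcode χ) = χ a) ?_ fun a ha j hj ih => ?_⟩
  · have h0 := h 0 (by norm_num) 0 (by norm_num)
    rw [Bool.xor_self, Nat.xor_self] at h0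
    rw [pair11_zero, h0]
  · have hp : 2 ^ j < 2048 := Nat.pow_lt_pow_right (a := 2) (n := 11) (by norm_num) hj
    rw [pair11_xor ha hp, ih, pair11_base.2 j hj _ hlt, h a ha _ hp]
    congr 1
    exact Nat.testBit_ofBits_lt _ _ hj

/-- the dual of a map of the states, on the other module -/
def dmap (f : ℕ → ℕ) (v : ℕ) : ℕ := psi (fcode fun a => pair11 (f a) (phi v))

theorem dmap_spec {f : ℕ → ℕ} (hlt : ∀ s, f s < 2048)
    (hadd : ∀ a < 2048, ∀ b < 2048, f (a ^^^ b) = f a ^^^ f b) (v : ℕ) :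
    dmap f v < 2048 ∧ ∀ a < 2048, pair11 a (phi (dmap f v)) = pair11 (f a) (phi v) := by
  obtain ⟨h1, h2⟩ := fcode_spec (χ := fun a => pair11 (f a) (phi v)) fun a ha b hb => by
    rw [hadd a ha b hb, pair11_xor (hlt a) (hlt b)]
  refine ⟨psi_lt h1, fun a ha => ?_⟩
  rw [dmap, phi_psi_eq h1, h2 a ha]

theorem dmap_xor {f : ℕ → ℕ} (hlt : ∀ s, f s < 2048)
    (hadd : ∀ a < 2048, ∀ b < 2048, f (a ^^^ b) = f a ^^^ f b) {v w : ℕ} (hv : v < 2048) (hw : w < 2048) :
    dmap f (v ^^^ w) = dmap f v ^^^ dmap f w := by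
  obtain ⟨h1, e1⟩ := dmap_spec hlt hadd (v ^^^ w)
  obtain ⟨h2, e2⟩ := dmap_spec hlt hadd v
  obtain ⟨h3, e3⟩ := dmap_spec hlt hadd w
  have h23 : dmap f v ^^^ dmap f w < 2048 := Nat.xor_lt_two_pow (n := 11) h2 h3
  rw [← psi_phi h1, ← psi_phi h23]
  refine congrArg psi (pair11_ext (phi_lt h1) (phi_lt h23) fun a ha => ?_)
  rw [e1 a ha, phi_xor, phi_xor, pair11_comm (f a), pair11_xor (phi_lt hv) (phi_lt hw), pair11_comm a,
    pair11_xor (phi_lt h2) (phi_lt h3), pair11_comm (phi (dmap f v)), pair11_comm (phi (dmap f w)), e2 a ha,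
    e3 a ha, pair11_comm (phi v), pair11_comm (phi w)]

theorem mem_maskOf (l : List ℕ) (i : ℕ) : (maskOf l).testBit i = true ↔ i ∈ l := by
  induction l with
  | nil => simp [maskOf]
  | cons a l ih =>
    show ((1 <<< a) ||| maskOf l).testBit i = true ↔ _
    rw [Nat.testBit_or, Bool.or_eq_true, ih, List.mem_cons, Nat.one_shiftLeft, Nat.testBit_two_pow,
      decide_eq_true_eq, eq_comm]

theorem mem_tt {v : ℕ} (hv : v < 2048) : v ∈ ttList cb0 ↔ vcnt v = 352 := by
  rw [← mem_maskOf, ← tt_count hv]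
  exact ⟨Nat.eq_of_beq_eq_true, fun h => by rw [h]; rfl⟩

theorem perm24_ext {σ τ : Equiv.Perm (Fin 24)} (h : ∀ i k, pvF (σ i) (σ k) = pvF (τ i) (τ k)) : σ = τ := by
  refine Equiv.ext fun i => ?_
  obtain ⟨k, hk⟩ := exists_avoid {i} (by simp)
  obtain ⟨l, hl⟩ := exists_avoid {i, k} (lt_of_le_of_lt Finset.card_le_two (by norm_num))
  simp only [Finset.mem_insert, Finset.mem_singleton, not_or] at hk hl
  have hik : i ≠ k := Ne.symm hk
  have hil : i ≠ l := Ne.symm hl.1
  rcases pvF_inj (σ.injective.ne hik) (τ.injective.ne hik) (h i k) with ⟨h1, -⟩ | ⟨h1, -⟩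
  · exact h1
  rcases pvF_inj (σ.injective.ne hil) (τ.injective.ne hil) (h i l) with ⟨h2, -⟩ | ⟨h2, -⟩
  · exact h2
  · exact absurd (τ.injective (h1.symm.trans h2)) (Ne.symm hl.2)

variable {G : Type*} [Group G] [Finite G] {z : G} {Q : Subgroup G} {co : G → ℕ} {ac : G → ℕ → ℕ}
variable {x n m : G} {C : Cfg z Q co ac x n m} (B : Base C)

/-- The normaliser. -/
abbrev NA (h : Frame z Q co ac) : Subgroup G := Subgroup.normalizer (AG h : Set G)

namespace Base

/-- the action of a normalising element on the states -/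
noncomputable def nf (g : NA C.duo.fr) : ℕ → ℕ := (B.exists_fun g.2).choose

theorem nf_lt (g : NA C.duo.fr) (s : ℕ) : B.nf g s < 2048 := (B.exists_fun g.2).choose_spec.1 s

theorem el_nf (g : NA C.duo.fr) (s : ℕ) : B.el (B.nf g s) = (g : G) * B.el s * (g : G)⁻¹ :=
  (B.exists_fun g.2).choose_spec.2.1 s

theorem nf_xor (g : NA C.duo.fr) : ∀ a < 2048, ∀ b < 2048, B.nf g (a ^^^ b) = B.nf g a ^^^ B.nf g b :=
  (B.exists_fun g.2).choose_spec.2.2.1

theorem nf_inj (g : NA C.duo.fr) : ∀ a < 2048, ∀ b < 2048, B.nf g a = B.nf g b → a = b :=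
  (B.exists_fun g.2).choose_spec.2.2.2.1

theorem nf_O (g : NA C.duo.fr) : ∀ a < 2048, (B.O (B.nf g a) ↔ B.O a) :=
  (B.exists_fun g.2).choose_spec.2.2.2.2

theorem nf_mul (g h : NA C.duo.fr) (a : ℕ) : B.nf (g * h) a = B.nf g (B.nf h a) :=
  B.el_inj (B.nf_lt _ _) (B.nf_lt _ _) (by
    rw [B.el_nf, B.el_nf, B.el_nf, Subgroup.coe_mul]; group)

theorem nf_one {a : ℕ} (ha : a < 2048) : B.nf 1 a = a :=
  B.el_inj (B.nf_lt _ _) ha (by rw [B.el_nf, OneMemClass.coe_one]; group)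

/-- the action on the other module -/
noncomputable def gn (g : NA C.duo.fr) (v : ℕ) : ℕ := dmap (B.nf g⁻¹) v

theorem gn_spec (g : NA C.duo.fr) (v : ℕ) :
    B.gn g v < 2048 ∧ ∀ a < 2048, pair11 a (phi (B.gn g v)) = pair11 (B.nf g⁻¹ a) (phi v) :=
  dmap_spec (B.nf_lt _) (B.nf_xor _) v

theorem gn_mul (g h : NA C.duo.fr) (v : ℕ) : B.gn (g * h) v = B.gn g (B.gn h v) := by
  obtain ⟨h1, e1⟩ := B.gn_spec (g * h) v
  obtain ⟨h2, e2⟩ := B.gn_spec h v
  obtain ⟨h3, e3⟩ := B.gn_spec g (B.gn h v)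
  rw [← psi_phi h1, ← psi_phi h3]
  refine congrArg psi (pair11_ext (phi_lt h1) (phi_lt h3) fun a ha => ?_)
  rw [e1 a ha, e3 a ha, e2 _ (B.nf_lt _ _), mul_inv_rev, B.nf_mul]

theorem gn_one {v : ℕ} (hv : v < 2048) : B.gn 1 v = v := by
  obtain ⟨h1, e1⟩ := B.gn_spec 1 v
  refine (psi_phi h1).symm.trans ((congrArg psi (pair11_ext (phi_lt h1) (phi_lt hv) fun a ha => ?_)).trans
    (psi_phi hv))
  rw [e1 a ha, inv_one, B.nf_one ha]

theorem nf_perm (g : NA C.duo.fr) (hB : ∀ s < 2048, (B.O s ↔ zmask0.testBit s = true)) :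
    ((zlist zmask0).map (B.nf g)).Perm (zlist zmask0) := by
  have hM : ∀ {a}, a ∈ zlist zmask0 ↔ a < 2048 ∧ B.O a := B.zlist_OS fun s hs => (hB s hs).symm
  have hnd : ((zlist zmask0).map (B.nf g)).Nodup := (List.nodup_range.filter _).map_on fun a ha b hb e =>
    B.nf_inj g a (hM.1 ha).1 b (hM.1 hb).1 e
  refine (List.subperm_of_subset hnd fun a ha => ?_).perm_of_length_le (by rw [List.length_map])
  obtain ⟨b, hb, rfl⟩ := List.mem_map.1 ha
  obtain ⟨h1, h2⟩ := hM.1 hb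
  exact hM.2 ⟨B.nf_lt g b, (B.nf_O g b h1).2 h2⟩

theorem gn_auto (g : NA C.duo.fr) (hB : ∀ s < 2048, (B.O s ↔ zmask0.testBit s = true)) : Auto cb0 (B.gn g) := by
  refine ⟨fun v _ => (B.gn_spec g v).1, fun v hv w hw => dmap_xor (B.nf_lt _) (B.nf_xor _) hv hw,
    fun v hv w hw e => ?_, fun v hv => ?_⟩
  · have := congrArg (B.gn g⁻¹) e
    rwa [← B.gn_mul, ← B.gn_mul, inv_mul_cancel, B.gn_one hv, B.gn_one hw] at this
  · obtain ⟨h1, e1⟩ := B.gn_spec g v
    suffices h : vcnt (B.gn g v) = vcnt v by rw [mem_tt h1, mem_tt hv, h]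
    unfold vcnt
    rw [← List.countP_eq_length_filter, ← List.countP_eq_length_filter,
      ← (B.nf_perm g⁻¹ hB).countP_eq (p := fun a => pair11 a (lap phiI v)), List.countP_map]
    refine List.countP_congr fun a ha => ?_
    rw [zlist, List.mem_filter, List.mem_range] at ha
    show pair11 a (phi (B.gn g v)) = true ↔ _
    rw [e1 a ha.1]
    rfl

/-- the permutation of the points -/
noncomputable def sigma (hB : ∀ s < 2048, (B.O s ↔ zmask0.testBit s = true)) (g : NA C.duo.fr) :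
    Equiv.Perm (Fin 24) :=
  (B.gn_auto g hB).exists_perm.choose

theorem sigma_spec (hB : ∀ s < 2048, (B.O s ↔ zmask0.testBit s = true)) (g : NA C.duo.fr) (i k : Fin 24) :
    B.gn g (pvF i k) = pvF (B.sigma hB g i) (B.sigma hB g k) :=
  (B.gn_auto g hB).exists_perm.choose_spec i k

/-- the action on the points -/
noncomputable def act24 (hB : ∀ s < 2048, (B.O s ↔ zmask0.testBit s = true)) :
    ↥(NA C.duo.fr) →* Equiv.Perm Cfsg.GolayPt :=
  MonoidHom.mk' (fun g => indexHom (B.sigma hB g)) fun g h => by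
    rw [← map_mul]
    refine congrArg indexHom (perm24_ext fun i k => ?_)
    rw [← B.sigma_spec, B.gn_mul, B.sigma_spec hB h, B.sigma_spec hB g]
    rfl

theorem act24_range (hB : ∀ s < 2048, (B.O s ↔ zmask0.testBit s = true)) :
    (B.act24 hB).range ≤ Cfsg.M24 := by
  rintro _ ⟨g, rfl⟩
  exact perm_mem_M24 (B.gn_auto g hB) (B.sigma_spec hB g)

theorem act24_ker (hB : ∀ s < 2048, (B.O s ↔ zmask0.testBit s = true)) :
    (B.act24 hB).ker = (AG C.duo.fr).subgroupOf (NA C.duo.fr) := by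
  ext g
  rw [MonoidHom.mem_ker, Subgroup.mem_subgroupOf]
  constructor
  · intro h
    have h1 : B.sigma hB g = 1 := indexHom.injective (by rw [map_one]; exact h)
    have hid : ∀ v < 2048, B.gn g v = v := fun v hv =>
      (B.gn_auto g hB).eq_id (fun i k => by rw [B.sigma_spec hB, h1]; rfl) hv
    have hnf : ∀ a < 2048, B.nf g⁻¹ a = a := fun a ha => by
      refine pair11_ext (B.nf_lt _ a) ha fun w hw => ?_
      have e := (B.gn_spec g (psi w)).2 a ha
      rw [hid _ (psi_lt hw), phi_psi_eq hw] at e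
      rw [pair11_comm w, pair11_comm w, ← e]
    have hcomm : ∀ r ∈ AG C.duo.fr, r * (g : G)⁻¹ = (g : G)⁻¹ * r := fun r hr => by
      obtain ⟨s, hs, rfl⟩ := B.el_surj hr
      have := B.el_nf g⁻¹ s
      rw [hnf s hs, InvMemClass.coe_inv] at this
      exact (mul_inv_eq_iff_eq_mul.1 this.symm).symm
    exact inv_mem_iff.1 (Subgroup.mem_centralizer_iff.2 fun r hr => hcomm r (EG_le_AG C.duo.fr hr))
  · intro h
    show indexHom (B.sigma hB g) = 1
    have hnf : ∀ a < 2048, B.nf g⁻¹ a = a := fun a ha => B.el_inj (B.nf_lt _ a) ha (by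
      rw [B.el_nf, InvMemClass.coe_inv, (AG_abelian C (inv_mem h) (B.el_mem a)).eq, mul_inv_cancel_right])
    rw [show B.sigma hB g = 1 from perm24_ext fun i k => ?_, map_one]
    rw [← B.sigma_spec hB]
    obtain ⟨h1, e1⟩ := B.gn_spec g (pvF i k)
    refine (psi_phi h1).symm.trans ((congrArg psi (pair11_ext (phi_lt h1) (phi_lt (pvF_lt i k))
      fun a ha => ?_)).trans (psi_phi (pvF_lt i k)))
    rw [e1 a ha, hnf a ha]

end Base

end Cfsg.Agent.Lib.Co1Golay43
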