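import Cfsg.Agent.Lib.Co1Golay43.CandData
import Cfsg.Agent.Lib.FischerLarge43.Data

/-!
# Conway type: the dual of the module is the module of the large Fischer type

`phi` sends a state of that module to a functional, coded by its values on the eleven bits; the 276
distinguished states are those whose functional is one on 352 elements of the orbit.  Also the words
for the stabiliser of the subspace, and one automorphism joining the two kinds outside the orbit.

Owner: helper43.
-/

set_option autoImplicit false
set_option maxRecDepth 100000

namespace Cfsg.Agent.Lib.Co1Golay43

/-- the duality -/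
def phiI : List ℕ := [893, 1820, 1243, 39, 358, 98, 1175, 791, 433, 421, 732]

/-- its inverse -/
def psiI : List ℕ := [205, 1882, 1537, 161, 1281, 414, 1764, 867, 1585, 550, 1972]

/-- parities of the numbers below 2048 -/
def parMask : ℕ :=
  18987726562026935618385388398381291583795765052772674301902419776971421667093376117052627329368982761675552006759995444170931415636334242411743119252735131119546060435676749201165076158316541623319629437675285399366602085243953544056124637609164881345332702491913821411901251523733468189774151471352590496433542944363533322471498002528925441167720172727071901003947370267261934247983356705733024609222162242541147678587865333088128486580304008811126966802782378656577677190572911189084773586646031727702897551362782408951888626629032516714305655758444774115133904711462662668896869305229090440330516997646959338154390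

/-- the value of a functional -/
def pair11 (a w : ℕ) : Bool := parMask.testBit (a &&& w)

/-- the number of elements of the orbit where the functional of `v` is one -/
def vcnt (v : ℕ) : ℕ := ((zlist zmask0).filter fun a => pair11 a (lap phiI v)).length

/-- transvections of the subspace -/
def tvW : List (List (ℕ × ℕ)) :=
  [[(210, 214), (208, 212)],
   [(208, 192), (194, 210)],
   [(56, 120), (122, 58)],
   [(56, 48), (57, 49)],
   [(3, 11), (19, 27)],
   [(75, 3), (11, 67)],
   [(141, 173), (172, 140)],
   [(167, 131), (163, 135)],
   [(39, 71), (103, 7)],
   [(29, 156), (28, 157)],
   [(35, 163), (39, 167)],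
   [(139, 27), (155, 11)]]

/-- products of transvections reaching every vector, stage by stage -/
def stageW : List (List (List ℕ)) :=
  [[[], [3, 0], [0], [6, 1], [1], [3, 1, 0], [1, 0], [9, 2], [2], [3, 2, 0], [2, 0], [6, 2, 1], [2, 1], [3, 2, 1, 0], [2, 1, 0]],
   [[], [3], [7, 4], [7, 4, 3], [4], [4, 3], [10, 5], [10, 5, 3], [5], [5, 3], [7, 5, 4], [7, 5, 4, 3], [5, 4], [5, 4, 3]],
   [[], [6], [7], [7, 6], [11, 8], [11, 8, 6], [11, 8, 7], [11, 8, 7, 6], [8], [8, 6], [8, 7], [8, 7, 6]],
   [[], [9], [10], [10, 9], [11], [11, 9], [11, 10], [11, 10, 9]]]

/-- the word of a product -/
def tvWord (l : List ℕ) : List (ℕ × ℕ) := l.flatMap fun i => tvW.getD i []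

/-- an automorphism of the set -/
def f0 : List ℕ := [1725, 985, 1233, 804, 513, 1809, 226, 67, 160, 995, 288]

/-- its contragredient on the other module -/
def g0 : List ℕ := [573, 535, 1153, 1281, 1712, 2013, 92, 501, 633, 39, 273]

/-- the inverse of that -/
def g0i : List ℕ := [534, 729, 1727, 1706, 2027, 1136, 1982, 497, 509, 409, 995]

/-- a state of a line outside the orbit -/
def sA : ℕ := 40

/-- its image, outside the lines -/
def sB : ℕ := 1077

end Cfsg.Agent.Lib.Co1Golay43
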