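import Cfsg.Agent.Lib.Co1Golay43.CandData

/-!
# Conway type: checks on the four possible orbits

Owner: helper43.
-/

set_option autoImplicit false
set_option maxRecDepth 100000

namespace Cfsg.Agent.Lib.Co1Golay43

theorem par6_xor : ∀ a < 64, ∀ b < 64, par6 (a ^^^ b) = Bool.xor (par6 a) (par6 b) := by decide +kernel

theorem nsL_ok : ∀ c ∈ nsL, c < 64 ∧ rep c = 32 * c ∧ c ∉ decL := by decide +kernel

theorem fix_spec : (∀ c ∈ fixL, c ∈ nsL) ∧
    ∀ f : List Bool, f ∈ (List.range 64).map (fun t => (List.range 6).map t.testBit) →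
      ∃ l ∈ fixLam, l < 64 ∧ fixL.map (fun c => par6 (l &&& c)) = f := by decide +kernel

/-- the order of the steps is sound -/
def stepsOK : List (ℕ × ℕ × ℕ) → List ℕ → Bool
  | [], vis => nsL.all vis.contains
  | e :: l, vis => vis.contains e.2.1 && !(vis.contains e.2.2) && Nat.beq (gr e.1 e.2.1) e.2.2 &&
      decide (e.1 < 2) && nsL.contains e.2.1 && stepsOK l (e.2.2 :: vis)

theorem steps_ok : stepsOK stepL [12] = true ∧ nsL.contains 12 = true := by decide +kernel

theorem sol_aux : (List.range 8192).all (fun v => !(sgnOK v (sgnOf v)) || candL.contains (sgnOf v)) = true := by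
  decide +kernel

theorem cand_cases : candL.all (fun m => Nat.beq m sg0 || (witL.map Prod.fst).contains m) = true := by
  decide +kernel

theorem gm_line_flip : ∀ g < 2, ∀ c ∈ nsL, gr g c ∈ nsL ∧ gm g (rep c) < 2048 ∧ gm g (rep c) >>> 5 = gr g c ∧
    (orb (gr g c)).testBit ((gm g (rep c) &&& 31) ^^^ (bif epsB g c then 1 else 0)) = true := by decide +kernel

theorem mask_spec0 : (List.range 2048).all (fun s => zmask0.testBit s == zb sg0 s) = true := by decide +kernel

theorem mask_spec : (List.range witL.length).all (fun i => (List.range 2048).all fun s =>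
    (maskL.getD i 0).testBit s == zb (witL.getD i (0, 0)).1 s) = true := by decide +kernel

theorem wit_spec : (List.range witL.length).all (fun i =>
    (maskL.getD i 0).testBit (witL.getD i (0, 0)).2 && decide ((witL.getD i (0, 0)).2 < 2048) &&
      !(Nat.beq (zdeg (maskL.getD i 0) 1) (zdeg (maskL.getD i 0) (witL.getD i (0, 0)).2))) = true := by
  decide +kernel

end Cfsg.Agent.Lib.Co1Golay43
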