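import Cfsg.Agent.Lib.Co1Golay43.Data

/-!
# Conway type: checks on the coded radical and its complement

Owner: helper43.
-/

set_option autoImplicit false
set_option maxRecDepth 100000

namespace Cfsg.Agent.Lib.Co1Golay43

open Cfsg.Agent.Lib.Co1Type31

theorem wB_spec : ∀ w ∈ wB, w < 256 ∧ inW w = true := by decide +kernel

theorem dB_spec : ∀ d ∈ dB, d < 256 := by decide +kernel

theorem inW_gen : ∀ k < 256, inW k = true →
    (k = (bif k.testBit 0 then 1 else 0) ^^^ (bif k.testBit 2 then 4 else 0) ^^^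
      (bif k.testBit 4 then 16 else 0) ^^^ (bif k.testBit 6 then 64 else 0)) := by decide +kernel

theorem inW_perp_aux : all8.all (fun k => inW k == wB.all fun w => !(bn k w)) = true := by decide +kernel

theorem inW_iff {k : ℕ} (hk : k < 256) : inW k = true ↔ ∀ w ∈ wB, bn k w = false := by
  have h := beq_iff_eq.1 (List.all_eq_true.1 inW_perp_aux k (mem_all8.2 hk))
  rw [h, List.all_eq_true]
  simp

theorem inW_qn : ∀ k < 256, inW k = true → qn k = false := by decide +kernel

theorem inW_xor {a b : ℕ} (ha : inW a = true) (hb : inW b = true) : inW (a ^^^ b) = true := by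
  simp only [inW] at *
  have ha' := Nat.eq_of_beq_eq_true ha
  have hb' := Nat.eq_of_beq_eq_true hb
  rw [Nat.and_xor_distrib_right, ha', hb']
  rfl

theorem lineW_spec : ∀ j < 6, (lineW.getD j (0, 0)).1 < 256 ∧ (lineW.getD j (0, 0)).2 < 256 := by
  decide +kernel

theorem rA_lin (i : ℕ) : Lin8 (rA i) := by
  have key : ∀ l : List ℕ, (∀ j ∈ l, j < 6) → Lin8 (fun k => l.foldr (fun j v =>
      bif i.testBit j then sg (lineW.getD j (0, 0)).1 (lineW.getD j (0, 0)).2 v else v) k) := by
    intro l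
    induction l with
    | nil => intro _; exact Lin8.id'
    | cons j l ih =>
      intro h
      obtain ⟨h1, h2⟩ := lineW_spec j (h j (List.mem_cons_self ..))
      have hl := ih fun k hk => h k (List.mem_cons_of_mem _ hk)
      cases hb : i.testBit j
      · simpa only [List.foldr_cons, hb, cond_false] using hl
      · simpa only [List.foldr_cons, hb, cond_true] using (sg_lin h1 h2).comp hl
  exact key _ fun j hj => List.mem_range.1 hj

theorem rA_mul_aux : (List.range 64).all (fun i => (List.range 6).all fun l =>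
    agree (fun k => rA i (rA (2 ^ l) k)) (rA (i ^^^ 2 ^ l))) = true := by decide +kernel

theorem rA_zero {k : ℕ} (hk : k < 256) : rA 0 k = k := by
  revert k; decide +kernel

theorem rA_step : ∀ j < 64, j ≠ 0 → ∃ l < 6, j ^^^ 2 ^ l < j ∧ 2 ^ l < 64 := by decide +kernel

theorem rA_mul {i j : ℕ} (hi : i < 64) (hj : j < 64) {k : ℕ} (hk : k < 256) :
    rA i (rA j k) = rA (i ^^^ j) k := by
  induction j using Nat.strong_induction_on generalizing i k with
  | _ j ih =>
    rcases eq_or_ne j 0 with rfl | h0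
    · rw [rA_zero hk, Nat.xor_zero]
    · obtain ⟨l, hl, hlt, hp⟩ := rA_step j hj h0
      have step : ∀ {i k}, i < 64 → k < 256 → rA i (rA (2 ^ l) k) = rA (i ^^^ 2 ^ l) k := fun {i k} hi hk =>
        ((rA_lin i).comp (rA_lin _)).ext (rA_lin _)
          (List.all_eq_true.1 (List.all_eq_true.1 rA_mul_aux i (List.mem_range.2 hi)) l (List.mem_range.2 hl)) k hk
      have hj' : j ^^^ 2 ^ l < 64 := hlt.trans hj
      have e : j ^^^ 2 ^ l ^^^ 2 ^ l = j := by rw [Nat.xor_assoc, Nat.xor_self, Nat.xor_zero]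
      have hx : rA j k = rA (j ^^^ 2 ^ l) (rA (2 ^ l) k) := by rw [step hj' hk, e]
      have hlt256 := (rA_lin (2 ^ l)).lt k hk
      rw [hx, ih _ hlt hi hj' hlt256, step (Nat.xor_lt_two_pow (n := 6) hi hj') hk, Nat.xor_assoc i, e]

theorem ridx_rA : ∀ i < 64, ridx (rA i) = i := by decide +kernel

theorem rA_fix : ∀ i < 64, ∀ w ∈ wB, rA i w = w := by decide +kernel

/-- the coset of the subspace -/
def coW (d : ℕ) : List ℕ :=
  [0, 1, 4, 5, 16, 17, 20, 21, 64, 65, 68, 69, 80, 81, 84, 85].map (· ^^^ d)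

theorem inW_list : ∀ k < 256, inW k = true →
    k ∈ [0, 1, 4, 5, 16, 17, 20, 21, 64, 65, 68, 69, 80, 81, 84, 85] := by decide +kernel

theorem mem_coW {a d : ℕ} (ha : a < 256) (hd : d < 256) (h : inW (a ^^^ d) = true) : a ∈ coW d :=
  List.mem_map.2 ⟨a ^^^ d, inW_list _ (xor_lt ha hd) h, by rw [Nat.xor_assoc, Nat.xor_self, Nat.xor_zero]⟩

/-- the images of the duals under a map fixing the subspace -/
theorem radical_aux : (coW 2).all (fun a => !(inW (a ^^^ 2) && !(qn a)) ||
    (coW 8).all (fun b => !(inW (b ^^^ 8) && !(qn b) && !(bn a b)) ||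
      (coW 32).all (fun c => !(inW (c ^^^ 32) && !(qn c) && !(bn a c) && !(bn b c)) ||
        (coW 128).all (fun e => !(inW (e ^^^ 128) && !(qn e) && !(bn a e) && !(bn b e) && !(bn c e)) ||
          (let f : ℕ → ℕ := fun d => bif d == 2 then a else bif d == 8 then b else bif d == 32 then c else e
           let i := ridx f
           Nat.beq (rA i 2) a && Nat.beq (rA i 8) b && Nat.beq (rA i 32) c && Nat.beq (rA i 128) e))))) =
    true := by decide +kernel

/-- An isometry fixing the subspace pointwise is a coded element of the radical. -/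
theorem exists_rA {f : ℕ → ℕ} (hf : Iso8 f) (hw : ∀ w ∈ wB, f w = w) :
    ∃ i < 64, ∀ k < 256, f k = rA i k := by
  have key : ∀ d ∈ dB, f d < 256 ∧ qn (f d) = false ∧ inW (f d ^^^ d) = true := by
    intro d hd
    have hd' := dB_spec d hd
    refine ⟨hf.lt d hd', ?_, (inW_iff (xor_lt (hf.lt d hd') hd')).2 fun w hw' => ?_⟩
    · rw [hf.pres d hd']; revert d; decide
    · have hw2 := (wB_spec w hw').1
      rw [bn_add' hw2 (hf.lt d hd') hd']
      conv_lhs => arg 1; rw [← hw w hw']
      rw [hf.bn_eq hd' hw2, Bool.xor_self]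
  have hb : ∀ d ∈ dB, ∀ d' ∈ dB, bn (f d) (f d') = false := fun d hd d' hd' => by
    rw [hf.bn_eq (dB_spec d hd) (dB_spec d' hd')]
    revert d' d
    decide +kernel
  obtain ⟨a1, a2, a3⟩ := key 2 (by decide)
  obtain ⟨b1, b2, b3⟩ := key 8 (by decide)
  obtain ⟨c1, c2, c3⟩ := key 32 (by decide)
  obtain ⟨e1, e2, e3⟩ := key 128 (by decide)
  have h := List.all_eq_true.1 radical_aux (f 2) (mem_coW a1 (by norm_num) a3)
  rw [a3, a2] at h
  simp only [Bool.not_false, Bool.and_self, Bool.not_true, Bool.false_or] at h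
  have h := List.all_eq_true.1 h (f 8) (mem_coW b1 (by norm_num) b3)
  rw [b3, b2, hb 2 (by decide) 8 (by decide)] at h
  simp only [Bool.not_false, Bool.and_self, Bool.not_true, Bool.false_or] at h
  have h := List.all_eq_true.1 h (f 32) (mem_coW c1 (by norm_num) c3)
  rw [c3, c2, hb 2 (by decide) 32 (by decide), hb 8 (by decide) 32 (by decide)] at h
  simp only [Bool.not_false, Bool.and_self, Bool.not_true, Bool.false_or] at h
  have h := List.all_eq_true.1 h (f 128) (mem_coW e1 (by norm_num) e3)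
  rw [e3, e2, hb 2 (by decide) 128 (by decide), hb 8 (by decide) 128 (by decide),
    hb 32 (by decide) 128 (by decide)] at h
  simp only [Bool.not_false, Bool.and_self, Bool.not_true, Bool.false_or, Bool.and_eq_true] at h
  set g : ℕ → ℕ := fun d => bif d == 2 then f 2 else bif d == 8 then f 8 else bif d == 32 then f 32 else f 128
  have hi : ridx g < 64 := by
    simp only [ridx]
    have hb : ∀ b : Bool, (bif b then 1 else 0 : ℕ) ≤ 1 := by decide
    have := hb (((g 2) ^^^ 2) &&& 4 == 4)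
    have := hb (((g 2) ^^^ 2) &&& 16 == 16)
    have := hb (((g 2) ^^^ 2) &&& 64 == 64)
    have := hb (((g 8) ^^^ 8) &&& 16 == 16)
    have := hb (((g 8) ^^^ 8) &&& 64 == 64)
    have := hb (((g 32) ^^^ 32) &&& 64 == 64)
    omega
  refine ⟨ridx g, hi, hf.toLin8.ext (rA_lin _) (List.all_eq_true.2 fun j hj => ?_)⟩
  have h8 : ∀ j ∈ bits8, j ∈ wB ∨ j = 2 ∨ j = 8 ∨ j = 32 ∨ j = 128 := by decide
  rcases h8 j hj with hj | rfl | rfl | rfl | rfl
  · rw [hw j hj, rA_fix _ hi j hj]; exact Nat.beq_refl j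
  · rw [Nat.eq_of_beq_eq_true h.1.1.1]; exact Nat.beq_refl _
  · rw [Nat.eq_of_beq_eq_true h.1.1.2]; exact Nat.beq_refl _
  · rw [Nat.eq_of_beq_eq_true h.1.2]; exact Nat.beq_refl _
  · rw [Nat.eq_of_beq_eq_true h.2]; exact Nat.beq_refl _

theorem rootW_spec : (List.range 6).all (fun j => okWord (rootW.getD j []) &&
    agree (prs (rootW.getD j [])) (rA (2 ^ j))) = true := by decide +kernel

theorem genW_spec : ∀ g < 2, okWord (genW.getD g []) = true ∧
    (∀ w ∈ wB, inW (prs (genW.getD g []) w) = true) ∧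
    (∀ i < 64, gr g i < 64 ∧
      agree (fun k => prs (genW.getD g []) (rA i k)) (fun k => rA (gr g i) (prs (genW.getD g []) k)) = true) := by
  decide +kernel

theorem pairWords_spec : pairWords.all (fun e => (e.1 == (1, 2) || e.1 == (4, 8)) &&
    Nat.beq (grW e.2.2 e.1.1) e.2.1.1 && Nat.beq (grW e.2.2 e.1.2) e.2.1.2 &&
    e.2.2.all (fun g => decide (g < 2))) = true := by decide +kernel

theorem pairWords_cover : ∀ i < 6, ∀ j < 6, i ≠ j →
    ∃ e ∈ pairWords, (e.2.1.1 = 2 ^ i ∧ e.2.1.2 = 2 ^ j) ∨ (e.2.1.2 = 2 ^ i ∧ e.2.1.1 = 2 ^ j) := by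
  decide +kernel

theorem lineWords_spec : ∀ j < 6, grW (lineWords.getD j []) 1 = 2 ^ j ∧
    ∀ g ∈ lineWords.getD j [], g < 2 := by decide +kernel

end Cfsg.Agent.Lib.Co1Golay43
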