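import Cfsg.Agent.Lib.Co1Golay43.Stab
import Cfsg.Agent.Lib.Co1Golay43.ClassData

/-!
# Conway type: two orbits on the group of order `2^11`

The translations and one further automorphism, realised as the action is onto, are transitive on the
states outside the orbit of `z`.

Owner: helper43.
-/

set_option autoImplicit false
set_option maxRecDepth 100000
set_option linter.unusedSectionVars false

namespace Cfsg.Agent.Lib.Co1Golay43

open Cfsg.Agent.Lib.Co1Type31
open Cfsg.Agent.Lib.FischerLarge43 (Auto maskOf ttList cb0 pvF pvF_lt perm_mem_M24)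
open Cfsg.Agent.Lib.Golay (indexHom)

theorem f0_bits : ∀ j < 11, lap f0 (2 ^ j) < 2048 ∧ lap g0 (2 ^ j) < 2048 ∧ lap g0i (2 ^ j) < 2048 ∧
    lap g0i (lap g0 (2 ^ j)) = 2 ^ j ∧ ∀ i < 11, pair11 (lap f0 (2 ^ i)) (phi (lap g0 (2 ^ j))) =
      pair11 (2 ^ i) (phi (2 ^ j)) := fun j hj => by
  have h := List.all_eq_true.1 f0_spec j (List.mem_range.2 hj)
  simp only [Bool.and_eq_true, decide_eq_true_eq, List.all_eq_true, List.mem_range, beq_iff_eq] at h
  exact ⟨h.1.1.1.1.1, h.1.1.1.1.2, h.1.1.1.2, Nat.eq_of_beq_eq_true h.1.1.2, h.2⟩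

theorem f0_pair : ∀ v < 2048, ∀ a < 2048, pair11 (lap f0 a) (phi (lap g0 v)) = pair11 a (phi v) := by
  have h0 : ∀ l : List ℕ, lap l 0 = 0 := fun l => by simpa using lap_xor l 0 0
  have hf : ∀ a < 2048, lap f0 a < 2048 := lap_lt fun j hj => (f0_bits j hj).1
  have hg : ∀ v < 2048, lap g0 v < 2048 := lap_lt fun j hj => (f0_bits j hj).2.1
  have hp : ∀ j < 11, (2 : ℕ) ^ j < 2048 := fun j hj =>
    Nat.pow_lt_pow_right (a := 2) (n := 11) (by norm_num) hj
  refine ind11 (P := fun v => ∀ a < 2048, pair11 (lap f0 a) (phi (lap g0 v)) = pair11 a (phi v)) ?_ ?_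
  · intro a ha
    rw [h0, pair11_comm, pair11_comm a]
    simp only [phi, h0, pair11_zero]
  · intro v hv j hj ih a ha
    have key : ∀ a < 2048, pair11 (lap f0 a) (phi (lap g0 (2 ^ j))) = pair11 a (phi (2 ^ j)) := by
      refine ind11 (P := fun a => pair11 (lap f0 a) (phi (lap g0 (2 ^ j))) = pair11 a (phi (2 ^ j))) ?_ ?_
      · rw [h0, pair11_zero, pair11_zero]
      · intro a ha i hi iha
        rw [lap_xor, pair11_xor (hf a ha) (hf _ (hp i hi)), pair11_xor ha (hp i hi), iha,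
          (f0_bits j hj).2.2.2.2 i hi]
    rw [lap_xor, phi_xor, phi_xor, pair11_comm, pair11_xor (phi_lt (hg v hv)) (phi_lt (hg _ (hp j hj))),
      pair11_comm a, pair11_xor (phi_lt hv) (phi_lt (hp j hj)), pair11_comm (phi (lap g0 v)),
      pair11_comm (phi (lap g0 (2 ^ j))), ih a ha, key a ha, pair11_comm (phi v), pair11_comm (phi (2 ^ j))]

theorem g0_auto : Auto cb0 (lap g0) := by
  refine ⟨lap_lt fun j hj => (f0_bits j hj).2.1, fun a _ b _ => lap_xor _ a b, fun a ha b hb e => ?_,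
    fun a ha => ?_⟩
  · rw [← lap_id (fun j hj => (f0_bits j hj).2.2.2.1) a ha, e, lap_id (fun j hj => (f0_bits j hj).2.2.2.1) b hb]
  · have h := beq_iff_eq.1 (List.all_eq_true.1 g0_tt a (List.mem_range.2 ha))
    rw [← mem_maskOf, ← mem_maskOf, h]

theorem mask_compl : ∀ s < 2048, ((2 ^ 2048 - 1) ^^^ (zmask0 ||| 1)).testBit s = true ↔
    zmask0.testBit s = false ∧ s ≠ 0 := by
  intro s hs
  rw [Nat.testBit_xor, Nat.testBit_two_pow_sub_one, decide_eq_true hs, Nat.testBit_or, Bool.true_xor,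
    show Nat.testBit 1 s = decide (0 = s) from Nat.testBit_two_pow (n := 0) (m := s)]
  generalize zmask0.testBit s = b
  rcases eq_or_ne s 0 with rfl | h
  · simp only [decide_true, Bool.or_true, Bool.not_true, ne_eq, not_true_eq_false, and_false, Bool.false_eq_true]
  · simp only [decide_eq_false (Ne.symm h), Bool.or_false, Bool.not_eq_true', ne_eq, h, not_false_iff, and_true]

theorem tk_lt' {k : ℕ} (hk : k < 4) : ∀ s < 2048, tk k s < 2048 :=
  lap_lt fun j hj => (tk_bits k hk j hj).1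

variable {G : Type*} [Group G] [Finite G] {z : G} {Q : Subgroup G} {co : G → ℕ} {ac : G → ℕ → ℕ}
variable {x n m : G} {C : Cfg z Q co ac x n m} (B : Base C)

namespace Base

theorem exists_f0 (hB : ∀ s < 2048, (B.O s ↔ zmask0.testBit s = true)) :
    ∃ g : NA C.duo.fr, ∀ a < 2048, lap f0 a < 2048 ∧ B.el (lap f0 a) = (g : G) * B.el a * (g : G)⁻¹ := by
  obtain ⟨τ, hτ⟩ := g0_auto.exists_perm
  have hmem := perm_mem_M24 g0_auto hτ
  rw [← (B.act24_range_eq hB).1] at hmem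
  obtain ⟨g, hg⟩ := hmem
  have hσ : B.sigma hB g = τ := indexHom.injective hg
  have hid : Auto cb0 fun v => B.gn g⁻¹ (lap g0 v) := by
    have ha := B.gn_auto g⁻¹ hB
    refine ⟨fun v hv => ha.lt _ (g0_auto.lt v hv), fun v hv w hw => ?_, fun v hv w hw e => ?_, fun v hv => ?_⟩
    · show B.gn g⁻¹ (lap g0 (v ^^^ w)) = _
      rw [g0_auto.add v hv w hw, ha.add _ (g0_auto.lt v hv) _ (g0_auto.lt w hw)]
    · exact g0_auto.inj v hv w hw (ha.inj _ (g0_auto.lt v hv) _ (g0_auto.lt w hw) e)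
    · exact (ha.mem _ (g0_auto.lt v hv)).trans (g0_auto.mem v hv)
  have heq : ∀ v < 2048, B.gn g v = lap g0 v := fun v hv => by
    have e : B.gn g⁻¹ (lap g0 v) = v := hid.eq_id (fun i k => by
      show B.gn g⁻¹ (lap g0 (pvF i k)) = _
      rw [hτ, ← hσ, ← B.sigma_spec hB, ← B.gn_mul, inv_mul_cancel, B.gn_one (pvF_lt i k)]) hv
    conv_lhs => rw [← e]
    rw [← B.gn_mul, mul_inv_cancel, B.gn_one (g0_auto.lt v hv)]
  refine ⟨g, fun a ha => ?_⟩
  have hf : lap f0 a < 2048 := lap_lt (fun j hj => (f0_bits j hj).1) a ha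
  refine ⟨hf, ?_⟩
  have e : B.nf g⁻¹ (lap f0 a) = a := by
    refine pair11_ext (B.nf_lt _ _) ha fun w hw => ?_
    have h := (B.gn_spec g (psi w)).2 _ hf
    rw [heq _ (psi_lt hw), f0_pair _ (psi_lt hw) a ha, phi_psi_eq hw] at h
    rw [pair11_comm w, pair11_comm w, ← h]
  have h := B.el_nf g⁻¹ (lap f0 a)
  rw [e, InvMemClass.coe_inv] at h
  rw [h]
  group

/-- The states outside the orbit of `z` are one orbit. -/
theorem second_orbit (hB : ∀ s < 2048, (B.O s ↔ zmask0.testBit s = true)) :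
    ∀ s < 2048, zmask0.testBit s = false → s ≠ 0 → ∃ g ∈ NA C.duo.fr, g * B.el sA * g⁻¹ = B.el s := by
  obtain ⟨g4, hg4⟩ := B.exists_f0 hB
  have hd : ∀ k < 4, dB.getD k 0 < 256 := by decide
  have hstep : ∀ i s, s < 2048 → stepO i s < 2048 ∧ ∃ g ∈ NA C.duo.fr, g * B.el s * g⁻¹ = B.el (stepO i s) := by
    intro i s hs
    unfold stepO
    cases hb : Nat.blt i 4
    · exact ⟨(hg4 s hs).1, g4, g4.2, (hg4 s hs).2.symm⟩
    · have hi : i < 4 := Nat.le_of_ble_eq_true hb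
      obtain ⟨q, hq, hqc⟩ := C.duo.fr.co_surj _ (hd i hi)
      exact ⟨tk_lt' hi s hs, q, mem_norm _ fun a ha => Pre.Q_conj (C := C) hq ha, B.tk_conj hi hq hqc s hs⟩
  have key : ∀ (l : List ℕ) (m : ℕ),
      (∀ s, m.testBit s = true → s < 2048 ∧ ∃ g ∈ NA C.duo.fr, g * B.el sA * g⁻¹ = B.el s) →
      ∀ s, (grow l m).testBit s = true → s < 2048 ∧ ∃ g ∈ NA C.duo.fr, g * B.el sA * g⁻¹ = B.el s := by
    intro l
    induction l with
    | nil => exact fun m hm => hm
    | cons e l ih =>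
      intro m hm
      rw [grow, List.foldl_cons]
      refine ih _ fun s hs => ?_
      cases hp : m.testBit (e >>> 3) with
      | false => rw [hp] at hs; exact hm s hs
      | true =>
        rw [hp, cond_true, Nat.testBit_or, Bool.or_eq_true, Nat.one_shiftLeft, Nat.testBit_two_pow,
          decide_eq_true_eq] at hs
        rcases hs with hs | rfl
        · exact hm s hs
        · obtain ⟨hlt, g, hg, eg⟩ := hm _ hp
          obtain ⟨hlt', g', hg', eg'⟩ := hstep (e &&& 7) _ hlt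
          exact ⟨hlt', g' * g, mul_mem hg' hg, by rw [← eg', ← eg]; group⟩
  intro s hs h0 hne
  refine (key stepsO (1 <<< sA) (fun t ht => ?_) s ?_).2
  · rw [Nat.one_shiftLeft, Nat.testBit_two_pow, decide_eq_true_eq] at ht
    subst ht
    exact ⟨cross_spec.1, 1, one_mem _, by group⟩
  · rw [grow_all, mask_compl s hs]
    exact ⟨h0, hne⟩

/-- Exactly two orbits. -/
theorem two_orbits (hB : ∀ s < 2048, (B.O s ↔ zmask0.testBit s = true)) :
    ∃ a ∈ AG C.duo.fr, ∃ b ∈ AG C.duo.fr, a ≠ 1 ∧ b ≠ 1 ∧ (∀ g ∈ NA C.duo.fr, g * a * g⁻¹ ≠ b) ∧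
      ∀ c ∈ AG C.duo.fr, c ≠ 1 → ∃ g ∈ NA C.duo.fr, g * c * g⁻¹ = a ∨ g * c * g⁻¹ = b := by
  obtain ⟨hlt, -, hA, hne, -⟩ := cross_spec
  refine ⟨z, EG_le_AG _ (z_EG _), B.el sA, B.el_mem _, C.duo.fr.es.ne, fun e => hne ?_, fun g hg e => ?_,
    fun c hc hc1 => ?_⟩
  · exact B.el_inj hlt (by norm_num) (e.trans B.el_zero.symm)
  · have := (hB sA hlt).1 ⟨g, hg, e⟩
    rw [hA] at this
    exact Bool.noConfusion this
  · obtain ⟨s, hs, rfl⟩ := B.el_surj hc
    cases hz : zmask0.testBit s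
    · obtain ⟨g, hg, e⟩ := B.second_orbit hB s hs hz fun e => hc1 (by rw [e, B.el_zero])
      exact ⟨g⁻¹, inv_mem hg, Or.inr (by rw [← e]; group)⟩
    · obtain ⟨g, hg, e⟩ : InO C.duo.fr (B.el s) := (hB s hs).2 hz
      exact ⟨g⁻¹, inv_mem hg, Or.inl (by rw [← e]; group)⟩

end Base

end Cfsg.Agent.Lib.Co1Golay43
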