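import Cfsg.Agent.Lib.Co1Golay43.Std
import Cfsg.Agent.Lib.Cores.Gaschutz

/-!
# Conway type: the extension splits

The dual complement and the upper unitriangular root elements generate a group of order `2^10` meeting
`A` trivially; it covers a Sylow 2-subgroup of the quotient, so Gaschütz gives a complement.

Owner: helper43.
-/

set_option autoImplicit false
set_option maxRecDepth 100000
set_option linter.unusedSectionVars false

namespace Cfsg.Agent.Lib.Co1Golay43

open Cfsg.Agent.Lib.Co1Type31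
open scoped Pointwise

section Unitriangular

variable {M : Type*} [Group M] (a b c d e f : M)

/-- the normal form -/
def uf (p q r s t u : Bool) : M := pw a p * (pw b q * (pw c r * (pw d s * (pw e t * pw f u))))

/-- the relations of the upper unitriangular group of degree four -/
structure URel : Prop where
  sa : a * a = 1
  sb : b * b = 1
  sc : c * c = 1
  sd : d * d = 1
  se : e * e = 1
  sf : f * f = 1
  ac' : Commute a c
  de : Commute d e
  df : Commute d f
  ef : Commute e f
  db : Commute d b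
  eb : Commute e b
  ec : Commute e c
  fc : Commute f c
  hd : a * b * (a * b) = d
  he : b * c * (b * c) = e
  hf : a * e * (a * e) = f
  fa : Commute f a
  da : Commute d a

variable {a b c d e f}

theorem URel.ba (R : URel a b c d e f) : b * a = a * (b * d) := by
  have h1 : b * a = a * d * b := by
    calc b * a = (a * a) * (b * a) * (b * b) := by rw [R.sa, R.sb]; group
      _ = a * (a * b * (a * b)) * b := by group
      _ = a * d * b := by rw [R.hd]
  rw [h1, mul_assoc, R.db.eq]

theorem URel.cb (R : URel a b c d e f) : c * b = b * (c * e) := by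
  calc c * b = (b * b) * (c * b) * (c * c) := by rw [R.sb, R.sc]; group
    _ = b * (b * c * (b * c)) * c := by group
    _ = b * (e * c) := by rw [R.he, mul_assoc]
    _ = _ := by rw [R.ec.eq]

theorem URel.dc (R : URel a b c d e f) : d * c = c * (d * f) := by
  have hea : e * a = a * (e * f) := by
    calc e * a = (a * a) * (e * a) * (e * e) := by rw [R.sa, R.se]; group
      _ = a * (a * e * (a * e)) * e := by group
      _ = a * (f * e) := by rw [R.hf, mul_assoc]
      _ = _ := by rw [R.ef.eq]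
  have hcbc : c * b * c = b * e := by
    rw [R.cb, show b * (c * e) * c = b * (c * (e * c)) by group, R.ec.eq, ← mul_assoc c c e, R.sc, one_mul]
  have h1 : c * d * c = d * f := by
    calc c * d * c = (c * a) * b * (a * b) * c := by rw [← R.hd]; group
      _ = (a * c) * b * ((c * c) * (a * b)) * c := by rw [R.sc, ← R.ac'.eq]; group
      _ = a * (c * b * c) * ((c * a) * b) * c := by group
      _ = a * (c * b * c) * a * (c * b * c) := by rw [← R.ac'.eq]; group
      _ = a * b * (e * a) * (b * e) := by rw [hcbc]; group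
      _ = a * b * a * (e * f * b) * e := by rw [hea]; group
      _ = d * f := by
        have hfb : e * f * b * e = b * f := by
          have hfbc : Commute f b := by
            rw [← R.hf]
            have hab : a * b = b * a * d := by
              rw [R.ba, show a * (b * d) * d = a * b * (d * d) by group, R.sd, mul_one]
            show a * e * (a * e) * b = b * (a * e * (a * e))
            calc a * e * (a * e) * b = a * e * a * (b * e) := by rw [← R.eb.eq]; group
              _ = a * e * (a * b) * e := by group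
              _ = a * e * (b * a * d) * e := by rw [hab]
              _ = a * (b * e) * a * d * e := by rw [← R.eb.eq]; group
              _ = (a * b) * e * a * (d * e) := by group
              _ = (b * a * d) * e * a * (d * e) := by rw [hab]
              _ = b * a * (d * e) * a * (d * e) := by group
              _ = b * a * (e * (d * a)) * (d * e) := by rw [R.de.eq]; group
              _ = b * a * e * a * (d * d) * e := by rw [R.da.eq]; group
              _ = b * (a * e * (a * e)) := by rw [R.sd]; group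
          calc e * f * b * e = f * (e * b) * e := by rw [R.ef.eq]; group
            _ = f * b * (e * e) := by rw [R.eb.eq]; group
            _ = b * f := by rw [R.se, mul_one, hfbc.eq]
        rw [show a * b * a * (e * f * b) * e = a * b * a * (e * f * b * e) by group, hfb, ← R.hd]
        group
  calc d * c = (c * c) * (d * c) := by rw [R.sc, one_mul]
    _ = c * (c * d * c) := by group
    _ = _ := by rw [h1]

theorem URel.mem (R : URel a b c d e f) {g : M} (hg : g ∈ Subgroup.closure ({a, b, c} : Set M)) :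
    ∃ p q r s t u, g = uf a b c d e f p q r s t u := by
  have hA : ∀ p q r s t u, a * uf a b c d e f p q r s t u = uf a b c d e f (!p) q r s t u := by
    intro p q r s t u
    show a * (pw a p * _) = _
    rw [← mul_assoc, show a * pw a p = pw a (!p) by cases p <;> simp [pw, R.sa]]
    rfl
  have hC : ∀ p q r s t u, ∃ p' q' r' s' t' u',
      c * uf a b c d e f p q r s t u = uf a b c d e f p' q' r' s' t' u' := by
    intro p q r s t u
    refine ⟨p, q, !r, s, Bool.xor q t, u, ?_⟩
    unfold uf
    rw [← mul_assoc, show c * pw a p = pw a p * c by cases p <;> simp [pw, R.ac'.eq], mul_assoc]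
    congr 1
    cases q
    · show c * (1 * _) = 1 * _
      rw [one_mul, one_mul, ← mul_assoc, show c * pw c r = pw c (!r) by cases r <;> simp [pw, R.sc],
        Bool.false_xor]
    · show c * (b * _) = b * _
      rw [← mul_assoc, R.cb, mul_assoc, mul_assoc]
      congr 1
      rw [show e * (pw c r * (pw d s * (pw e t * pw f u))) = pw c r * (pw d s * (e * (pw e t * pw f u))) by
        have h1 : Commute e (pw c r) := by cases r; exacts [Commute.one_right _, R.ec]
        have h2 : Commute e (pw d s) := by cases s; exacts [Commute.one_right _, R.de.symm]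
        rw [← mul_assoc e, h1.eq, mul_assoc, ← mul_assoc e, h2.eq, mul_assoc]]
      rw [← mul_assoc c, show c * pw c r = pw c (!r) by cases r <;> simp [pw, R.sc], ← mul_assoc e,
        show e * pw e t = pw e (Bool.xor true t) by cases t <;> simp [pw, R.se]]
  have hB : ∀ p q r s t u, ∃ p' q' r' s' t' u',
      b * uf a b c d e f p q r s t u = uf a b c d e f p' q' r' s' t' u' := by
    intro p q r s t u
    cases p
    · refine ⟨false, !q, r, s, t, u, ?_⟩
      unfold uf
      show b * (1 * _) = 1 * _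
      rw [one_mul, one_mul, ← mul_assoc, show b * pw b q = pw b (!q) by cases q <;> simp [pw, R.sb]]
    · refine ⟨true, !q, r, !s, t, Bool.xor r u, ?_⟩
      unfold uf
      show b * (a * _) = a * _
      rw [← mul_assoc, R.ba, mul_assoc, mul_assoc]
      congr 1
      rw [← mul_assoc d, show d * pw b q = pw b q * d by cases q <;> simp [pw, R.db.eq], mul_assoc, ← mul_assoc b,
        show b * pw b q = pw b (!q) by cases q <;> simp [pw, R.sb]]
      congr 1
      cases r
      · show d * (1 * _) = 1 * _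
        rw [one_mul, one_mul, ← mul_assoc, show d * pw d s = pw d (!s) by cases s <;> simp [pw, R.sd],
          Bool.false_xor]
      · show d * (c * _) = c * _
        rw [← mul_assoc, R.dc, mul_assoc, mul_assoc]
        congr 1
        have h1 : Commute f (pw d s) := by cases s; exacts [Commute.one_right _, R.df.symm]
        have h2 : Commute f (pw e t) := by cases t; exacts [Commute.one_right _, R.ef.symm]
        rw [← mul_assoc f, h1.eq, mul_assoc, ← mul_assoc f, h2.eq, mul_assoc, ← mul_assoc d,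
          show d * pw d s = pw d (!s) by cases s <;> simp [pw, R.sd],
          show f * pw f u = pw f (Bool.xor true u) by cases u <;> simp [pw, R.sf]]
  have hgen : ∀ g ∈ ({a, b, c} : Set M), ∀ p q r s t u, ∃ p' q' r' s' t' u',
      g * uf a b c d e f p q r s t u = uf a b c d e f p' q' r' s' t' u' := by
    intro g hg
    rcases hg with rfl | rfl | rfl
    exacts [fun p q r s t u => ⟨_, _, _, _, _, _, hA ..⟩, hB, hC]
  induction hg using Subgroup.closure_induction_left with
  | one => exact ⟨false, false, false, false, false, false, by simp [uf, pw]⟩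
  | mul_left g hg y hy ih =>
    obtain ⟨p, q, r, s, t, u, rfl⟩ := ih
    exact hgen g hg p q r s t u
  | inv_mul_cancel g hg y hy ih =>
    obtain ⟨p, q, r, s, t, u, rfl⟩ := ih
    have hinv : g⁻¹ = g := by
      rcases hg with rfl | rfl | rfl
      exacts [inv_eq_of_mul_eq_one_right R.sa, inv_eq_of_mul_eq_one_right R.sb, inv_eq_of_mul_eq_one_right R.sc]
    rw [hinv]
    exact hgen g hg p q r s t u

theorem URel.uf_mem (R : URel a b c d e f) (p q r s t u : Bool) :
    uf a b c d e f p q r s t u ∈ Subgroup.closure ({a, b, c} : Set M) := by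
  have ha : a ∈ Subgroup.closure ({a, b, c} : Set M) := Subgroup.subset_closure (by simp)
  have hb : b ∈ Subgroup.closure ({a, b, c} : Set M) := Subgroup.subset_closure (by simp)
  have hc : c ∈ Subgroup.closure ({a, b, c} : Set M) := Subgroup.subset_closure (by simp)
  have hd : d ∈ Subgroup.closure ({a, b, c} : Set M) := R.hd ▸ mul_mem (mul_mem ha hb) (mul_mem ha hb)
  have he : e ∈ Subgroup.closure ({a, b, c} : Set M) := R.he ▸ mul_mem (mul_mem hb hc) (mul_mem hb hc)
  have hf : f ∈ Subgroup.closure ({a, b, c} : Set M) := R.hf ▸ mul_mem (mul_mem ha he) (mul_mem ha he)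
  have hp : ∀ {g}, g ∈ Subgroup.closure ({a, b, c} : Set M) → ∀ p, pw g p ∈ Subgroup.closure ({a, b, c} : Set M) :=
    fun hg p => by cases p; exacts [one_mem _, hg]
  exact mul_mem (hp ha p) (mul_mem (hp hb q) (mul_mem (hp hc r) (mul_mem (hp hd s) (mul_mem (hp he t) (hp hf u)))))

end Unitriangular

variable {G : Type*} [Group G] [Finite G] {z : G} {Q : Subgroup G} {co : G → ℕ} {ac : G → ℕ → ℕ}
variable {x n m : G}

/-- A 2-group of order `2^10` meeting `A` trivially. -/
theorem exists_ten (C : Cfg z Q co ac x n m) :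
    ∃ K : Subgroup G, K ≤ NA C.duo.fr ∧ Nat.card K = 1024 ∧ AG C.duo.fr ⊓ K = ⊥ := by
  classical
  set h := C.duo.fr
  obtain ⟨E0, h0⟩ := exists_side h (M := 170) (by simp)
  obtain ⟨E4, h4⟩ := exists_side h (M := 85) (by simp)
  obtain ⟨a, ha, hak⟩ := exists_root_lift h0 h4 (ent := (0, (12, 192), 1)) (by simp [ktL])
  obtain ⟨b, hb, hbk⟩ := exists_root_lift h0 h4 (ent := (1, (48, 192), 8)) (by simp [ktL])
  obtain ⟨c, hc, hck⟩ := exists_root_lift h0 h4 (ent := (2, (12, 192), 32)) (by simp [ktL])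
  change ∀ k < 256, ac a k = kt 0 k at hak
  change ∀ k < 256, ac b k = kt 1 k at hbk
  change ∀ k < 256, ac c k = kt 2 k at hck
  have hlt : ∀ n < 6, ∀ k < 256, kt n k < 256 := fun n hn k hk =>
    (sg_lin (kt_lin n hn).1 (kt_lin n hn).2).lt k hk
  have hz : ∀ {g : G}, g ∈ Std z E0 E4 → Commute g z := fun hg => Std.comm hg
  have hact : ∀ {g k' : G} {i j : ℕ}, g ∈ Std z E0 E4 → k' ∈ Std z E0 E4 → i < 6 → j < 6 →
      (∀ k < 256, ac g k = kt i k) → (∀ k < 256, ac k' k = kt j k) →
      ∀ k < 256, ac (g * k' * (g * k')) k = kt i (kt j (kt i (kt j k))) := by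
    intro g k' i j hg hk' hi hj e1 e2 k hk
    rw [h.ac_mul ((hz hg).mul_left (hz hk')) ((hz hg).mul_left (hz hk')) hk, h.ac_mul (hz hg) (hz hk') hk, e2 k hk,
      e1 _ (hlt j hj k hk), h.ac_mul (hz hg) (hz hk') (hlt i hi _ (hlt j hj k hk)),
      e2 _ (hlt i hi _ (hlt j hj k hk)), e1 _ (hlt j hj _ (hlt i hi _ (hlt j hj k hk)))]
  set d := a * b * (a * b) with hd'
  set e := b * c * (b * c) with he'
  have hd : d ∈ Std z E0 E4 := mul_mem (mul_mem ha hb) (mul_mem ha hb)
  have he : e ∈ Std z E0 E4 := mul_mem (mul_mem hb hc) (mul_mem hb hc)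
  have hdk : ∀ k < 256, ac d k = kt 3 k := fun k hk =>
    (hact ha hb (by norm_num) (by norm_num) hak hbk k hk).trans (ktN_comm k hk).1
  have hek : ∀ k < 256, ac e k = kt 4 k := fun k hk =>
    (hact hb hc (by norm_num) (by norm_num) hbk hck k hk).trans (ktN_comm k hk).2.1
  set f := a * e * (a * e) with hf'
  have hf : f ∈ Std z E0 E4 := mul_mem (mul_mem ha he) (mul_mem ha he)
  have hfk : ∀ k < 256, ac f k = kt 5 k := fun k hk =>
    (hact ha he (by norm_num) (by norm_num) hak hek k hk).trans (ktN_comm k hk).2.2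
  have rc : ∀ {u v : G} (e1 e2 : ℕ × (ℕ × ℕ) × ℕ), e1 ∈ ktL → e2 ∈ ktL → e1.2.1 = e2.2.1 →
      u ∈ Std z E0 E4 → v ∈ Std z E0 E4 → (∀ k < 256, ac u k = kt e1.1 k) → (∀ k < 256, ac v k = kt e2.1 k) →
      Commute u v ∧ u * u = 1 :=
    fun e1 e2 m1 m2 hp hu hv k1 k2 => root_commute C h0 h4 m1 m2 hp hu hv k1 k2
  have R : URel a b c d e f :=
    { sa := (rc (0, (12, 192), 1) (2, (12, 192), 32) (by simp [ktL]) (by simp [ktL]) rfl ha hc hak hck).2
      sb := (rc (1, (48, 192), 8) (3, (48, 192), 2) (by simp [ktL]) (by simp [ktL]) rfl hb hd hbk hdk).2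
      sc := (rc (2, (3, 192), 32) (4, (3, 192), 16) (by simp [ktL]) (by simp [ktL]) rfl hc he hck hek).2
      sd := (rc (3, (48, 192), 2) (4, (48, 192), 16) (by simp [ktL]) (by simp [ktL]) rfl hd he hdk hek).2
      se := (rc (4, (48, 192), 16) (3, (48, 192), 2) (by simp [ktL]) (by simp [ktL]) rfl he hd hek hdk).2
      sf := (rc (5, (48, 192), 4) (3, (48, 192), 2) (by simp [ktL]) (by simp [ktL]) rfl hf hd hfk hdk).2
      ac' := (rc (0, (12, 192), 1) (2, (12, 192), 32) (by simp [ktL]) (by simp [ktL]) rfl ha hc hak hck).1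
      de := (rc (3, (48, 192), 2) (4, (48, 192), 16) (by simp [ktL]) (by simp [ktL]) rfl hd he hdk hek).1
      df := (rc (3, (48, 192), 2) (5, (48, 192), 4) (by simp [ktL]) (by simp [ktL]) rfl hd hf hdk hfk).1
      ef := (rc (4, (48, 192), 16) (5, (48, 192), 4) (by simp [ktL]) (by simp [ktL]) rfl he hf hek hfk).1
      db := (rc (3, (48, 192), 2) (1, (48, 192), 8) (by simp [ktL]) (by simp [ktL]) rfl hd hb hdk hbk).1
      eb := (rc (4, (48, 192), 16) (1, (48, 192), 8) (by simp [ktL]) (by simp [ktL]) rfl he hb hek hbk).1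
      ec := (rc (4, (3, 192), 16) (2, (3, 192), 32) (by simp [ktL]) (by simp [ktL]) rfl he hc hek hck).1
      fc := (rc (5, (12, 192), 4) (2, (12, 192), 32) (by simp [ktL]) (by simp [ktL]) rfl hf hc hfk hck).1
      hd := rfl
      he := rfl
      hf := rfl
      fa := (rc (5, (12, 192), 4) (0, (12, 192), 1) (by simp [ktL]) (by simp [ktL]) rfl hf ha hfk hak).1
      da := (rc (3, (12, 48), 2) (0, (12, 48), 1) (by simp [ktL]) (by simp [ktL]) rfl hd ha hdk hak).1 }
  set U := Subgroup.closure ({a, b, c} : Set G)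
  have hUS : U ≤ Std z E0 E4 := (Subgroup.closure_le _).2 fun g hg => by
    rcases hg with rfl | rfl | rfl
    exacts [ha, hb, hc]
  have hpw : ∀ {g : G}, g ∈ Std z E0 E4 → ∀ {i}, i < 6 → (∀ k < 256, ac g k = kt i k) → ∀ p k, k < 256 →
      ac (pw g p) k = (bif p then kt i k else k) ∧ (bif p then kt i k else k) < 256 := by
    intro g _ i hi e1 p k hk
    cases p
    · exact ⟨h.ac_Q (one_mem Q) hk, hk⟩
    · exact ⟨e1 k hk, hlt i hi k hk⟩
  have hpz : ∀ {g : G}, g ∈ Std z E0 E4 → ∀ p, Commute (pw g p) z := fun hg p => by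
    cases p; exacts [Commute.one_left z, hz hg]
  have huf : ∀ p q r s t u, ∀ k < 256, ac (uf a b c d e f p q r s t u) k = ktN p q r s t u k := by
    intro p q r s t u k hk
    obtain ⟨e6, l6⟩ := hpw hf (show 5 < 6 by norm_num) hfk u k hk
    obtain ⟨e5, l5⟩ := hpw he (show 4 < 6 by norm_num) hek t _ l6
    obtain ⟨e4, l4⟩ := hpw hd (show 3 < 6 by norm_num) hdk s _ l5
    obtain ⟨e3, l3⟩ := hpw hc (show 2 < 6 by norm_num) hck r _ l4
    obtain ⟨e2, l2⟩ := hpw hb (show 1 < 6 by norm_num) hbk q _ l3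
    obtain ⟨e1, -⟩ := hpw ha (show 0 < 6 by norm_num) hak p _ l2
    unfold uf
    rw [h.ac_mul (hpz ha p) ((hpz hb q).mul_left ((hpz hc r).mul_left ((hpz hd s).mul_left
        ((hpz he t).mul_left (hpz hf u))))) hk,
      h.ac_mul (hpz hb q) ((hpz hc r).mul_left ((hpz hd s).mul_left ((hpz he t).mul_left (hpz hf u)))) hk,
      h.ac_mul (hpz hc r) ((hpz hd s).mul_left ((hpz he t).mul_left (hpz hf u))) hk,
      h.ac_mul (hpz hd s) ((hpz he t).mul_left (hpz hf u)) hk, h.ac_mul (hpz he t) (hpz hf u) hk,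
      e6, e5, e4, e3, e2, e1]
    rfl
  have hUW : ∀ g ∈ U, ∀ g' ∈ U, (∀ w ∈ wB, ac g w = ac g' w) → g = g' := by
    intro g hg g' hg' hw
    obtain ⟨p, q, r, s, t, u, rfl⟩ := R.mem hg
    obtain ⟨p', q', r', s', t', u', rfl⟩ := R.mem hg'
    obtain ⟨rfl, rfl, rfl, rfl, rfl, rfl⟩ := ktN_inj p q r s t u p' q' r' s' t' u' fun w hw' => by
      rw [← huf _ _ _ _ _ _ w (wB_spec w hw').1, ← huf _ _ _ _ _ _ w (wB_spec w hw').1, hw w hw']
    rfl
  have hUcard : Nat.card U = 64 := by
    have hbij : Function.Bijective (fun v : Bool × Bool × Bool × Bool × Bool × Bool =>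
        (⟨_, R.uf_mem v.1 v.2.1 v.2.2.1 v.2.2.2.1 v.2.2.2.2.1 v.2.2.2.2.2⟩ : U)) := by
      refine ⟨fun v v' hv => ?_, fun g => ?_⟩
      · obtain ⟨p, q, r, s, t, u⟩ := v
        obtain ⟨p', q', r', s', t', u'⟩ := v'
        obtain ⟨rfl, rfl, rfl, rfl, rfl, rfl⟩ := ktN_inj p q r s t u p' q' r' s' t' u' fun w hw' => by
          rw [← huf _ _ _ _ _ _ w (wB_spec w hw').1, ← huf _ _ _ _ _ _ w (wB_spec w hw').1]
          exact congrArg (fun g : U => ac (g : G) w) hv
        rfl
      · obtain ⟨p, q, r, s, t, u, e⟩ := R.mem g.2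
        exact ⟨(p, q, r, s, t, u), Subtype.ext e.symm⟩
    rw [← Nat.card_congr (Equiv.ofBijective _ hbij)]
    simp
  have hUn : U ≤ Subgroup.normalizer (E4 : Set G) := fun g hg => (hUS hg).2.2
  set K := U ⊔ E4
  have hKmem : ∀ g, g ∈ K → ∃ u ∈ U, ∃ q ∈ E4, u * q = g := fun g hg => by
    rw [← SetLike.mem_coe, Subgroup.coe_mul_of_left_le_normalizer_right U E4 hUn, Set.mem_mul] at hg
    exact hg
  have hN : ∀ g ∈ U, g ∈ NA h := by
    intro g hg
    obtain ⟨p, q, r, s, t, u, rfl⟩ := R.mem hg
    have hS := hUS hg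
    refine norm_AG_of h (hz hS) fun w hw => ?_
    rw [huf _ _ _ _ _ _ w (wB_spec w hw).1]
    exact ktN_W p q r s t u w hw
  -- fixing the subspace pointwise
  have hfixA : ∀ g ∈ AG h, ∀ w ∈ wB, ac g w = w := fun g hg w hw => by
    obtain ⟨i, hi, hgi⟩ := exists_actA h hg
    rw [hgi w (wB_spec w hw).1, rA_fix i hi w hw]
  have hEact : ∀ u ∈ U, ∀ q ∈ E4, ∀ w ∈ wB, ac (u * q) w = ac u w := fun u hu q hq w hw => by
    rw [h.ac_mul (hz (hUS hu)) (h.es.comm q (h4.le hq)) (wB_spec w hw).1, h.ac_Q (h4.le hq) (wB_spec w hw).1]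
  refine ⟨K, sup_le hN fun q hq => mem_norm h fun r hr => Pre.Q_conj (C := C) (h4.le hq) hr, ?_, ?_⟩
  · have hbij : Function.Bijective (fun v : U × E4 => (⟨(v.1 : G) * v.2,
        mul_mem (le_sup_left (a := U) (b := E4) v.1.2) (le_sup_right (a := U) (b := E4) v.2.2)⟩ : K)) := by
      refine ⟨?_, fun g => ?_⟩
      · rintro ⟨⟨u, hu⟩, ⟨q, hq⟩⟩ ⟨⟨u', hu'⟩, ⟨q', hq'⟩⟩ hv
        have e := congrArg Subtype.val hv
        simp only at e
        obtain rfl : u = u' := hUW u hu u' hu' fun w hw => by
          rw [← hEact u hu q hq w hw, e, hEact u' hu' q' hq' w hw]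
        obtain rfl := mul_left_cancel e
        rfl
      · obtain ⟨u, hu, q, hq, e⟩ := hKmem g g.2
        exact ⟨(⟨u, hu⟩, ⟨q, hq⟩), Subtype.ext e⟩
    rw [← Nat.card_congr (Equiv.ofBijective _ hbij), Nat.card_prod, hUcard, h4.card (by simp)]
  · rw [Subgroup.eq_bot_iff_forall]
    rintro g ⟨hgA, hgK⟩
    obtain ⟨u, hu, q, hq, rfl⟩ := hKmem g hgK
    obtain rfl : u = 1 := hUW u hu 1 (one_mem U) fun w hw => by
      rw [← hEact u hu q hq w hw, hfixA _ hgA w hw, h.ac_Q (one_mem Q) (wB_spec w hw).1]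
    rw [one_mul] at hgA ⊢
    obtain ⟨hqQ, hqW⟩ := inter_Q h (h4.le hq) hgA
    have key : ∀ k < 256, inW k = true → side 85 k = true → k = 0 := by decide +kernel
    exact h4.co_inj hq (one_mem E4)
      ((key _ (h.co_lt q hqQ) hqW (h4.code q hq)).trans h.co_one.symm)

/-- The extension splits. -/
theorem Base.complement {C : Cfg z Q co ac x n m} (B : Base C)
    (hB : ∀ s < 2048, (B.O s ↔ zmask0.testBit s = true)) :
    ∃ K : Subgroup ↥(NA C.duo.fr), ((AG C.duo.fr).subgroupOf (NA C.duo.fr)).IsComplement' K := by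
  obtain ⟨T, hTN, hT, hTA⟩ := exists_ten C
  set N := NA C.duo.fr
  set A := (AG C.duo.fr).subgroupOf N
  haveI : A.Normal := Subgroup.normal_in_normalizer
  haveI : IsMulCommutative A :=
    ⟨⟨fun a b => Subtype.ext (Subtype.ext (AG_abelian C a.2 b.2).eq)⟩⟩
  set T' := T.subgroupOf N
  have hAT : A ⊓ T' = ⊥ := by
    rw [Subgroup.eq_bot_iff_forall]
    rintro g ⟨h1, h2⟩
    have : (g : G) ∈ AG C.duo.fr ⊓ T := ⟨h1, h2⟩
    rw [hTA, Subgroup.mem_bot] at this
    exact Subtype.ext this
  have hcA : Nat.card A = 2 ^ 11 := by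
    rw [Nat.card_congr (Subgroup.subgroupOfEquivOfLe (H := AG C.duo.fr) (K := N)
      Subgroup.le_normalizer).toEquiv, B.card_AG]
  have hcT : Nat.card T' = 2 ^ 10 := by
    rw [Nat.card_congr (Subgroup.subgroupOfEquivOfLe hTN).toEquiv, hT]; rfl
  refine Cores.Gaschutz.exists_complement (K := A) (U := A ⊔ T') (A := T') le_sup_left ?_
    (by rw [inf_comm]; exact hAT) rfl
  have hcU : Nat.card ↥(A ⊔ T') = 2 ^ 21 := by
    have hbij : Function.Bijective (fun v : A × T' => (⟨(v.1 : ↥N) * v.2,
        mul_mem (le_sup_left (a := A) (b := T') v.1.2) (le_sup_right (a := A) (b := T') v.2.2)⟩ : ↥(A ⊔ T'))) := by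
      refine ⟨fun v v' hv => ?_, fun g => ?_⟩
      · exact Subgroup.mul_injective_of_disjoint (disjoint_iff.2 hAT) (congrArg Subtype.val hv)
      · have hg : (g : ↥N) ∈ ((A : Set ↥N) * (T' : Set ↥N)) := by
          rw [← Subgroup.normal_mul]; exact g.2
        obtain ⟨u, hu, q, hq, e⟩ := Set.mem_mul.1 hg
        exact ⟨(⟨u, hu⟩, ⟨q, hq⟩), Subtype.ext e⟩
    rw [← Nat.card_congr (Equiv.ofBijective _ hbij), Nat.card_prod, hcA, hcT]; norm_num
  have hidx := Subgroup.card_mul_index (A ⊔ T')
  rw [hcU, (B.act24_range_eq hB).2] at hidx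
  have hi : (A ⊔ T').index = 239085 := by norm_num at hidx; omega
  rw [hcA, hi]
  exact Nat.Coprime.pow_left _ (by norm_num)

end Cfsg.Agent.Lib.Co1Golay43
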