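import Cfsg.Agent.Lib.Co1Golay43.Classes
import Cfsg.Agent.Lib.Co1Golay43.Complement

/-!
# Conway type: any two normalisers are isomorphic

Both are split extensions of the coordinate group by the group of the code, and conjugation on the
coordinates is determined by the permutation of the points.

Owner: helper43.
-/

set_option autoImplicit false
set_option maxRecDepth 100000
set_option linter.unusedSectionVars false

namespace Cfsg.Agent.Lib.Co1Golay43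

open Cfsg.Agent.Lib.Co1Type31
open Cfsg.Agent.Lib.FischerLarge43 (Auto cb0 pvF pvF_lt)
open Cfsg.Agent.Lib.Golay (indexHom)

universe u v

variable {G : Type u} [Group G] [Finite G] {z : G} {Q : Subgroup G} {co : G → ℕ} {ac : G → ℕ → ℕ}
variable {x n m : G} {C : Cfg z Q co ac x n m} (B : Base C)
variable {G' : Type v} [Group G'] [Finite G'] {z' : G'} {Q' : Subgroup G'} {co' : G' → ℕ} {ac' : G' → ℕ → ℕ}
variable {x' n' m' : G'} {C' : Cfg z' Q' co' ac' x' n' m'} (B' : Base C')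

namespace Base

/-- The action on the coordinates is determined by the permutation. -/
theorem nf_eq_of_act24 (hB : ∀ s < 2048, (B.O s ↔ zmask0.testBit s = true))
    (hB' : ∀ s < 2048, (B'.O s ↔ zmask0.testBit s = true)) {g : NA C.duo.fr} {g' : NA C'.duo.fr}
    (e : B.act24 hB g = B'.act24 hB' g') : ∀ a < 2048, B.nf g a = B'.nf g' a := by
  have key : ∀ {g : NA C.duo.fr} {g' : NA C'.duo.fr}, B.act24 hB g = B'.act24 hB' g' →
      ∀ a < 2048, B.nf g⁻¹ a = B'.nf g'⁻¹ a := by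
    intro g g' e a ha
    have hσ : B.sigma hB g = B'.sigma hB' g' := indexHom.injective e
    have h1 := B.gn_auto g hB
    have h2 := B'.gn_auto g'⁻¹ hB'
    have hid : Auto cb0 fun v => B'.gn g'⁻¹ (B.gn g v) := by
      refine ⟨fun v hv => h2.lt _ (h1.lt v hv), fun v hv w hw => ?_, fun v hv w hw e => ?_, fun v hv => ?_⟩
      · show B'.gn g'⁻¹ (B.gn g (v ^^^ w)) = _
        rw [h1.add v hv w hw, h2.add _ (h1.lt v hv) _ (h1.lt w hw)]
      · exact h1.inj v hv w hw (h2.inj _ (h1.lt v hv) _ (h1.lt w hw) e)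
      · exact (h2.mem _ (h1.lt v hv)).trans (h1.mem v hv)
    have heq : ∀ v < 2048, B.gn g v = B'.gn g' v := fun v hv => by
      have e1 : B'.gn g'⁻¹ (B.gn g v) = v := hid.eq_id (fun i k => by
        show B'.gn g'⁻¹ (B.gn g (pvF i k)) = _
        rw [B.sigma_spec hB, hσ, ← B'.sigma_spec hB', ← B'.gn_mul, inv_mul_cancel,
          B'.gn_one (pvF_lt i k)]) hv
      conv_rhs => rw [← e1]
      rw [← B'.gn_mul, mul_inv_cancel, B'.gn_one (h1.lt v hv)]
    refine pair11_ext (B.nf_lt _ _) (B'.nf_lt _ _) fun w hw => ?_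
    have f1 := (B.gn_spec g (psi w)).2 a ha
    have f2 := (B'.gn_spec g' (psi w)).2 a ha
    rw [heq _ (psi_lt hw), f2, phi_psi_eq hw] at f1
    rw [pair11_comm w, pair11_comm w, f1]
  intro a ha
  have h := key (g := g⁻¹) (g' := g'⁻¹) (by rw [map_inv, map_inv, e]) a ha
  rwa [inv_inv, inv_inv] at h

/-- The coordinates and a complement give all of the normaliser. -/
theorem split_bijective {K : Subgroup ↥(NA C.duo.fr)}
    (hK : ((AG C.duo.fr).subgroupOf (NA C.duo.fr)).IsComplement' K) :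
    Function.Bijective fun p : Fin 2048 × K =>
      (⟨B.el p.1.1, Subgroup.le_normalizer (B.el_mem _)⟩ : ↥(NA C.duo.fr)) * p.2 := by
  refine ⟨fun p q e => ?_, fun g => ?_⟩
  · have h := hK.1 (a₁ := (⟨_, show (⟨B.el p.1.1, Subgroup.le_normalizer (B.el_mem _)⟩ : ↥(NA C.duo.fr)) ∈
        (AG C.duo.fr).subgroupOf (NA C.duo.fr) from B.el_mem _⟩, p.2))
      (a₂ := (⟨_, show (⟨B.el q.1.1, Subgroup.le_normalizer (B.el_mem _)⟩ : ↥(NA C.duo.fr)) ∈
        (AG C.duo.fr).subgroupOf (NA C.duo.fr) from B.el_mem _⟩, q.2)) e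
    simp only [Prod.mk.injEq, Subtype.mk.injEq] at h
    exact Prod.ext (Fin.ext (B.el_inj p.1.2 q.1.2 h.1)) h.2
  · obtain ⟨⟨⟨⟨a, ha⟩, ha'⟩, k⟩, e⟩ := hK.2 g
    obtain ⟨s, hs, rfl⟩ := B.el_surj (show a ∈ AG C.duo.fr from ha')
    exact ⟨(⟨s, hs⟩, k), e⟩

/-- A complement maps isomorphically to the group of the code. -/
theorem act24_bijOn (hB : ∀ s < 2048, (B.O s ↔ zmask0.testBit s = true)) {K : Subgroup ↥(NA C.duo.fr)}
    (hK : ((AG C.duo.fr).subgroupOf (NA C.duo.fr)).IsComplement' K) :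
    Function.Injective (fun k : K => B.act24 hB k) ∧ ∀ σ ∈ Cfsg.M24, ∃ k : K, B.act24 hB k = σ := by
  refine ⟨fun k l e => ?_, fun σ hσ => ?_⟩
  · have h : (k : ↥(NA C.duo.fr))⁻¹ * l ∈ (B.act24 hB).ker := by
      rw [MonoidHom.mem_ker, map_mul, map_inv]
      exact inv_mul_eq_one.2 e
    rw [B.act24_ker hB] at h
    have h1 : (k : ↥(NA C.duo.fr))⁻¹ * l = 1 :=
      Subgroup.disjoint_def.1 hK.disjoint h (mul_mem (inv_mem k.2) l.2)
    exact Subtype.ext (inv_mul_eq_one.1 h1)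
  · rw [← (B.act24_range_eq hB).1] at hσ
    obtain ⟨g, rfl⟩ := hσ
    obtain ⟨⟨⟨a, ha⟩, k⟩, e⟩ := hK.2 g
    refine ⟨k, ?_⟩
    rw [← B.act24_ker hB, SetLike.mem_coe, MonoidHom.mem_ker] at ha
    rw [← e]
    show _ = B.act24 hB (a * k)
    rw [map_mul, ha, one_mul]

/-- Any two configurations have isomorphic normalisers, respecting the coordinates. -/
theorem exists_iso (hB : ∀ s < 2048, (B.O s ↔ zmask0.testBit s = true))
    (hB' : ∀ s < 2048, (B'.O s ↔ zmask0.testBit s = true)) :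
    ∃ f : ↥(NA C.duo.fr) ≃* ↥(NA C'.duo.fr), ∀ s, s < 2048 →
      (f ⟨B.el s, Subgroup.le_normalizer (B.el_mem s)⟩ : G') = B'.el s := by
  obtain ⟨K, hK⟩ := B.complement hB
  obtain ⟨K', hK'⟩ := B'.complement hB'
  obtain ⟨hi, hs⟩ := B.act24_bijOn hB hK
  obtain ⟨hi', hs'⟩ := B'.act24_bijOn hB' hK'
  have hex : ∀ k : K, ∃ k' : K', B'.act24 hB' k' = B.act24 hB k := fun k =>
    hs' _ (B.act24_range hB ⟨_, rfl⟩)
  choose ψ hψ using hex
  have hψm : ∀ k l, ψ (k * l) = ψ k * ψ l := fun k l => hi' (by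
    show B'.act24 hB' (ψ (k * l) : ↥(NA C'.duo.fr)) = B'.act24 hB' ((ψ k * ψ l : K') : ↥(NA C'.duo.fr))
    rw [hψ, Subgroup.coe_mul, Subgroup.coe_mul, map_mul, map_mul, hψ, hψ])
  have hψb : Function.Bijective ψ := by
    refine ⟨fun k l e => hi (?_ : B.act24 hB k = B.act24 hB l), fun k' => ?_⟩
    · rw [← hψ, ← hψ, e]
    · obtain ⟨k, hk⟩ := hs _ (B'.act24_range hB' ⟨(k' : ↥(NA C'.duo.fr)), rfl⟩)
      exact ⟨k, hi' ((hψ k).trans hk)⟩
  let e1 := Equiv.ofBijective _ (B.split_bijective hK)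
  let e2 := Equiv.ofBijective _ (B'.split_bijective hK')
  let F : ↥(NA C.duo.fr) ≃ ↥(NA C'.duo.fr) :=
    (e1.symm.trans ((Equiv.refl (Fin 2048)).prodCongr (Equiv.ofBijective ψ hψb))).trans e2
  have hF : ∀ p, F (e1 p) = e2 (p.1, ψ p.2) := fun p => by simp only [F, Equiv.trans_apply, Equiv.symm_apply_apply]; rfl
  have hconj : ∀ (k : K) (s : ℕ), s < 2048 →
      ((k : ↥(NA C.duo.fr)) : G) * B.el s * ((k : ↥(NA C.duo.fr)) : G)⁻¹ = B.el (B'.nf (ψ k) s) ∧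
      ((ψ k : ↥(NA C'.duo.fr)) : G') * B'.el s * ((ψ k : ↥(NA C'.duo.fr)) : G')⁻¹ =
        B'.el (B'.nf (ψ k) s) := fun k s hs => by
    refine ⟨?_, (B'.el_nf _ s).symm⟩
    rw [← B.el_nf, B.nf_eq_of_act24 B' hB hB' (hψ k).symm s hs]
  have hmul : ∀ p q : Fin 2048 × K, ∃ r : Fin 2048 × K, e1 p * e1 q = e1 r ∧
      e2 (p.1, ψ p.2) * e2 (q.1, ψ q.2) = e2 (r.1, ψ r.2) := by
    intro p q
    have hlt : p.1.1 ^^^ B'.nf (ψ p.2) q.1.1 < 2048 :=
      Nat.xor_lt_two_pow (n := 11) p.1.2 (B'.nf_lt _ _)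
    obtain ⟨c1, c2⟩ := hconj p.2 q.1.1 q.1.2
    refine ⟨(⟨_, hlt⟩, p.2 * q.2), Subtype.ext ?_, Subtype.ext ?_⟩
    · show B.el p.1.1 * ((p.2 : ↥(NA C.duo.fr)) : G) * (B.el q.1.1 * ((q.2 : ↥(NA C.duo.fr)) : G)) =
        B.el (p.1.1 ^^^ B'.nf (ψ p.2) q.1.1) * (((p.2 * q.2 : K) : ↥(NA C.duo.fr)) : G)
      rw [B.el_xor, ← c1, Subgroup.coe_mul, Subgroup.coe_mul]
      group
    · show B'.el p.1.1 * ((ψ p.2 : ↥(NA C'.duo.fr)) : G') * (B'.el q.1.1 * ((ψ q.2 : ↥(NA C'.duo.fr)) : G')) =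
        B'.el (p.1.1 ^^^ B'.nf (ψ p.2) q.1.1) * ((ψ (p.2 * q.2) : ↥(NA C'.duo.fr)) : G')
      rw [B'.el_xor, ← c2, hψm, Subgroup.coe_mul, Subgroup.coe_mul]
      group
  refine ⟨{ F with map_mul' := fun g h => ?_ }, fun s hs => ?_⟩
  · obtain ⟨p, rfl⟩ := e1.surjective g
    obtain ⟨q, rfl⟩ := e1.surjective h
    obtain ⟨r, h1, h2⟩ := hmul p q
    show F (e1 p * e1 q) = F (e1 p) * F (e1 q)
    rw [h1, hF, hF, hF, h2]
  · have hψ1 : ψ 1 = 1 := hi' (by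
      show B'.act24 hB' (ψ 1 : ↥(NA C'.duo.fr)) = B'.act24 hB' ((1 : K') : ↥(NA C'.duo.fr))
      rw [hψ, Subgroup.coe_one, map_one, Subgroup.coe_one, map_one])
    have he : (⟨B.el s, Subgroup.le_normalizer (B.el_mem s)⟩ : ↥(NA C.duo.fr)) = e1 (⟨s, hs⟩, 1) :=
      (mul_one _).symm
    show (F _ : G') = _
    rw [he, hF, hψ1]
    show B'.el s * ((1 : ↥(NA C'.duo.fr)) : G') = _
    rw [Subgroup.coe_one, mul_one]

end Base

end Cfsg.Agent.Lib.Co1Golay43
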