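import Cfsg.Agent.Lib.Co1Golay43.Check

/-!
# Conway type: the module of the group of order `2^11`

A state below 2048 has bit 0 for `z`, bits 1-4 for the lifts of `1, 4, 16, 64`, bits 5-10 for the six
lines; a map is given by the images of the eleven bits.  In the language of functions on four bits this
is the Reed-Muller module of degree at most two.

Owner: helper43.
-/

set_option autoImplicit false
set_option maxRecDepth 100000

namespace Cfsg.Agent.Lib.Co1Golay43

open Cfsg.Agent.Lib.Co1Type31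

/-- the map with given images of the bits -/
def lap (l : List ℕ) (s : ℕ) : ℕ :=
  (List.range 11).foldr (fun j v => (bif s.testBit j then l.getD j 0 else 0) ^^^ v) 0

/-- the four translations -/
def tI : List (List ℕ) := [[1, 3, 4, 8, 16, 36, 72, 144, 256, 512, 1024], [1, 2, 5, 8, 16, 34, 64, 128, 264, 528, 1024], [1, 2, 4, 9, 16, 32, 66, 128, 260, 512, 1040], [1, 2, 4, 8, 17, 32, 64, 130, 256, 516, 1032]]

/-- a translation -/
def tk (k s : ℕ) : ℕ := lap (tI.getD k []) s

/-- the translation of a combination of the duals -/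
def td (d s : ℕ) : ℕ :=
  (List.range 4).foldr (fun k v => bif d.testBit (2 * k + 1) then tk k v else v) s

/-- the two generators -/
def gI : List (List ℕ) := [[1, 2, 6, 8, 16, 34, 64, 128, 320, 640, 1024], [1, 4, 8, 16, 2, 256, 512, 32, 1024, 64, 128]]

/-- a generator -/
def gm (g s : ℕ) : ℕ := lap (gI.getD g []) s

/-- the vector of a state below 32 -/
def wcode (s : ℕ) : ℕ :=
  (bif s.testBit 1 then 1 else 0) ^^^ (bif s.testBit 2 then 4 else 0) ^^^
    (bif s.testBit 3 then 16 else 0) ^^^ (bif s.testBit 4 then 64 else 0)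

/-- combinations of the duals -/
def duals : List ℕ := (List.range 256).filter fun d => Nat.beq (d &&& 85) 0

theorem lap_xor (l : List ℕ) (a b : ℕ) : lap l (a ^^^ b) = lap l a ^^^ lap l b := by
  unfold lap
  induction List.range 11 with
  | nil => exact (Nat.xor_self 0).symm
  | cons j r ih =>
    rw [List.foldr_cons, List.foldr_cons, List.foldr_cons, ih, Nat.testBit_xor]
    generalize List.foldr (fun j v => (bif a.testBit j then l.getD j 0 else 0) ^^^ v) 0 r = A
    generalize List.foldr (fun j v => (bif b.testBit j then l.getD j 0 else 0) ^^^ v) 0 r = B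
    generalize l.getD j 0 = w
    cases a.testBit j <;> cases b.testBit j <;>
      simp only [Bool.xor_false, Bool.false_xor, Bool.xor_true, Bool.not_true, Bool.not_false, cond_true,
        cond_false, Nat.zero_xor]
    · exact Nat.xor_left_comm _ _ _
    · exact Nat.xor_assoc _ _ _ |>.symm
    · rw [Nat.xor_assoc, Nat.xor_left_comm A, ← Nat.xor_assoc, Nat.xor_self, Nat.zero_xor]

theorem tk_xor (k a b : ℕ) : tk k (a ^^^ b) = tk k a ^^^ tk k b := lap_xor _ a b

theorem gm_xor (g a b : ℕ) : gm g (a ^^^ b) = gm g a ^^^ gm g b := lap_xor _ a b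

theorem td_xor (d a b : ℕ) : td d (a ^^^ b) = td d a ^^^ td d b := by
  unfold td
  induction List.range 4 with
  | nil => rfl
  | cons k r ih =>
    simp only [List.foldr_cons, ih]
    cases d.testBit (2 * k + 1)
    · rfl
    · exact tk_xor _ _ _

theorem bit11_step : ∀ s < 2048, s ≠ 0 → ∃ j < 11, s ^^^ 2 ^ j < s := by decide +kernel

theorem ind11 {P : ℕ → Prop} (h0 : P 0) (hs : ∀ s < 2048, ∀ j < 11, P s → P (s ^^^ 2 ^ j)) :
    ∀ s < 2048, P s := by
  intro s
  induction s using Nat.strong_induction_on with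
  | _ s ih =>
    intro hlt
    rcases eq_or_ne s 0 with rfl | h
    · exact h0
    · obtain ⟨j, hj, hl⟩ := bit11_step s hlt h
      have := hs _ (hl.trans hlt) j hj (ih _ hl (hl.trans hlt))
      rwa [Nat.xor_assoc, Nat.xor_self, Nat.xor_zero] at this

theorem tk_bits : ∀ k < 4, ∀ j < 11, tk k (2 ^ j) < 2048 ∧ tk k (2 ^ j) >>> 5 = 2 ^ j >>> 5 := by
  decide +kernel

theorem gm_bits : ∀ g < 2, ∀ j < 11, gm g (2 ^ j) < 2048 ∧
    (5 ≤ j → gm g (2 ^ j) >>> 5 = gr g (2 ^ j >>> 5)) := by decide +kernel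

theorem wcode_spec : ∀ s < 32, wcode s < 256 ∧ inW (wcode s) = true ∧ (wcode s = 0 → s ≤ 1) := by decide +kernel

theorem wcode_surj : ∀ k < 256, inW k = true → ∃ s < 32, wcode s = k := by decide +kernel

/-- the translations on the lifts of the subspace -/
theorem tk_low : ∀ k < 4, ∀ s < 32, tk k s = s ^^^ (bif bn (dB.getD k 0) (wcode s) then 1 else 0) := by
  decide +kernel

/-- the translations on the lifts of the lines -/
theorem tk_high : ∀ k < 4, ∀ j < 6, tk k (2 ^ (5 + j)) ^^^ 2 ^ (5 + j) < 32 ∧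
    wcode (tk k (2 ^ (5 + j)) ^^^ 2 ^ (5 + j)) = dB.getD k 0 ^^^ rA (2 ^ j) (dB.getD k 0) := by decide +kernel

theorem gm_low : ∀ g < 2, ∀ s < 32, gm g s < 32 ∧ wcode (gm g s) = prs (genW.getD g []) (wcode s) ∧
    gm g 1 = 1 := by decide +kernel

theorem gen_duals : ∀ g < 2, ∀ k < 4, prs (genW.getD g []) (dB.getD k 0) ∈ duals ∧
    ∀ j < 11, gm g (tk k (2 ^ j)) = td (prs (genW.getD g []) (dB.getD k 0)) (gm g (2 ^ j)) := by decide +kernel

theorem fixed_low : ∀ g < 2, ∀ e < 32,
    (∀ k < 4, td (prs (genW.getD g []) (dB.getD k 0)) e = e) → e ≤ 1 := by decide +kernel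

theorem duals_split : ∀ d ∈ duals, d < 256 ∧ d = (List.range 4).foldr
    (fun k v => (bif d.testBit (2 * k + 1) then dB.getD k 0 else 0) ^^^ v) 0 := by decide +kernel

theorem duals_key : ∀ b1 b2 b3 b4 : Bool, ∃ d ∈ duals,
    bn d 1 = b1 ∧ bn d 4 = b2 ∧ bn d 16 = b3 ∧ bn d 64 = b4 := by decide +kernel

end Cfsg.Agent.Lib.Co1Golay43
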