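import Cfsg.Agent.Lib.Co1Golay43.Basic
import Cfsg.Agent.Lib.Co1Golay43.Model

/-!
# Conway type: coordinates on the group of order `2^11`

The lifts of the six lines are normalised by the translations coming from the dual subspace; this
fixes them up to `z`, so the translations are exact and each generator of the complement acts as the
model up to `z`.

Owner: helper43.
-/

set_option autoImplicit false
set_option maxRecDepth 100000

namespace Cfsg.Agent.Lib.Co1Golay43

open Cfsg.Agent.Lib.Co1Type31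

variable {G : Type*} [Group G] [Finite G] {z : G} {Q : Subgroup G} {co : G → ℕ} {ac : G → ℕ → ℕ}
variable {x n m : G} (C : Cfg z Q co ac x n m)

/-- A choice of basis. -/
structure Pre where
  bv : ℕ → G
  bz : bv 0 = z
  br : ∀ j < 5, bv j ∈ Q ∧ inW (co (bv j)) = true ∧ co (bv j) = wcode (2 ^ j)
  ba : ∀ j < 6, bv (5 + j) ∈ AG C.duo.fr ∧ ActA ac (bv (5 + j)) (2 ^ j)

variable {C}

/-- The element with given coordinates. -/
def Pre.el (P : Pre C) (s : ℕ) : G :=
  (List.range 11).foldr (fun j g => (bif s.testBit j then P.bv j else 1) * g) 1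

namespace Pre

variable (P : Pre C)

theorem bv_mem {j : ℕ} (hj : j < 11) : P.bv j ∈ AG C.duo.fr := by
  rcases lt_or_ge j 5 with h | h
  · exact EG_le_AG C.duo.fr ⟨(P.br j h).1, (P.br j h).2.1⟩
  · obtain ⟨i, rfl⟩ := Nat.exists_eq_add_of_le h
    exact (P.ba i (by omega)).1

theorem el_mem (s : ℕ) : P.el s ∈ AG C.duo.fr := by
  have key : ∀ l : List ℕ, (∀ j ∈ l, j < 11) →
      l.foldr (fun j g => (bif s.testBit j then P.bv j else 1) * g) 1 ∈ AG C.duo.fr := by
    intro l
    induction l with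
    | nil => exact fun _ => one_mem _
    | cons j l ih =>
      intro h
      refine mul_mem ?_ (ih fun k hk => h k (List.mem_cons_of_mem _ hk))
      cases s.testBit j
      · exact one_mem _
      · exact P.bv_mem (h j (List.mem_cons_self ..))
  exact key _ fun j hj => List.mem_range.1 hj

theorem el_xor (a b : ℕ) : P.el (a ^^^ b) = P.el a * P.el b := by
  have key : ∀ l : List ℕ, (∀ j ∈ l, j < 11) →
      (∀ c, l.foldr (fun j g => (bif (c : ℕ).testBit j then P.bv j else 1) * g) 1 ∈ AG C.duo.fr) ∧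
      l.foldr (fun j g => (bif (a ^^^ b).testBit j then P.bv j else 1) * g) 1 =
        l.foldr (fun j g => (bif a.testBit j then P.bv j else 1) * g) 1 *
          l.foldr (fun j g => (bif b.testBit j then P.bv j else 1) * g) 1 := by
    intro l
    induction l with
    | nil => exact fun _ => ⟨fun _ => one_mem _, (one_mul 1).symm⟩
    | cons j l ih =>
      intro h
      obtain ⟨hmem, he⟩ := ih fun k hk => h k (List.mem_cons_of_mem _ hk)
      have hb : ∀ c : Bool, (bif c then P.bv j else 1) ∈ AG C.duo.fr := fun c => by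
        cases c
        · exact one_mem _
        · exact P.bv_mem (h j (List.mem_cons_self ..))
      refine ⟨fun c => mul_mem (hb _) (hmem c), ?_⟩
      rw [List.foldr_cons, List.foldr_cons, List.foldr_cons, he, Nat.testBit_xor]
      have e : (bif Bool.xor (a.testBit j) (b.testBit j) then P.bv j else 1) =
          (bif a.testBit j then P.bv j else 1) * (bif b.testBit j then P.bv j else 1) := by
        cases a.testBit j <;> cases b.testBit j <;> simp [AG_sq C (P.bv_mem (h j (List.mem_cons_self ..)))]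
      rw [e]
      have hAB := (AG_abelian C (hb (b.testBit j)) (hmem a)).eq
      simp only [mul_assoc]
      rw [← mul_assoc (bif b.testBit j then P.bv j else 1), hAB, mul_assoc]
  exact (key _ fun j hj => List.mem_range.1 hj).2

theorem el_zero : P.el 0 = 1 := by
  simp [Pre.el, List.range_succ]

theorem el_pow {j : ℕ} (hj : j < 11) : P.el (2 ^ j) = P.bv j := by
  interval_cases j <;> simp [Pre.el, List.range_succ, Nat.testBit, Nat.shiftRight_eq_div_pow]

theorem el_one : P.el 1 = z := (P.el_pow (j := 0) (by norm_num)).trans P.bz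

theorem el_act : ∀ s < 2048, ActA ac (P.el s) (s >>> 5) := by
  refine ind11 (P := fun s => ActA ac (P.el s) (s >>> 5)) ?_ fun s hs j hj h => ?_
  · intro k hk
    rw [P.el_zero, C.duo.fr.ac_Q (one_mem Q) hk]
    exact (rA_zero hk).symm
  · have hb : ActA ac (P.bv j) ((2 : ℕ) ^ j >>> 5) := by
      rcases lt_or_ge j 5 with h5 | h5
      · intro k hk
        rw [C.duo.fr.ac_Q (P.br j h5).1 hk, Nat.shiftRight_eq_div_pow,
          Nat.div_eq_of_lt (Nat.pow_lt_pow_right (by norm_num) h5), rA_zero hk]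
      · obtain ⟨i, rfl⟩ := Nat.exists_eq_add_of_le h5
        rw [Nat.shiftRight_eq_div_pow, pow_add, Nat.mul_div_cancel_left _ (by norm_num)]
        exact (P.ba i (by omega)).2
    rw [P.el_xor, P.el_pow hj, Nat.shiftRight_xor_distrib]
    refine actA_mul C.duo.fr (P.el_mem s) (P.bv_mem hj) ?_ ?_ h hb
    · rw [Nat.shiftRight_eq_div_pow]; omega
    · have := Nat.pow_lt_pow_right (show 1 < 2 by norm_num) hj
      rw [Nat.shiftRight_eq_div_pow]
      norm_num at this ⊢
      omega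

theorem el_low : ∀ s < 32, P.el s ∈ Q ∧ co (P.el s) = wcode s := by
  intro s
  induction s using Nat.strong_induction_on with
  | _ s ih =>
    intro hs
    rcases eq_or_ne s 0 with rfl | h0
    · exact ⟨by rw [P.el_zero]; exact one_mem Q, by rw [P.el_zero, C.duo.fr.co_one]; rfl⟩
    · have key : ∀ s < 32, s ≠ 0 → ∃ j < 5, s ^^^ 2 ^ j < s ∧
          wcode s = wcode (s ^^^ 2 ^ j) ^^^ wcode (2 ^ j) := by decide +kernel
      obtain ⟨j, hj, hlt, hw⟩ := key s hs h0
      obtain ⟨h1, h2⟩ := ih _ hlt (hlt.trans hs)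
      have e : P.el s = P.el (s ^^^ 2 ^ j) * P.bv j := by
        rw [← P.el_pow (show j < 11 by omega), ← P.el_xor, Nat.xor_assoc, Nat.xor_self, Nat.xor_zero]
      rw [e]
      exact ⟨mul_mem h1 (P.br j hj).1, by rw [C.duo.fr.co_mul _ h1 _ (P.br j hj).1, h2, (P.br j hj).2.2, hw]⟩

theorem el_inj {a b : ℕ} (ha : a < 2048) (hb : b < 2048) (h : P.el a = P.el b) : a = b := by
  have hlt : a ^^^ b < 2048 := Nat.xor_lt_two_pow (n := 11) ha hb
  have h1 : P.el (a ^^^ b) = 1 := by rw [P.el_xor, h, AG_sq C (P.el_mem b)]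
  have hact := P.el_act _ hlt
  rw [h1] at hact
  have h5 : (a ^^^ b) >>> 5 = 0 := by
    have hi : (a ^^^ b) >>> 5 < 64 := by rw [Nat.shiftRight_eq_div_pow]; omega
    have e1 := ridx_rA _ hi
    have e2 := ridx_rA 0 (by norm_num)
    have : ridx (rA ((a ^^^ b) >>> 5)) = ridx (rA 0) := by
      have hk : ∀ d, d ∈ dB → rA ((a ^^^ b) >>> 5) d = rA 0 d := fun d hd => by
        rw [← hact d (dB_spec d hd), C.duo.fr.ac_Q (one_mem Q) (dB_spec d hd), rA_zero (dB_spec d hd)]
      simp only [ridx, hk 2 (by decide), hk 8 (by decide), hk 32 (by decide)]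
    omega
  have h32 : a ^^^ b < 32 := by rw [Nat.shiftRight_eq_div_pow] at h5; omega
  have hw : wcode (a ^^^ b) = 0 := by rw [← (P.el_low _ h32).2, h1, C.duo.fr.co_one]
  have hle := (wcode_spec _ h32).2.2 hw
  rcases Nat.le_one_iff_eq_zero_or_eq_one.1 hle with e | e
  · exact Nat.eq_of_xor_eq_zero e
  · rw [e, P.el_one] at h1
    exact absurd h1 C.duo.fr.es.ne

theorem el_surj {a : G} (ha : a ∈ AG C.duo.fr) : ∃ s < 2048, P.el s = a := by
  obtain ⟨i, hi, hai⟩ := exists_actA C.duo.fr ha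
  have hs : 32 * i < 2048 := by omega
  have hact := P.el_act _ hs
  rw [Nat.shiftRight_eq_div_pow, show (2 : ℕ) ^ 5 = 32 from rfl,
    Nat.mul_div_cancel_left _ (by norm_num : 0 < 32)] at hact
  have he := actA_quot C.duo.fr (P.el_mem _) ha hact hai
  obtain ⟨t, ht, htw⟩ := wcode_surj _ (C.duo.fr.co_lt _ he.1) he.2
  obtain ⟨h1, h2⟩ := P.el_low t ht
  rcases C.duo.fr.co_eq h1 he.1 (h2.trans htw) with e | e
  · exact ⟨32 * i ^^^ t, Nat.xor_lt_two_pow (n := 11) hs (by omega), by rw [P.el_xor, ← e]; group⟩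
  · exact ⟨32 * i ^^^ (t ^^^ 1), Nat.xor_lt_two_pow (n := 11) hs (Nat.xor_lt_two_pow (n := 11) (by omega) (by norm_num)),
      by rw [P.el_xor, P.el_xor, P.el_one, ← e]; group⟩

include P in
theorem card_AG : Nat.card (AG C.duo.fr) = 2 ^ 11 := by
  have : Function.Bijective (fun s : Fin 2048 => (⟨P.el s, P.el_mem s⟩ : AG C.duo.fr)) :=
    ⟨fun a b e => Fin.ext (P.el_inj a.2 b.2 (congrArg Subtype.val e)), fun ⟨a, ha⟩ => by
      obtain ⟨s, hs, e⟩ := P.el_surj ha
      exact ⟨⟨s, hs⟩, Subtype.ext e⟩⟩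
  rw [← Nat.card_congr (Equiv.ofBijective _ this), Nat.card_fin]
  norm_num

theorem conj_low {q : G} (hq : q ∈ Q) {s : ℕ} (hs : s < 32) :
    q * P.el s * q⁻¹ = P.el s * pw z (bn (co q) (wcode s)) := by
  rw [C.duo.fr.comm_Q hq (P.el_low s hs).1, (P.el_low s hs).2]

theorem el_bit (s : ℕ) (b : Bool) : P.el (s ^^^ bif b then 1 else 0) = P.el s * pw z b := by
  cases b
  · simp [pw]
  · simp [pw, P.el_xor, P.el_one]

/-- Conjugation by `Q` preserves `A`. -/
theorem Q_conj {q a : G} (hq : q ∈ Q) (ha : a ∈ AG C.duo.fr) : q * a * q⁻¹ ∈ AG C.duo.fr := by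
  refine Subgroup.mem_centralizer_iff.2 fun r hr => ?_
  have hr' : r ∈ EG C.duo.fr := hr
  have hc : Commute (q * a * q⁻¹) (q * r * q⁻¹) := (AG_comm C.duo.fr ha hr').map (MulAut.conj q).toMonoidHom
  rw [C.duo.fr.comm_Q hq hr'.1] at hc
  cases hb : bn (co q) (co r) <;> rw [hb] at hc
  · rw [show pw z false = 1 from rfl, mul_one] at hc
    exact hc.eq.symm
  · have haz : Commute (q * a * q⁻¹) z :=
      ((C.duo.fr.es.comm q hq).mul_left (AG_z C.duo.fr ha)).mul_left (C.duo.fr.es.comm q hq).inv_left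
    have := hc.mul_right haz
    rw [show r * pw z true * z = r from by show r * z * z = r; rw [mul_assoc, C.duo.fr.es.sq, mul_one]] at this
    exact this.eq.symm

end Pre

variable (C) in
theorem exists_pre : Nonempty (Pre C) := by
  classical
  have hr : ∀ j < 5, ∃ r, r ∈ Q ∧ co r = wcode (2 ^ j) ∧ (j = 0 → r = z) := fun j hj => by
    rcases eq_or_ne j 0 with rfl | h
    · exact ⟨z, C.duo.fr.es.mem, by rw [C.duo.fr.co_z]; rfl, fun _ => rfl⟩
    · have hlt : 2 ^ j < 32 := Nat.pow_lt_pow_right (a := 2) (n := 5) (by norm_num) hj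
      obtain ⟨r, hr, e⟩ := C.duo.fr.co_surj _ (wcode_spec _ hlt).1
      exact ⟨r, hr, e, fun h' => absurd h' h⟩
  choose! r hr1 hr2 hr3 using hr
  have ha : ∀ j < 6, ∃ a ∈ AG C.duo.fr, ActA ac a (2 ^ j) := fun j hj =>
    exists_lift C.duo.fr (lt_of_lt_of_le (Nat.pow_lt_pow_right (by norm_num) hj) (by norm_num))
  choose! a ha1 ha2 using ha
  refine ⟨⟨fun j => if j < 5 then r j else a (j - 5), ?_, fun j hj => ?_, fun j hj => ?_⟩⟩
  · simp [hr3 0 (by norm_num) rfl]
  · simp only [if_pos hj]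
    refine ⟨hr1 j hj, ?_, hr2 j hj⟩
    rw [hr2 j hj]
    exact (wcode_spec _ (Nat.pow_lt_pow_right (a := 2) (n := 5) (by norm_num) hj)).2.1
  · simp only [if_neg (show ¬ 5 + j < 5 by omega), Nat.add_sub_cancel_left]
    exact ⟨ha1 j hj, ha2 j hj⟩

variable (C) in
/-- A basis on which the translations are exact. -/
structure Base extends Pre C where
  trans : ∀ k < 4, ∀ q ∈ Q, co q = dB.getD k 0 → ∀ j < 6,
    q * bv (5 + j) * q⁻¹ = toPre.el (tk k (2 ^ (5 + j)))

variable (C) in
theorem exists_base : Nonempty (Base C) := by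
  classical
  obtain ⟨P⟩ := exists_pre C
  have hd : ∀ k < 4, dB.getD k 0 < 256 := by decide
  choose! qd hqd hqc using fun k hk => C.duo.fr.co_surj _ (hd k hk)
  -- the signs
  have hsign : ∀ j < 6, ∀ k < 4, ∃ b : Bool,
      qd k * P.bv (5 + j) * (qd k)⁻¹ = P.el (tk k (2 ^ (5 + j))) * pw z b := by
    intro j hj k hk
    obtain ⟨ht, hw⟩ := tk_high k hk j hj
    set t := tk k (2 ^ (5 + j)) ^^^ 2 ^ (5 + j) with htdef
    obtain ⟨haA, haact⟩ := P.ba j hj
    set a := P.bv (5 + j)
    have haz := AG_z C.duo.fr haA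
    set ξ := a⁻¹ * (qd k * a * (qd k)⁻¹) with hξ
    have hξQ : ξ ∈ Q := by
      have := mul_mem (C.duo.fr.norm a⁻¹ haz.inv_left _ (hqd k hk)) (inv_mem (hqd k hk))
      convert this using 1
      rw [hξ]; group
    have hξc : co ξ = wcode t := by
      rw [hw, hξ, show a⁻¹ * (qd k * a * (qd k)⁻¹) = (a⁻¹ * qd k * a⁻¹⁻¹) * (qd k)⁻¹ by group,
        C.duo.fr.co_mul _ (C.duo.fr.norm a⁻¹ haz.inv_left _ (hqd k hk)) _ (inv_mem (hqd k hk)),
        C.duo.fr.conj _ haz.inv_left _ (hqd k hk), C.duo.fr.co_inv (hqd k hk), hqc k hk, Nat.xor_comm]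
      congr 1
      have hinv : a⁻¹ = a := inv_eq_of_mul_eq_one_right (AG_sq C haA)
      rw [hinv]
      exact haact _ (hd k hk)
    have hel : P.el (tk k (2 ^ (5 + j))) = a * P.el t := by
      show _ = P.bv (5 + j) * P.el t
      rw [← P.el_pow (show 5 + j < 11 by omega), ← P.el_xor, htdef]
      congr 1
      rw [Nat.xor_comm (tk k _), ← Nat.xor_assoc, Nat.xor_self, Nat.zero_xor]
    obtain ⟨h1, h2⟩ := P.el_low t ht
    rcases C.duo.fr.co_eq h1 hξQ (h2.trans hξc.symm) with e | e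
    · exact ⟨false, by rw [show pw z false = 1 from rfl, mul_one, hel, ← e, hξ]; group⟩
    · exact ⟨true, by rw [show pw z true = z from rfl, hel, mul_assoc a, ← e, hξ]; group⟩
  choose! τ hτ using hsign
  let adj : ℕ → ℕ := fun j =>
    (bif τ j 0 then 2 else 0) ^^^ (bif τ j 1 then 4 else 0) ^^^ (bif τ j 2 then 8 else 0) ^^^
      (bif τ j 3 then 16 else 0)
  have hadj : ∀ j, adj j < 32 ∧ ∀ k < 4, bn (dB.getD k 0) (wcode (adj j)) = τ j k := by
    intro j
    have key : ∀ a b c e : Bool, ∀ s, s = (bif a then 2 else 0) ^^^ (bif b then 4 else 0) ^^^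
        (bif c then 8 else 0) ^^^ (bif e then 16 else 0) → s < 32 ∧ bn (dB.getD 0 0) (wcode s) = a ∧
        bn (dB.getD 1 0) (wcode s) = b ∧ bn (dB.getD 2 0) (wcode s) = c ∧
        bn (dB.getD 3 0) (wcode s) = e := by
      intro a b c e s hs
      subst hs
      revert a b c e
      decide +kernel
    obtain ⟨h0, h1, h2, h3, h4⟩ := key (τ j 0) (τ j 1) (τ j 2) (τ j 3) (adj j) rfl
    refine ⟨h0, fun k hk => ?_⟩
    interval_cases k <;> assumption
  have hadjA : ∀ j, P.el (adj j) ∈ AG C.duo.fr := fun j => P.el_mem _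
  let P' : Pre C :=
    { bv := fun i => if i < 5 then P.bv i else P.bv i * P.el (adj (i - 5))
      bz := by simp [P.bz]
      br := fun i hi => by simp only [if_pos hi]; exact P.br i hi
      ba := fun i hi => by
        simp only [if_neg (show ¬ 5 + i < 5 by omega), Nat.add_sub_cancel_left]
        refine ⟨mul_mem (P.ba i hi).1 (hadjA i), ?_⟩
        have h := actA_mul C.duo.fr (j := 0) (P.ba i hi).1 (hadjA i)
          (lt_of_lt_of_le (Nat.pow_lt_pow_right (by norm_num) hi) (by norm_num)) (show 0 < 64 by norm_num)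
          (P.ba i hi).2 (by
            intro k hk
            rw [C.duo.fr.ac_Q (P.el_low _ (hadj i).1).1 hk, rA_zero hk])
        rwa [Nat.xor_zero] at h }
  have hlow : ∀ s < 32, P'.el s = P.el s := by
    intro s hs
    have : ∀ j ∈ List.range 11, (bif s.testBit j then P'.bv j else 1) = (bif s.testBit j then P.bv j else 1) := by
      intro j _
      rcases lt_or_ge j 5 with h | h
      · simp only [P', if_pos h]
      · rw [Nat.testBit_lt_two_pow (lt_of_lt_of_le hs (Nat.pow_le_pow_right (show 0 < 2 by norm_num) h : 2 ^ 5 ≤ 2 ^ j))]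
        rfl
    unfold Pre.el
    generalize List.range 11 = l at this
    induction l with
    | nil => rfl
    | cons j l ih =>
      simp only [List.foldr_cons, this j (List.mem_cons_self ..),
        ih fun k hk => this k (List.mem_cons_of_mem _ hk)]
  refine ⟨⟨P', fun k hk q hq hqc' j hj => ?_⟩⟩
  obtain ⟨ht, -⟩ := tk_high k hk j hj
  have hq' : q * P.bv (5 + j) * q⁻¹ = P.el (tk k (2 ^ (5 + j))) * pw z (τ j k) := by
    rcases C.duo.fr.co_eq (hqd k hk) hq ((hqc k hk).trans hqc'.symm) with rfl | rfl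
    · exact hτ j hj k hk
    · rw [← hτ j hj k hk, show qd k * z * P.bv (5 + j) * (qd k * z)⁻¹ =
        qd k * (z * P.bv (5 + j) * z⁻¹) * (qd k)⁻¹ by group,
        mul_inv_eq_iff_eq_mul.2 (AG_z C.duo.fr (P.ba j hj).1).symm.eq]
  have hb : P'.bv (5 + j) = P.bv (5 + j) * P.el (adj j) := by
    simp only [P', if_neg (show ¬ 5 + j < 5 by omega), Nat.add_sub_cancel_left]
  obtain ⟨hadlt, hadk⟩ := hadj j
  set t := tk k (2 ^ (5 + j)) ^^^ 2 ^ (5 + j) with htdef
  have e0 : tk k (2 ^ (5 + j)) = 2 ^ (5 + j) ^^^ t := by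
    rw [htdef, Nat.xor_comm (tk k _), ← Nat.xor_assoc, Nat.xor_self, Nat.zero_xor]
  rw [hb, show q * (P.bv (5 + j) * P.el (adj j)) * q⁻¹ =
      (q * P.bv (5 + j) * q⁻¹) * (q * P.el (adj j) * q⁻¹) by group, hq', P.conj_low hq hadlt, hqc', hadk k hk,
    e0, P.el_xor, P.el_pow (show 5 + j < 11 by omega), P'.el_xor, P'.el_pow (show 5 + j < 11 by omega), hb,
    hlow t ht]
  have hcz : Commute (pw z (τ j k)) (P.el (adj j)) := by
    cases τ j k
    · exact Commute.one_left _
    · exact (AG_z C.duo.fr (hadjA j)).symm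
  have hpp : pw z (τ j k) * pw z (τ j k) = 1 := by
    rw [pw_mul C.duo.fr.es.sq, Bool.xor_self]; rfl
  calc P.bv (5 + j) * P.el t * pw z (τ j k) * (P.el (adj j) * pw z (τ j k))
      = P.bv (5 + j) * P.el t * (pw z (τ j k) * P.el (adj j)) * pw z (τ j k) := by group
    _ = P.bv (5 + j) * (P.el t * P.el (adj j)) * (pw z (τ j k) * pw z (τ j k)) := by rw [hcz.eq]; group
    _ = P.bv (5 + j) * P.el (adj j) * P.el t := by
      rw [hpp, mul_one, (AG_abelian C (P.el_mem t) (hadjA j)).eq]; group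

namespace Base

variable (B : Base C)

theorem tk_conj {k : ℕ} (hk : k < 4) {q : G} (hq : q ∈ Q) (hqc : co q = dB.getD k 0) :
    ∀ s < 2048, q * B.el s * q⁻¹ = B.el (tk k s) := by
  refine ind11 (P := fun s => q * B.el s * q⁻¹ = B.el (tk k s)) ?_ fun s _ j hj h => ?_
  · rw [B.el_zero, show tk k 0 = 0 from by have := tk_xor k 0 0; simpa using this, B.el_zero]; group
  · rw [B.el_xor, show q * (B.el s * B.el (2 ^ j)) * q⁻¹ = (q * B.el s * q⁻¹) * (q * B.el (2 ^ j) * q⁻¹) by group,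
      h, tk_xor, B.el_xor]
    congr 1
    rcases lt_or_ge j 5 with h5 | h5
    · have hlt : 2 ^ j < 32 := Nat.pow_lt_pow_right (a := 2) (n := 5) (by norm_num) h5
      rw [B.conj_low hq hlt, hqc, tk_low k hk _ hlt, B.el_bit]
    · obtain ⟨i, rfl⟩ := Nat.exists_eq_add_of_le h5
      rw [B.el_pow hj]
      exact B.trans k hk q hq hqc i (by omega)

theorem td_conj {d : ℕ} (hd : d ∈ duals) {q : G} (hq : q ∈ Q) (hqc : co q = d) {s : ℕ} (hs : s < 2048) :
    q * B.el s * q⁻¹ = B.el (td d s) := by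
  classical
  have hd' : ∀ k < 4, dB.getD k 0 < 256 := by decide
  choose! qd hqd hqc' using fun k hk => C.duo.fr.co_surj _ (hd' k hk)
  have key : ∀ l : List ℕ, (∀ k ∈ l, k < 4) →
      ∃ p ∈ Q, co p = l.foldr (fun k v => (bif d.testBit (2 * k + 1) then dB.getD k 0 else 0) ^^^ v) 0 ∧
        ∀ s < 2048, l.foldr (fun k v => bif d.testBit (2 * k + 1) then tk k v else v) s < 2048 ∧
          p * B.el s * p⁻¹ = B.el (l.foldr (fun k v => bif d.testBit (2 * k + 1) then tk k v else v) s) := by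
    intro l
    induction l with
    | nil => exact fun _ => ⟨1, one_mem Q, C.duo.fr.co_one, fun s hs => ⟨hs, by simp⟩⟩
    | cons k l ih =>
      intro h
      obtain ⟨p, hp, hpc, hps⟩ := ih fun i hi => h i (List.mem_cons_of_mem _ hi)
      have hk := h k (List.mem_cons_self ..)
      simp only [List.foldr_cons]
      cases d.testBit (2 * k + 1)
      · exact ⟨p, hp, by rw [hpc, cond_false, Nat.zero_xor], hps⟩
      · refine ⟨qd k * p, mul_mem (hqd k hk) hp, ?_, fun s hs => ?_⟩
        · rw [C.duo.fr.co_mul _ (hqd k hk) _ hp, hqc' k hk, hpc]; rfl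
        · obtain ⟨hlt, he⟩ := hps s hs
          refine ⟨?_, ?_⟩
          · simp only [cond_true]
            generalize l.foldr (fun k v => bif d.testBit (2 * k + 1) then tk k v else v) s = v at hlt ⊢
            refine ind11 (P := fun v => tk k v < 2048) ?_ (fun v _ j hj h => ?_) v hlt
            · rw [show tk k 0 = 0 from by have := tk_xor k 0 0; simpa using this]; norm_num
            · rw [tk_xor]; exact Nat.xor_lt_two_pow (n := 11) h (tk_bits k hk j hj).1
          · rw [show qd k * p * B.el s * (qd k * p)⁻¹ = qd k * (p * B.el s * p⁻¹) * (qd k)⁻¹ by group, he]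
            exact B.tk_conj hk (hqd k hk) (hqc' k hk) _ hlt
  obtain ⟨p, hp, hpc, hps⟩ := key (List.range 4) fun k hk => List.mem_range.1 hk
  have hpq : co p = co q := by rw [hpc, hqc, ← (duals_split d hd).2]
  rcases C.duo.fr.co_eq hp hq hpq with rfl | rfl
  · exact (hps s hs).2
  · rw [show p * z * B.el s * (p * z)⁻¹ = p * (z * B.el s * z⁻¹) * p⁻¹ by group,
      mul_inv_eq_iff_eq_mul.2 (AG_z C.duo.fr (B.el_mem s)).symm.eq]
    exact (hps s hs).2

theorem gm_lt {g : ℕ} (hg : g < 2) : ∀ s < 2048, gm g s < 2048 := by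
  refine ind11 (P := fun s => gm g s < 2048) ?_ fun s _ j hj h => ?_
  · rw [show gm g 0 = 0 from by have := gm_xor g 0 0; simpa using this]; norm_num
  · rw [gm_xor]; exact Nat.xor_lt_two_pow (n := 11) h (gm_bits g hg j hj).1

/-- An element of `C(z)` acting as a generator, up to `z` on the lifts of the lines. -/
theorem exists_gm {g : ℕ} (hg : g < 2) : ∃ c, Commute c z ∧ (∀ a ∈ AG C.duo.fr, c * a * c⁻¹ ∈ AG C.duo.fr) ∧
    ∃ μ : ℕ → Bool, (∀ a b, μ (a ^^^ b) = Bool.xor (μ a) (μ b)) ∧ (∀ s < 32, μ s = false) ∧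
      ∀ s < 2048, c * B.el s * c⁻¹ = B.el (gm g s ^^^ bif μ s then 1 else 0) := by
  classical
  set h := C.duo.fr
  obtain ⟨c₀, hc₀, hck₀⟩ := exists_gen h hg
  obtain ⟨hok, -, -⟩ := genW_spec g hg
  have hσ : ∀ l < 4, ∃ b : Bool, c₀ * B.el (2 ^ (l + 1)) * c₀⁻¹ = B.el (gm g (2 ^ (l + 1))) * pw z b := by
    intro l hl
    have hlt : 2 ^ (l + 1) < 32 := Nat.pow_lt_pow_right (a := 2) (n := 5) (by norm_num) (by omega)
    obtain ⟨h1, h2⟩ := B.el_low _ hlt
    obtain ⟨gl, gw, -⟩ := gm_low g hg _ hlt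
    obtain ⟨h3, h4⟩ := B.el_low _ gl
    have e : co (B.el (gm g (2 ^ (l + 1)))) = co (c₀ * B.el (2 ^ (l + 1)) * c₀⁻¹) := by
      rw [h4, h.conj c₀ hc₀ _ h1, h2, hck₀ _ (wcode_spec _ hlt).1, gw]
    rcases h.co_eq h3 (h.norm c₀ hc₀ _ h1) e with e' | e'
    exacts [⟨false, e'.trans (mul_one _).symm⟩, ⟨true, e'⟩]
  choose! σ hσ using hσ
  obtain ⟨d, hd, d1, d4, d16, d64⟩ := duals_key (σ 0) (σ 1) (σ 2) (σ 3)
  obtain ⟨q, hq, hqc⟩ := h.co_surj d (duals_split d hd).1
  have hqz := h.es.comm q hq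
  set c := c₀ * q with hcdef
  have hcz : Commute c z := hc₀.mul_left hqz
  have hck : ∀ k < 256, ac c k = prs (genW.getD g []) k := fun k hk => by
    rw [h.ac_mul hc₀ hqz hk, h.ac_Q hq hk, hck₀ k hk]
  have hA : ∀ a ∈ AG h, c * a * c⁻¹ ∈ AG h := fun a ha => gen_AG h hg hcz hck ha
  have hlow : ∀ s < 32, c * B.el s * c⁻¹ = B.el (gm g s) := by
    have hbase : ∀ j < 5, c * B.el (2 ^ j) * c⁻¹ = B.el (gm g (2 ^ j)) := by
      intro j hj
      rcases eq_or_ne j 0 with rfl | hj0
      · rw [pow_zero, (gm_low g hg 0 (by norm_num)).2.2, B.el_one, mul_inv_eq_iff_eq_mul.2 hcz.eq]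
      · obtain ⟨l, rfl⟩ := Nat.exists_eq_succ_of_ne_zero hj0
        have hl : l < 4 := by omega
        have hlt : 2 ^ (l + 1) < 32 := Nat.pow_lt_pow_right (a := 2) (n := 5) (by norm_num) hj
        have hb : bn (co q) (wcode (2 ^ (l + 1))) = σ l := by
          rw [hqc]; interval_cases l <;> assumption
        have hpc : Commute c₀ (pw z (σ l)) := by
          cases σ l
          · exact Commute.one_right _
          · exact hc₀
        rw [hcdef, show c₀ * q * B.el (2 ^ (l + 1)) * (c₀ * q)⁻¹ = c₀ * (q * B.el (2 ^ (l + 1)) * q⁻¹) * c₀⁻¹ by group,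
          B.conj_low hq hlt, hb,
          show c₀ * (B.el (2 ^ (l + 1)) * pw z (σ l)) * c₀⁻¹ =
            (c₀ * B.el (2 ^ (l + 1)) * c₀⁻¹) * (c₀ * pw z (σ l) * c₀⁻¹) by group,
          hσ l hl, mul_inv_eq_iff_eq_mul.2 hpc.eq, mul_assoc, pw_mul h.es.sq, Bool.xor_self]
        exact mul_one _
    intro s
    induction s using Nat.strong_induction_on with
    | _ s ih =>
      intro hs
      rcases eq_or_ne s 0 with rfl | h0
      · rw [show gm g 0 = 0 from by have := gm_xor g 0 0; simpa using this, B.el_zero]; group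
      · have key : ∀ s < 32, s ≠ 0 → ∃ j < 5, s ^^^ 2 ^ j < s := by decide +kernel
        obtain ⟨j, hj, hlt⟩ := key s hs h0
        have e1 := ih _ hlt (hlt.trans hs)
        rw [show s = (s ^^^ 2 ^ j) ^^^ 2 ^ j by rw [Nat.xor_assoc, Nat.xor_self, Nat.xor_zero], B.el_xor,
          show c * (B.el (s ^^^ 2 ^ j) * B.el (2 ^ j)) * c⁻¹ =
            (c * B.el (s ^^^ 2 ^ j) * c⁻¹) * (c * B.el (2 ^ j) * c⁻¹) by group, e1, hbase j hj, gm_xor g (s ^^^ 2 ^ j),
          B.el_xor]
  -- the map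
  have hex : ∀ s, ∃ t < 2048, B.el t = c * B.el s * c⁻¹ := fun s => B.el_surj (hA _ (B.el_mem s))
  choose f hflt hf using hex
  have hadd : ∀ a b, f (a ^^^ b) = f a ^^^ f b := fun a b => by
    refine B.el_inj (hflt _) (Nat.xor_lt_two_pow (n := 11) (hflt a) (hflt b)) ?_
    rw [hf, B.el_xor, B.el_xor (f a), hf, hf]
    group
  have hflow : ∀ s < 32, f s = gm g s := fun s hs =>
    B.el_inj (hflt s) (gm_lt hg s (by omega)) ((hf s).trans (hlow s hs))
  have hd4 : ∀ k < 4, dB.getD k 0 < 256 := by decide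
  have hequi : ∀ k < 4, ∀ s < 2048, f (tk k s) = td (prs (genW.getD g []) (dB.getD k 0)) (f s) := by
    intro k hk s hs
    obtain ⟨q', hq', hqc'⟩ := h.co_surj _ (hd4 k hk)
    obtain ⟨hdu, -⟩ := gen_duals g hg k hk
    have h2 : co (c * q' * c⁻¹) = prs (genW.getD g []) (dB.getD k 0) := by
      rw [h.conj c hcz q' hq', hqc', hck _ (hd4 k hk)]
    have htd : td (prs (genW.getD g []) (dB.getD k 0)) (f s) < 2048 := by
      have htk : ∀ i < 4, ∀ v < 2048, tk i v < 2048 := fun i hi =>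
        ind11 (P := fun v => tk i v < 2048)
          (by rw [show tk i 0 = 0 from by have := tk_xor i 0 0; simpa using this]; norm_num)
          (fun v _ j hj h' => by rw [tk_xor]; exact Nat.xor_lt_two_pow (n := 11) h' (tk_bits i hi j hj).1)
      have : ∀ (d : ℕ) (l : List ℕ), (∀ i ∈ l, i < 4) → ∀ v < 2048,
          l.foldr (fun k v => bif d.testBit (2 * k + 1) then tk k v else v) v < 2048 := by
        intro d l
        induction l with
        | nil => exact fun _ v hv => hv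
        | cons i l ih =>
          intro hl v hv
          have hrest := ih (fun i hi => hl i (List.mem_cons_of_mem _ hi)) v hv
          simp only [List.foldr_cons]
          cases d.testBit (2 * i + 1)
          · exact hrest
          · exact htk i (hl i (List.mem_cons_self ..)) _ hrest
      exact this _ _ (fun i hi => List.mem_range.1 hi) _ (hflt s)
    refine B.el_inj (hflt _) htd ?_
    rw [hf, ← B.tk_conj hk hq' hqc' s hs, ← B.td_conj hdu (h.norm c hcz q' hq') h2 (hflt s), hf]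
    group
  set e : ℕ → ℕ := fun s => f s ^^^ gm g s with hedef
  have hlin : ∀ a b, e (a ^^^ b) = e a ^^^ e b := fun a b => by
    simp only [hedef, hadd, gm_xor]; ac_rfl
  have helow : ∀ s < 32, e s = 0 := fun s hs => by simp [hedef, hflow s hs]
  have he32 : ∀ j < 6, e (2 ^ (5 + j)) < 32 := by
    intro j hj
    have hj' : 5 + j < 11 := by omega
    have hb := gm_bits g hg _ hj'
    have hpj : (2 : ℕ) ^ j < 64 := lt_of_lt_of_le (Nat.pow_lt_pow_right (by norm_num) hj) (by norm_num)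
    have h5 : (2 : ℕ) ^ (5 + j) >>> 5 = 2 ^ j := by
      rw [Nat.shiftRight_eq_div_pow, pow_add, Nat.mul_div_cancel_left _ (by norm_num)]
    have h1 : ActA ac (c * B.bv (5 + j) * c⁻¹) (gr g (2 ^ j)) :=
      actA_conj h hg hcz hck (B.ba j hj).1 hpj (B.ba j hj).2
    have h2 := B.el_act _ (hflt (2 ^ (5 + j)))
    rw [hf, B.el_pow hj'] at h2
    have hi1 := gr_lt hg hpj
    have hi2 : f (2 ^ (5 + j)) >>> 5 < 64 := by
      have := hflt (2 ^ (5 + j)); rw [Nat.shiftRight_eq_div_pow]; omega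
    have heq : f (2 ^ (5 + j)) >>> 5 = gr g (2 ^ j) := by
      have e' : ridx (rA (f (2 ^ (5 + j)) >>> 5)) = ridx (rA (gr g (2 ^ j))) := by
        have hk : ∀ d, d ∈ dB → rA (f (2 ^ (5 + j)) >>> 5) d = rA (gr g (2 ^ j)) d := fun d hd => by
          rw [← h2 d (dB_spec d hd), ← h1 d (dB_spec d hd)]
        simp only [ridx, hk 2 (by decide), hk 8 (by decide), hk 32 (by decide)]
      rwa [ridx_rA _ hi2, ridx_rA _ hi1] at e'
    have : e (2 ^ (5 + j)) >>> 5 = 0 := by
      simp only [hedef, Nat.shiftRight_xor_distrib, heq, hb.2 (by omega), h5, Nat.xor_self]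
    rw [Nat.shiftRight_eq_div_pow] at this
    omega
  have hone : ∀ j < 6, e (2 ^ (5 + j)) ≤ 1 := by
    intro j hj
    refine fixed_low g hg _ (he32 j hj) fun k hk => ?_
    have hlt : (2 : ℕ) ^ (5 + j) < 2048 := lt_of_lt_of_le
      (Nat.pow_lt_pow_right (by norm_num) (show 5 + j < 11 by omega)) (by norm_num)
    have h1 := hequi k hk _ hlt
    have h2 := (gen_duals g hg k hk).2 _ (show 5 + j < 11 by omega)
    obtain ⟨ht, -⟩ := tk_high k hk j hj
    have he : e (tk k (2 ^ (5 + j))) = e (2 ^ (5 + j)) := by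
      have := hlin (tk k (2 ^ (5 + j)) ^^^ 2 ^ (5 + j)) (2 ^ (5 + j))
      rwa [Nat.xor_assoc, Nat.xor_self, Nat.xor_zero, helow _ ht, Nat.zero_xor] at this
    have hfe : ∀ t, f t = gm g t ^^^ e t := fun t => by
      show f t = gm g t ^^^ (f t ^^^ gm g t)
      rw [Nat.xor_comm (f t), ← Nat.xor_assoc, Nat.xor_self, Nat.zero_xor]
    have h3 := hfe (2 ^ (5 + j))
    have h4 := hfe (tk k (2 ^ (5 + j)))
    rw [h3, h4, he, td_xor, ← h2] at h1
    exact (Nat.xor_right_inj.1 h1).symm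
  have hle : ∀ s < 2048, e s ≤ 1 := by
    refine ind11 (P := fun s => e s ≤ 1) (by rw [helow 0 (by norm_num)]; norm_num) fun s _ j hj hs => ?_
    rw [hlin]
    have hj1 : e (2 ^ j) ≤ 1 := by
      rcases lt_or_ge j 5 with h5 | h5
      · rw [helow _ (Nat.pow_lt_pow_right (a := 2) (n := 5) (by norm_num) h5)]; norm_num
      · obtain ⟨i, rfl⟩ := Nat.exists_eq_add_of_le h5
        exact hone i (by omega)
    rcases Nat.le_one_iff_eq_zero_or_eq_one.1 hs with a | a <;>
      rcases Nat.le_one_iff_eq_zero_or_eq_one.1 hj1 with b | b <;> rw [a, b] <;> decide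
  refine ⟨c, hcz, hA, fun s => (e s).testBit 0, fun a b => ?_, fun s hs => ?_, fun s hs => ?_⟩
  · simp only [hlin, Nat.testBit_xor]
  · simp only [helow s hs, Nat.zero_testBit]
  · rw [← hf]
    congr 1
    have hb : (bif (e s).testBit 0 then 1 else 0 : ℕ) = e s := by
      rcases Nat.le_one_iff_eq_zero_or_eq_one.1 (hle s hs) with a | a <;> rw [a] <;> rfl
    show f s = gm g s ^^^ (bif (e s).testBit 0 then 1 else 0)
    rw [hb, hedef]
    show f s = gm g s ^^^ (f s ^^^ gm g s)
    rw [Nat.xor_comm (f s), ← Nat.xor_assoc, Nat.xor_self, Nat.zero_xor]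

end Base

end Cfsg.Agent.Lib.Co1Golay43
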