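import Cfsg.Agent.Lib.Co1Golay43.Orbit

/-!
# Conway type: the count of the orbit of `z`

Owner: helper43.
-/

set_option autoImplicit false
set_option maxRecDepth 100000
set_option linter.unusedSectionVars false

namespace Cfsg.Agent.Lib.Co1Golay43

open Cfsg.Agent.Lib.Co1Type31
open Cfsg.Agent.Lib.FischerLarge43 (conjAut conjAut_apply not_prime_dvd)

variable {G : Type*} [Group G] [Finite G] {z : G} {Q : Subgroup G} {co : G → ℕ} {ac : G → ℕ → ℕ}
variable {x n m : G} {C : Cfg z Q co ac x n m} (B : Base C)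

theorem flip_state : ∀ c < 64, ∀ e < 32, (32 * c + (e ^^^ 1)) ^^^ 1 = 32 * c + e ∧ e ^^^ 1 < 32 := by
  decide +kernel

theorem split_state : ∀ s < 2048, 32 * (s >>> 5) + (s &&& 31) = s ∧ s >>> 5 < 64 ∧ s &&& 31 < 32 := by
  decide +kernel

theorem decL_mem {c : ℕ} (hc : c ∈ decL) : c < 64 ∧ c ≠ 0 := by
  have := List.all_eq_true.1 kinds.1 c hc
  simp only [Bool.and_eq_true, decide_eq_true_eq, Bool.not_eq_true'] at this
  exact ⟨this.1, fun e => by rw [e] at this; exact Bool.noConfusion this.2⟩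

theorem nsL_mem {c : ℕ} (hc : c ∈ nsL) : c < 64 ∧ c ≠ 0 := by
  have := List.all_eq_true.1 kinds.2.1 c hc
  simp only [Bool.and_eq_true, decide_eq_true_eq, Bool.not_eq_true'] at this
  exact ⟨this.1, fun e => by rw [e] at this; exact Bool.noConfusion this.2⟩

theorem kind_cases {c : ℕ} (hc : c < 64) (h0 : c ≠ 0) : c ∈ decL ∨ c ∈ nsL := by
  have := List.all_eq_true.1 kinds.2.2.1 c (List.mem_range.2 hc)
  have hz : Nat.beq c 0 = false := by cases c <;> simp_all [Nat.beq]
  simpa [hz] using this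

namespace Base

open Classical in
/-- The states of the orbit, as a finite set. -/
noncomputable def OS : Finset ℕ := (Finset.range 2048).filter B.O

theorem mem_OS {s : ℕ} : s ∈ B.OS ↔ s < 2048 ∧ B.O s := by simp [OS]

theorem coset_O {c : ℕ} (hc : c < 64) (hc0 : c ≠ 0) {e : ℕ} (he : e < 32) :
    B.O (32 * c + e) ↔ (B.O (rep c) ∧ (orb c).testBit e = true) ∨
      (B.O (rep c ^^^ 1) ∧ (orb c).testBit (e ^^^ 1) = true) := by
  obtain ⟨f1, f2⟩ := flip_state c hc e he
  have h0 : ∀ {e}, (orb c).testBit e = true → (B.O (32 * c + e) ↔ B.O (rep c)) := fun {e} h => by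
    simpa using (B.O_orb hc hc0 (s := 0) (by norm_num) e h).2
  have h1 : (orb c).testBit (e ^^^ 1) = true → (B.O (32 * c + e) ↔ B.O (rep c ^^^ 1)) := fun h => by
    have := (B.O_orb hc hc0 (s := 1) (by norm_num) _ h).2
    rwa [f1] at this
  constructor
  · intro hO
    cases ha : (orb c).testBit e with
    | true => exact Or.inl ⟨(h0 ha).1 hO, rfl⟩
    | false =>
      cases hb : (orb c).testBit (e ^^^ 1) with
      | true => exact Or.inr ⟨(h1 hb).1 hO, rfl⟩
      | false =>
        exfalso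
        rcases kind_cases hc hc0 with h | h
        · refine B.not_O_other h he ?_ hO
          rw [dec_cover c h e he, ha, hb]
          rfl
        · have := ns_cover c h e he
          rw [ha, hb] at this
          exact Bool.noConfusion this
  · rintro (⟨hO, h⟩ | ⟨hO, h⟩)
    exacts [(h0 h).2 hO, (h1 h).2 hO]

theorem num_le (c : ℕ) : B.num c ≤ 2 := by
  classical
  unfold num
  split <;> split <;> norm_num

theorem coset_card {c : ℕ} (hc : c < 64) (hc0 : c ≠ 0) :
    (B.OS.filter fun s => s >>> 5 = c).card = (if c ∈ decL then 4 else 16) * B.num c := by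
  classical
  have hset : (B.OS.filter fun s => s >>> 5 = c).card =
      ((List.range 32).filter fun e => (decide (B.O (rep c)) && (orb c).testBit e) ||
        (decide (B.O (rep c ^^^ 1)) && (orb c).testBit (e ^^^ 1))).length := by
    rw [← List.toFinset_card_of_nodup (List.nodup_range.filter _)]
    refine Finset.card_bij (fun s _ => s &&& 31) (fun s hs => ?_) (fun s hs t ht e => ?_) fun e he => ?_
    · rw [Finset.mem_filter, B.mem_OS] at hs
      obtain ⟨h1, -, h3⟩ := split_state s hs.1.1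
      rw [hs.2] at h1
      have := (B.coset_O hc hc0 h3).1 (by rw [h1]; exact hs.1.2)
      rw [List.mem_toFinset, List.mem_filter, List.mem_range]
      exact ⟨h3, by simpa using this⟩
    · rw [Finset.mem_filter, B.mem_OS] at hs ht
      obtain ⟨h1, -, -⟩ := split_state s hs.1.1
      obtain ⟨h2, -, -⟩ := split_state t ht.1.1
      rw [← h1, ← h2, hs.2, ht.2, e]
    · rw [List.mem_toFinset, List.mem_filter, List.mem_range] at he
      have hO := (B.coset_O hc hc0 he.1).2 (by simpa using he.2)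
      have hlt : 32 * c + e < 2048 := by omega
      have hsh : (32 * c + e) >>> 5 = c := by rw [Nat.shiftRight_eq_div_pow]; omega
      refine ⟨32 * c + e, by rw [Finset.mem_filter, B.mem_OS]; exact ⟨⟨hlt, hO⟩, hsh⟩, ?_⟩
      obtain ⟨h1, -, -⟩ := split_state _ hlt
      rw [hsh] at h1
      exact Nat.add_left_cancel h1
  rw [hset]
  have hn : B.num c = (bif decide (B.O (rep c)) then 1 else 0) + bif decide (B.O (rep c ^^^ 1)) then 1 else 0 := by
    unfold num
    by_cases h1 : B.O (rep c) <;> by_cases h2 : B.O (rep c ^^^ 1) <;> simp [h1, h2]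
  rw [hn]
  rcases kind_cases hc hc0 with h | h
  · rw [if_pos h]; exact orb_count.1 c h _ _
  · have hnd : c ∉ decL := fun hd => by
      have := List.all_eq_true.1 kinds.2.2.2.2.2.2.2 c hd
      simp [h] at this
    rw [if_neg hnd]; exact orb_count.2 c h _ _

theorem num_word : ∀ {l : List ℕ}, (∀ g ∈ l, g < 2) → ∀ {c : ℕ}, c < 64 → c ≠ 0 →
    grW l c ≠ 0 ∧ B.num (grW l c) = B.num c
  | [], _, _, _, h0 => ⟨h0, rfl⟩
  | g :: l, hl, c, hc, h0 => by
    have hg := hl g (List.mem_cons_self ..)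
    obtain ⟨h1, h2⟩ := num_word (fun g hg => hl g (List.mem_cons_of_mem _ hg)) hc h0
    have hlt := grW_lt (fun g hg => hl g (List.mem_cons_of_mem _ hg)) hc
    exact ⟨(gm_rep g hg _ hlt h1).2.1, (B.num_gr hg hlt h1).trans h2⟩

theorem OS_card_eq : B.OS.card = 31 + 140 * B.num 1 + 448 * B.num 12 := by
  classical
  rw [Finset.card_eq_sum_card_fiberwise (f := fun s => s >>> 5) (t := Finset.range 64) fun s hs =>
    Finset.mem_range.2 (split_state s (B.mem_OS.1 hs).1).2.1]
  have h0 : (B.OS.filter fun s => s >>> 5 = 0).card = 31 := by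
    have : (B.OS.filter fun s => s >>> 5 = 0) = Finset.Ico 1 32 := by
      ext s
      rw [Finset.mem_filter, B.mem_OS, Finset.mem_Ico, Nat.shiftRight_eq_div_pow]
      constructor
      · rintro ⟨⟨hs, hO⟩, h5⟩
        refine ⟨Nat.one_le_iff_ne_zero.2 fun e => B.not_O_zero (e ▸ hO), by omega⟩
      · rintro ⟨h1, h2⟩
        refine ⟨⟨by omega, ?_⟩, by omega⟩
        rcases eq_or_lt_of_le h1 with h | h
        · exact h ▸ B.O_one
        · exact B.O_low s h2 h
    rw [this, Nat.card_Ico]
  have hval : ∀ c ∈ Finset.range 64, (B.OS.filter fun s => s >>> 5 = c).card =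
      if c = 0 then 31 else if c ∈ decL then 4 * B.num 1 else 16 * B.num 12 := by
    intro c hc
    rw [Finset.mem_range] at hc
    by_cases hz : c = 0
    · rw [if_pos hz, hz, h0]
    · rw [if_neg hz, B.coset_card hc hz]
      rcases kind_cases hc hz with h | h
      · obtain ⟨e, hl⟩ := from_spec.1 c h
        rw [if_pos h, if_pos h]
        conv_lhs => rw [← e]
        rw [(B.num_word hl (by norm_num) (by norm_num)).2]
      · have hnd : c ∉ decL := fun hd => by
          have := List.all_eq_true.1 kinds.2.2.2.2.2.2.2 c hd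
          simp [h] at this
        obtain ⟨e, hl⟩ := from_spec.2 c h
        rw [if_neg hnd, if_neg hnd]
        conv_lhs => rw [← e]
        rw [(B.num_word hl (by norm_num) (by norm_num)).2]
  rw [Finset.sum_congr rfl hval]
  generalize B.num 1 = a
  generalize B.num 12 = b
  simp [Finset.sum_range_succ, decL]
  omega

theorem OS_card : ∃ a ≤ 2, ∃ b ≤ 2, B.OS.card = 31 + 140 * a + 448 * b :=
  ⟨_, B.num_le 1, _, B.num_le 12, B.OS_card_eq⟩

theorem OS_dvd {p : ℕ} [Fact p.Prime] (hord : ∀ i < 12, 1 ≤ i → ¬ p ∣ 2 ^ i - 1) (hp : p ≠ 2) :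
    ¬ p ∣ B.OS.card := by
  classical
  intro hd
  set A := AG C.duo.fr
  set M := Subgroup.normalizer (A : Set G)
  letI act : MulAction M A := MulAction.compHom A (conjAut A)
  have hzA : z ∈ A := EG_le_AG C.duo.fr (z_EG C.duo.fr)
  let zA : A := ⟨z, hzA⟩
  have horb : Nat.card (MulAction.orbit M zA) = B.OS.card := by
    rw [← Nat.card_eq_finsetCard]
    refine (Nat.card_congr (Equiv.ofBijective
      (fun s : B.OS => (⟨⟨B.el s.1, B.el_mem _⟩, ?_⟩ : MulAction.orbit M zA)) ⟨?_, ?_⟩)).symm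
    · obtain ⟨g, hg, e⟩ := (B.mem_OS.1 s.2).2
      exact ⟨⟨g, hg⟩, Subtype.ext ((conjAut_apply ⟨g, hg⟩ zA).trans e)⟩
    · intro s t e
      have := congrArg (fun a => ((a.1 : A) : G)) e
      exact Subtype.ext (B.el_inj (B.mem_OS.1 s.2).1 (B.mem_OS.1 t.2).1 this)
    · rintro ⟨⟨a, ha⟩, ⟨g, hg⟩⟩
      obtain ⟨s, hs, rfl⟩ := B.el_surj ha
      have e : (g : G) * z * (g : G)⁻¹ = B.el s := by
        rw [← conjAut_apply g zA]
        exact congrArg Subtype.val hg
      exact ⟨⟨s, B.mem_OS.2 ⟨hs, g, g.2, e⟩⟩, rfl⟩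
  haveI : Finite (MulAut A) := Finite.of_injective (fun e : MulAut A => (e : A → A)) DFunLike.coe_injective
  have e : MulAction.orbit M zA = MulAction.orbit (conjAut A).range zA := by
    ext a
    constructor
    · rintro ⟨k, rfl⟩
      exact ⟨⟨conjAut A k, k, rfl⟩, rfl⟩
    · rintro ⟨⟨_, k, rfl⟩, rfl⟩
      exact ⟨k, rfl⟩
  rw [← horb, e, Nat.card_congr (MulAction.orbitEquivQuotientStabilizer _ zA)] at hd
  exact not_prime_dvd (n := 11) B.card_AG hord hp (conjAut A).range
    (hd.trans (Subgroup.card_quotient_dvd_card _))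

theorem exists_high : ∃ s ∈ B.OS, 32 ≤ s := by
  obtain ⟨g, hg, -, r, hr, hrQ⟩ := exists_move C
  obtain ⟨s, hs, e⟩ := B.el_surj ((Subgroup.mem_normalizer_iff.1 hg r).1 (EG_le_AG C.duo.fr hr))
  refine ⟨s, B.mem_OS.2 ⟨hs, ?_⟩, not_lt.1 fun h => hrQ (e ▸ (B.el_low s h).1)⟩
  obtain ⟨t, ht, e'⟩ := B.el_surj (EG_le_AG C.duo.fr hr)
  have ht32 : t < 32 := by
    by_contra hcon
    have hact := B.el_act t ht
    rw [e'] at hact
    have hlt : t >>> 5 < 64 := by rw [Nat.shiftRight_eq_div_pow]; omega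
    have e1 : ridx (rA (t >>> 5)) = ridx (rA 0) := by
      have hk : ∀ d, d ∈ dB → rA (t >>> 5) d = rA 0 d := fun d hd => by
        rw [← hact d (dB_spec d hd), C.duo.fr.ac_Q hr.1 (dB_spec d hd), rA_zero (dB_spec d hd)]
      simp only [ridx, hk 2 (by decide), hk 8 (by decide), hk 32 (by decide)]
    rw [ridx_rA _ hlt, ridx_rA 0 (by norm_num), Nat.shiftRight_eq_div_pow] at e1
    omega
  have ht1 : B.O t := by
    rcases Nat.lt_or_ge t 2 with h2 | h2
    · have hne : t ≠ 0 := fun e0 => hrQ (by rw [← e', e0, B.el_zero]; simp)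
      have : t = 1 := by omega
      exact this ▸ B.O_one
    · exact B.O_low t ht32 h2
  show InO C.duo.fr (B.el s)
  rw [e, ← e']
  exact ht1.conj hg

/-- The orbit has 759 elements. -/
theorem OS_759 : B.OS.card = 759 ∧ B.num 1 = 2 ∧ B.num 12 = 1 := by
  obtain ⟨a, ha, b, hb, h⟩ := B.OS_card
  have hnum : B.OS.card = 31 + 140 * a + 448 * b := h
  have hno : ∀ p, p ∈ [19, 311, 479, 619, 103, 97, 71] → ¬ p ∣ B.OS.card := by
    intro p hp
    have key : ∀ p ∈ [19, 311, 479, 619, 103, 97, 71], ∀ i < 12, 1 ≤ i → ¬ p ∣ 2 ^ i - 1 := by decide +kernel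
    have hpp : p.Prime ∧ p ≠ 2 := by
      simp only [List.mem_cons, List.not_mem_nil, or_false] at hp
      rcases hp with rfl | rfl | rfl | rfl | rfl | rfl | rfl <;> norm_num
    haveI := Fact.mk hpp.1
    exact B.OS_dvd (key p hp) hpp.2
  obtain ⟨s, hs, hs32⟩ := B.exists_high
  have hne : B.OS.card ≠ 31 := by
    intro he
    have hsub : Finset.Ico 1 32 ⊆ B.OS.erase s := by
      intro t ht
      rw [Finset.mem_Ico] at ht
      rw [Finset.mem_erase, B.mem_OS]
      refine ⟨by omega, by omega, ?_⟩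
      rcases eq_or_lt_of_le ht.1 with h | h
      · exact h ▸ B.O_one
      · exact B.O_low t ht.2 h
    have := Finset.card_le_card hsub
    rw [Finset.card_erase_of_mem hs, Nat.card_Ico] at this
    omega
  have h759 : B.OS.card = 759 := by
    interval_cases a <;> interval_cases b <;> norm_num at hnum
    · exact absurd hnum hne
    · exact absurd (by rw [hnum]) (hno 479 (by simp))
    · exact absurd (by rw [hnum]; norm_num) (hno 103 (by simp))
    · exact absurd (by rw [hnum]; norm_num) (hno 19 (by simp))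
    · exact absurd (by rw [hnum]) (hno 619 (by simp))
    · exact absurd (by rw [hnum]; norm_num) (hno 97 (by simp))
    · exact absurd (by rw [hnum]) (hno 311 (by simp))
    · exact hnum
    · exact absurd (by rw [hnum]; norm_num) (hno 71 (by simp))
  refine ⟨h759, ?_⟩
  obtain ⟨a', ha', b', hb', h'⟩ : ∃ a' ≤ 2, ∃ b' ≤ 2, a' = B.num 1 ∧ b' = B.num 12 :=
    ⟨_, B.num_le 1, _, B.num_le 12, rfl, rfl⟩
  have hc := B.OS_card_eq
  rw [← h'.1, ← h'.2, h759] at hc
  omega

end Base

end Cfsg.Agent.Lib.Co1Golay43
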