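import Cfsg.Agent.Lib.Co1Type31.Rho

/-!
# Conway type: the unipotent radical of the stabiliser of a maximal singular subspace

The subspace is spanned by `1, 4, 16, 64`; the radical is coded below `64`, one bit for each pair of
these vectors.  Two generators of the complement are given by words in reflections.

Owner: helper43.
-/

set_option autoImplicit false
set_option maxRecDepth 100000

namespace Cfsg.Agent.Lib.Co1Golay43

open Cfsg.Agent.Lib.Co1Type31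

/-- the four vectors -/
def wB : List ℕ := [1, 4, 16, 64]

/-- their duals -/
def dB : List ℕ := [2, 8, 32, 128]

/-- the six lines -/
def lineW : List (ℕ × ℕ) := [(1, 4), (1, 16), (1, 64), (4, 16), (4, 64), (16, 64)]

/-- membership in the subspace -/
def inW (k : ℕ) : Bool := Nat.beq (k &&& 170) 0

/-- an element of the radical -/
def rA (i k : ℕ) : ℕ :=
  (List.range 6).foldr (fun j v => bif i.testBit j then sg (lineW.getD j (0, 0)).1 (lineW.getD j (0, 0)).2 v else v) k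

/-- the code of an element of the radical -/
def ridx (f : ℕ → ℕ) : ℕ :=
  let b (d w : ℕ) : ℕ := bif ((f d) ^^^ d) &&& w == w then 1 else 0
  b 2 4 + 2 * b 2 16 + 4 * b 2 64 + 8 * b 8 16 + 16 * b 8 64 + 32 * b 32 64

/-- words for the six lines -/
def rootW : List (List (ℕ × ℕ)) := [[(177, 176), (181, 180)], [(93, 92), (77, 76)], [(57, 120), (121, 56)], [(210, 198), (214, 194)], [(19, 83), (23, 87)], [(30, 14), (94, 78)]]

/-- words for the two generators of the complement -/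
def genW : List (List (ℕ × ℕ)) := [[(233, 225), (224, 232)], [(114, 108), (57, 54), (184, 3), (83, 232)]]

/-- the two generators on the radical -/
def genR : List (List ℕ) := [[0, 1, 2, 3, 4, 5, 6, 7, 10, 11, 8, 9, 14, 15, 12, 13, 20, 21, 22, 23, 16, 17, 18, 19, 30, 31, 28, 29, 26, 27, 24, 25, 32, 33, 34, 35, 36, 37, 38, 39, 42, 43, 40, 41, 46, 47, 44, 45, 52, 53, 54, 55, 48, 49, 50, 51, 62, 63, 60, 61, 58, 59, 56, 57], [0, 8, 16, 24, 1, 9, 17, 25, 32, 40, 48, 56, 33, 41, 49, 57, 2, 10, 18, 26, 3, 11, 19, 27, 34, 42, 50, 58, 35, 43, 51, 59, 4, 12, 20, 28, 5, 13, 21, 29, 36, 44, 52, 60, 37, 45, 53, 61, 6, 14, 22, 30, 7, 15, 23, 31, 38, 46, 54, 62, 39, 47, 55, 63]]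

/-- the action of a generator on the radical -/
def gr (g i : ℕ) : ℕ := (genR.getD g []).getD i 0

/-- the action of a word on the radical -/
def grW : List ℕ → ℕ → ℕ
  | [], i => i
  | g :: l, i => gr g (grW l i)

/-- every pair of lines comes from one of two pairs -/
def pairWords : List ((ℕ × ℕ) × (ℕ × ℕ) × List ℕ) :=
  [((1, 2), (1, 2), []),
    ((1, 2), (1, 4), [1, 1, 0, 1, 0, 1, 0, 1, 0, 1, 1, 1, 0, 1, 0, 1, 1, 0, 1]),
    ((1, 2), (1, 8), [0, 1, 1, 1, 0, 1, 1, 0, 1, 0, 1, 1, 1, 0, 1, 0, 1, 0, 1]),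
    ((1, 2), (1, 16), [1, 1, 0, 1, 0, 1, 1, 1, 0, 1, 0, 1, 0, 1, 0, 1, 1, 1, 0, 1]),
    ((4, 8), (1, 32), [1]),
    ((1, 2), (2, 4), [1, 1, 0, 1, 1, 1, 0, 1, 0, 1, 0, 1, 1, 1, 0, 1, 1, 1, 0, 1, 0, 1, 0, 1, 0, 1]),
    ((1, 2), (2, 8), [0, 1, 1, 1, 0, 1, 0, 1, 0, 1, 1, 1, 0, 1, 1, 1, 0, 1, 0, 1, 0, 1, 0, 1]),
    ((4, 8), (2, 16), [0, 1, 0, 1, 0, 1, 0, 1, 0, 1, 0, 1, 1, 0, 1, 0, 1, 1, 0, 1, 0, 1, 0]),
    ((1, 2), (2, 32), [1, 0, 1, 0, 1, 0, 1, 0, 1, 1, 1, 0, 1, 0, 1, 0, 1, 0, 1]),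
    ((4, 8), (4, 8), []),
    ((1, 2), (4, 16), [1, 1, 1]),
    ((1, 2), (4, 32), [1, 0, 1, 0, 1, 0, 1, 0, 1, 1, 1, 0, 1, 0, 1, 1, 0, 1]),
    ((1, 2), (8, 16), [1]),
    ((1, 2), (8, 32), [0, 1, 0, 1, 1, 0, 1, 0, 1, 1, 0, 1, 0, 1, 0, 1, 0, 1, 0, 1]),
    ((1, 2), (16, 32), [1, 0, 1, 1, 1, 0, 1, 0, 1, 0, 1, 1, 1, 0, 1, 1, 1, 0, 1, 0, 1, 0, 1, 0, 1])]

/-- every line comes from the first -/
def lineWords : List (List ℕ) := [[], [1, 0, 1, 1, 0, 1, 0, 1, 1, 1, 0, 1, 1, 0, 1, 0, 1], [1, 1, 1], [1], [0, 1, 1, 0, 1, 0, 1, 1, 1, 0, 1, 1, 0, 1, 0, 1], [1, 1]]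

end Cfsg.Agent.Lib.Co1Golay43
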