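import Cfsg.Agent.Lib.Co1Golay43.Align
import Cfsg.Agent.Lib.Cores.Gaschutz

/-!
# Conway type: the iso of the stabilisers extends to the centralisers of `z`

An element of `C(z)` has two partners inducing the transported automorphism of `Q`; the pairs form a
central extension of `C(z)` by `⟨z'⟩`, split over a subgroup of index 135, hence split.  On the
stabiliser the splitting agrees with the given iso as the stabiliser has no quotient of order 2.

Owner: helper43.
-/

set_option autoImplicit false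
set_option maxRecDepth 100000
set_option linter.unusedSectionVars false
set_option linter.style.haveILetI false

namespace Cfsg.Agent.Lib.Co1Golay43

open Cfsg.Agent.Lib.Co1Type31

theorem bn_dual : ∀ j < 8, ∃ d < 256, ∀ i < 8, bn d (2 ^ i) = Nat.beq i j := by decide +kernel

/-- Every basis vector is moved into by the stabiliser. -/
theorem vec_diff : ∀ j < 8, (∃ t < 12, ∃ v < 256, prs (tvWord [t]) v ^^^ v = 2 ^ j) ∨
    ∃ i < 64, ∃ v < 256, rA i v ^^^ v = 2 ^ j := by decide +kernel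

/-- Every basis line is moved into by a transvection. -/
theorem line_diff : ∀ j < 6, ∃ t < 12, ∃ i < 64,
    agree (fun v => prs (tvWord [t]) (rA i v)) (fun v => rA (i ^^^ 2 ^ j) (prs (tvWord [t]) v)) = true := by
  decide +kernel

/-- Every transvection is a commutator of two others on the subspace. -/
theorem tv_comm : ∀ t < 12, ∃ a < 12, ∃ b < 12,
    wB.all (fun w => Nat.beq (prs (tvWord [a, b, a, b]) w) (prs (tvWord [t]) w)) = true := by
  decide +kernel

theorem pw_comm {H : Type*} [Group H] {a c : H} (hc : Commute c a) (b : Bool) : Commute c (pw a b) := by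
  cases b
  · exact Commute.one_right c
  · exact hc

theorem pw_true_inj {H : Type*} [Group H] {a : H} (ha : a ≠ 1) {b b' : Bool} (e : pw a b = pw a b') : b = b' := by
  cases b <;> cases b' <;> first | rfl | exact absurd e ha | exact absurd e.symm ha

/-- An additive functional of the coded space is the form against a vector. -/
theorem bn_rep {l : ℕ → Bool} (hl : ∀ j < 256, ∀ k < 256, l (j ^^^ k) = Bool.xor (l j) (l k)) :
    ∃ b < 256, ∀ k < 256, bn b k = l k := by
  have hm : ∀ m ≤ 8, ∃ b < 256, ∀ i < 8, bn b (2 ^ i) = (decide (i < m) && l (2 ^ i)) := by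
    intro m
    induction m with
    | zero => exact fun _ => ⟨0, by norm_num, fun i _ => by rw [bn_comm, bn_zero]; simp⟩
    | succ m ih =>
      intro hm
      obtain ⟨b, hb, hbi⟩ := ih (by omega)
      obtain ⟨d, hd, hdi⟩ := bn_dual m (by omega)
      have hbd : (bif l (2 ^ m) then d else 0) < 256 := by cases l (2 ^ m); exacts [Nat.zero_lt_succ _, hd]
      refine ⟨b ^^^ (bif l (2 ^ m) then d else 0), xor_lt hb hbd, fun i hi => ?_⟩
      have hp : 2 ^ i < 256 := Nat.pow_lt_pow_right (a := 2) (n := 8) (by norm_num) hi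
      rw [bn_comm, bn_add hp hb hbd, bn_comm _ b, hbi i hi]
      rcases Nat.lt_trichotomy i m with h | h | h
      · cases hl2 : l (2 ^ m)
        · simp [bn_zero, h, Nat.lt_succ_of_lt h]
        · have hne : Nat.beq i m = false := by
            cases hb' : Nat.beq i m
            · rfl
            · exact absurd (Nat.eq_of_beq_eq_true hb') h.ne
          simp [bn_comm _ d, hdi i hi, hne, h, Nat.lt_succ_of_lt h]
      · subst h
        cases hl2 : l (2 ^ i)
        · simp [bn_zero]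
        · simp [bn_comm _ d, hdi i hi, Nat.beq_refl]
      · cases hl2 : l (2 ^ m)
        · simp [bn_zero, show ¬ i < m by omega, show ¬ i < m + 1 by omega]
        · have hne : Nat.beq i m = false := by
            cases hb' : Nat.beq i m
            · rfl
            · exact absurd (Nat.eq_of_beq_eq_true hb') h.ne'
          simp [bn_comm _ d, hdi i hi, hne, show ¬ i < m by omega, show ¬ i < m + 1 by omega]
  obtain ⟨b, hb, hbi⟩ := hm 8 le_rfl
  refine ⟨b, hb, fun k => ?_⟩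
  induction k using Nat.strong_induction_on with
  | _ k ih =>
    intro hk
    rcases eq_or_ne k 0 with rfl | h0
    · have := hl 0 hk 0 hk
      rw [Nat.xor_self, Bool.xor_self] at this
      rw [bn_zero, this]
    · obtain ⟨j, hj, hlt⟩ := bit8_step k hk h0
      have hp : 2 ^ j < 256 := Nat.pow_lt_pow_right (a := 2) (n := 8) (by norm_num) hj
      have e : k = (k ^^^ 2 ^ j) ^^^ 2 ^ j := by rw [Nat.xor_assoc, Nat.xor_self, Nat.xor_zero]
      rw [e, bn_add hb (hlt.trans hk) hp, hl _ (hlt.trans hk) _ hp, ih _ hlt (hlt.trans hk), hbi j hj]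
      simp [hj]

universe u v

variable {G : Type u} [Group G] [Finite G] {z : G} {Q : Subgroup G} {co : G → ℕ} {ac : G → ℕ → ℕ}
variable {x n m : G} {C : Cfg z Q co ac x n m} (B : Base C)
variable {G' : Type v} [Group G'] [Finite G'] {z' : G'} {Q' : Subgroup G'} {co' : G' → ℕ} {ac' : G' → ℕ → ℕ}
variable {x' n' m' : G'} {C' : Cfg z' Q' co' ac' x' n' m'} (B' : Base C')

/-- An aligned iso of the normalisers. -/
structure Algn where
  f : ↥(NA C.duo.fr) ≃* ↥(NA C'.duo.fr)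
  el : ∀ s, s < 2048 → (f ⟨B.el s, B.el_NA s⟩ : G') = B'.el s
  code : ∀ (q : G) (hq : q ∈ Q), (f ⟨q, Base.Q_NA (C := C) hq⟩ : G') ∈ Q' ∧
    co' (f ⟨q, Base.Q_NA (C := C) hq⟩ : G') = co q

namespace Algn

variable {B B'} (A : Algn B B')

open scoped Classical in
/-- The iso as a function. -/
noncomputable def F (g : G) : G' := if hg : g ∈ NA C.duo.fr then (A.f ⟨g, hg⟩ : G') else 1

theorem F_eq {g : G} (hg : g ∈ NA C.duo.fr) : A.F g = (A.f ⟨g, hg⟩ : G') := by
  classical exact dif_pos hg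

theorem F_mul {g k : G} (hg : g ∈ NA C.duo.fr) (hk : k ∈ NA C.duo.fr) : A.F (g * k) = A.F g * A.F k := by
  rw [A.F_eq hg, A.F_eq hk, A.F_eq (mul_mem hg hk), ← Subgroup.coe_mul, ← map_mul]
  rfl

theorem F_inv {g : G} (hg : g ∈ NA C.duo.fr) : A.F g⁻¹ = (A.F g)⁻¹ := by
  rw [A.F_eq hg, A.F_eq (inv_mem hg), ← InvMemClass.coe_inv, ← map_inv]
  rfl

theorem F_one : A.F 1 = 1 := by rw [A.F_eq (one_mem _)]; exact congrArg Subtype.val (map_one A.f)

theorem F_el {s : ℕ} (hs : s < 2048) : A.F (B.el s) = B'.el s := by rw [A.F_eq (B.el_NA s), A.el s hs]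

theorem F_z : A.F z = z' := by
  have := A.F_el (s := 1) (by norm_num)
  rwa [B.el_one, B'.el_one] at this

theorem F_Q {q : G} (hq : q ∈ Q) : A.F q ∈ Q' ∧ co' (A.F q) = co q := by
  rw [A.F_eq (Base.Q_NA (C := C) hq)]
  exact A.code q hq

theorem F_inj {g k : G} (hg : g ∈ NA C.duo.fr) (hk : k ∈ NA C.duo.fr) (e : A.F g = A.F k) : g = k := by
  rw [A.F_eq hg, A.F_eq hk] at e
  exact congrArg Subtype.val (A.f.injective (Subtype.ext e))

theorem z_NA (_A : Algn B B') : z ∈ NA C.duo.fr := Base.Q_NA (C := C) C.duo.fr.es.mem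

theorem F_surjQ {q' : G'} (hq' : q' ∈ Q') : ∃ q ∈ Q, A.F q = q' := by
  obtain ⟨q, hq, e⟩ := C.duo.fr.co_surj (co' q') (C'.duo.fr.co_lt q' hq')
  obtain ⟨h1, h2⟩ := A.F_Q hq
  rcases C'.duo.fr.co_eq h1 hq' (h2.trans e) with e' | e'
  · exact ⟨q, hq, e'.symm⟩
  · exact ⟨q * z, mul_mem hq C.duo.fr.es.mem, by rw [A.F_mul (Base.Q_NA (C := C) hq) A.z_NA, A.F_z, e']⟩

theorem F_NZ {g : G} (hg : g ∈ NZ C.duo.fr) : Commute (A.F g) z' := by
  have := congrArg A.F (NZ_comm hg).eq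
  rwa [A.F_mul hg.1 A.z_NA, A.F_mul A.z_NA hg.1, A.F_z] at this

/-- Inducing transported automorphisms of `Q`. -/
def Rel (c : G) (c' : G') : Prop :=
  Commute c z ∧ Commute c' z' ∧ ∀ q ∈ Q, A.F (c * q * c⁻¹) = c' * A.F q * c'⁻¹

/-- The pairs inducing the same automorphism. -/
def R : Subgroup (G × G') where
  carrier := {p | A.Rel p.1 p.2}
  one_mem' := ⟨Commute.one_left _, Commute.one_left _, fun q _ => by simp⟩
  mul_mem' := by
    rintro ⟨a, a'⟩ ⟨b, b'⟩ ⟨ha, ha', hA⟩ ⟨hb, hb', hB⟩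
    refine ⟨ha.mul_left hb, ha'.mul_left hb', fun q hq => ?_⟩
    show A.F (a * b * q * (a * b)⁻¹) = a' * b' * A.F q * (a' * b')⁻¹
    rw [show a * b * q * (a * b)⁻¹ = a * (b * q * b⁻¹) * a⁻¹ by group, hA _ (C.duo.fr.norm b hb q hq),
      hB q hq]
    group
  inv_mem' := by
    rintro ⟨a, a'⟩ ⟨ha, ha', hA⟩
    refine ⟨ha.inv_left, ha'.inv_left, fun q hq => ?_⟩
    show A.F (a⁻¹ * q * a⁻¹⁻¹) = a'⁻¹ * A.F q * a'⁻¹⁻¹
    have := hA _ (C.duo.fr.norm a⁻¹ ha.inv_left q hq)
    rw [show a * (a⁻¹ * q * a⁻¹⁻¹) * a⁻¹ = q by group] at this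
    rw [this]
    group

theorem rel_NZ {g : G} (hg : g ∈ NZ C.duo.fr) : A.Rel g (A.F g) := by
  refine ⟨NZ_comm hg, A.F_NZ hg, fun q hq => ?_⟩
  rw [A.F_mul (mul_mem hg.1 (Base.Q_NA (C := C) hq)) (inv_mem hg.1), A.F_mul hg.1 (Base.Q_NA (C := C) hq), A.F_inv hg.1]

theorem rel_unique {c : G} {c1 c2 : G'} (h1 : A.Rel c c1) (h2 : A.Rel c c2) : c2 = c1 ∨ c2 = c1 * z' := by
  have hall : ∀ q' ∈ Q', Commute (c1⁻¹ * c2) q' := by
    intro q' hq'
    obtain ⟨q, hq, rfl⟩ := A.F_surjQ hq'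
    have e : c1 * A.F q * c1⁻¹ = c2 * A.F q * c2⁻¹ := (h1.2.2 q hq).symm.trans (h2.2.2 q hq)
    show c1⁻¹ * c2 * A.F q = A.F q * (c1⁻¹ * c2)
    calc c1⁻¹ * c2 * A.F q = c1⁻¹ * (c2 * A.F q * c2⁻¹) * c2 := by group
      _ = A.F q * (c1⁻¹ * c2) := by rw [← e]; group
  rcases C'.duo.fr.cent _ hall with e | e
  · exact Or.inl (inv_mul_eq_one.1 e).symm
  · exact Or.inr (inv_mul_eq_iff_eq_mul.1 e)

theorem exists_rel_word {ws : List (ℕ × ℕ)} (hok : okWord ws = true) {c : G} (hc : Commute c z)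
    (hck : ∀ k < 256, ac c k = prs ws k) : ∃ c', A.Rel c c' := by
  classical
  have h := C.duo.fr
  have h' := C'.duo.fr
  obtain ⟨c', hc', hck'⟩ := h'.exists_prs hok
  have hcode : ∀ q ∈ Q, co' (A.F (c * q * c⁻¹)) = co' (c' * A.F q * c'⁻¹) := fun q hq => by
    rw [(A.F_Q (h.norm c hc q hq)).2, h'.conj c' hc' _ (A.F_Q hq).1, (A.F_Q hq).2, h.conj c hc q hq,
      hck _ (h.co_lt q hq), hck' _ (h.co_lt q hq)]
  let ε : G → Bool := fun q => decide (c' * A.F q * c'⁻¹ ≠ A.F (c * q * c⁻¹))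
  have hε : ∀ q ∈ Q, c' * A.F q * c'⁻¹ = A.F (c * q * c⁻¹) * pw z' (ε q) := fun q hq => by
    rcases h'.co_eq (A.F_Q (h.norm c hc q hq)).1 (h'.norm c' hc' _ (A.F_Q hq).1) (hcode q hq) with e | e
    · simp [ε, e, pw]
    · have : ε q = true := by
        simp only [ε, decide_eq_true_eq, e]
        exact fun hh => h'.es.ne (mul_eq_left.1 hh)
      rw [this]
      exact e
  have hεmul : ∀ q ∈ Q, ∀ r ∈ Q, ε (q * r) = Bool.xor (ε q) (ε r) := fun q hq r hr => by
    refine pw_true_inj h'.es.ne ?_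
    have e := hε _ (mul_mem hq hr)
    have hq1 := Base.Q_NA (C := C) (h.norm c hc q hq)
    have hr1 := Base.Q_NA (C := C) (h.norm c hc r hr)
    rw [A.F_mul (Base.Q_NA (C := C) hq) (Base.Q_NA (C := C) hr),
      show c * (q * r) * c⁻¹ = (c * q * c⁻¹) * (c * r * c⁻¹) by group, A.F_mul hq1 hr1,
      show c' * (A.F q * A.F r) * c'⁻¹ = (c' * A.F q * c'⁻¹) * (c' * A.F r * c'⁻¹) by group,
      hε q hq, hε r hr, ← mul_assoc, mul_assoc (A.F (c * q * c⁻¹)),
      ← (pw_comm (h'.es.comm _ (A.F_Q (h.norm c hc r hr)).1) (ε q)).eq, ← mul_assoc, mul_assoc,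
      pw_mul h'.es.sq] at e
    exact (mul_left_cancel e).symm
  have hεz : ε z = false := by
    have e : c * z * c⁻¹ = z := mul_inv_eq_iff_eq_mul.2 hc.eq
    simp only [ε, decide_eq_false_iff_not, ne_eq, not_not, e, A.F_z]
    exact mul_inv_eq_iff_eq_mul.2 hc'.eq
  choose! Rp hRp hRc using fun k (hk : k < 256) => h.co_surj k hk
  have hεco : ∀ q ∈ Q, ε q = ε (Rp (co q)) := fun q hq => by
    have hlt := h.co_lt q hq
    rcases h.co_eq (hRp _ hlt) hq (hRc _ hlt) with e | e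
    · rw [← e]
    · have e2 := hεmul _ (hRp _ hlt) z h.es.mem
      rw [← e, hεz, Bool.xor_false] at e2
      exact e2
  obtain ⟨b, hb, hbn⟩ := bn_rep (l := fun k => ε (Rp k)) fun j hj k hk => by
    show ε (Rp (j ^^^ k)) = _
    have e := hεco _ (mul_mem (hRp j hj) (hRp k hk))
    rw [h.co_mul _ (hRp j hj) _ (hRp k hk), hRc j hj, hRc k hk] at e
    rw [← e, hεmul _ (hRp j hj) _ (hRp k hk)]
  obtain ⟨d, hd, hdc⟩ := h'.co_surj b hb
  refine ⟨c' * d, hc, hc'.mul_left (h'.es.comm d hd), fun q hq => ?_⟩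
  have hF := (A.F_Q hq).1
  rw [show c' * d * A.F q * (c' * d)⁻¹ = c' * (d * A.F q * d⁻¹) * c'⁻¹ by group, h'.comm_Q hd hF, hdc,
    (A.F_Q hq).2, hbn _ (h.co_lt q hq), ← hεco q hq,
    show c' * (A.F q * pw z' (ε q)) * c'⁻¹ = (c' * A.F q * c'⁻¹) * (c' * pw z' (ε q) * c'⁻¹) by group,
    mul_inv_eq_iff_eq_mul.2 (pw_comm hc' (ε q)).eq, hε q hq, mul_assoc (A.F (c * q * c⁻¹)), pw_mul h'.es.sq, Bool.xor_self]
  exact (mul_one _).symm

theorem exists_rel {c : G} (hc : Commute c z) : ∃ c', A.Rel c c' := by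
  obtain ⟨cs, hcs, -, hdec⟩ := exists_cosets C
  obtain ⟨i, hi⟩ := hdec c hc
  have hok : okWord (cosW.getD i []) = true := List.all_eq_true.1 cosW_spec.2.1 _ (by
    rw [List.getD_eq_getElem _ _ (by rw [cosW_spec.1]; exact i.2)]
    exact List.getElem_mem _)
  obtain ⟨d, hd⟩ := A.exists_rel_word hok (hcs i).1 (hcs i).2
  refine ⟨d * A.F ((cs i)⁻¹ * c), ?_⟩
  have := A.R.mul_mem (show ((cs i, d) : G × G') ∈ A.R from hd)
    (show (((cs i)⁻¹ * c, A.F ((cs i)⁻¹ * c)) : G × G') ∈ A.R from A.rel_NZ hi)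
  rwa [Prod.mk_mul_mk, mul_inv_cancel_left] at this

/-- The projection of the pairs. -/
def p1 : ↥A.R →* G := (MonoidHom.fst G G').comp A.R.subtype

theorem p1_range : A.p1.range = Subgroup.centralizer ({z} : Set G) := by
  ext c
  rw [Subgroup.mem_centralizer_singleton_iff]
  constructor
  · rintro ⟨p, rfl⟩
    exact p.2.1.eq
  · intro hc
    obtain ⟨c', hc'⟩ := A.exists_rel hc
    exact ⟨⟨(c, c'), hc'⟩, rfl⟩

theorem mem_ker_p1 {p : ↥A.R} (hp : p ∈ A.p1.ker) : (p : G × G').2 = 1 ∨ (p : G × G').2 = z' := by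
  have h1 : A.Rel 1 (p : G × G').2 := by
    have e : (p : G × G').1 = 1 := hp
    rw [← e]
    exact p.2
  rcases A.rel_unique (c1 := 1) (A.R.one_mem : A.Rel 1 1) h1 with e | e
  · exact Or.inl e
  · exact Or.inr (e.trans (one_mul _))

/-- A splitting of the projection. -/
theorem exists_split :
    ∃ P : G → G', (∀ c, Commute c z → A.Rel c (P c)) ∧
      ∀ c d, Commute c z → Commute d z → P (c * d) = P c * P d := by
  classical
  have h := C.duo.fr
  have h' := C'.duo.fr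
  let K : Subgroup ↥A.R := A.p1.ker
  let U : Subgroup ↥A.R := (NZ C.duo.fr).comap A.p1
  let S : Subgroup ↥A.R :=
    { carrier := {p | (p : G × G').1 ∈ NZ C.duo.fr ∧ (p : G × G').2 = A.F (p : G × G').1}
      one_mem' := ⟨one_mem _, A.F_one.symm⟩
      mul_mem' := fun {p q} hp hq => ⟨mul_mem hp.1 hq.1, by
        show (p : G × G').2 * (q : G × G').2 = A.F ((p : G × G').1 * (q : G × G').1)
        rw [A.F_mul hp.1.1 hq.1.1, hp.2, hq.2]⟩
      inv_mem' := fun {p} hp => ⟨inv_mem hp.1, by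
        show ((p : G × G').2)⁻¹ = A.F ((p : G × G').1)⁻¹
        rw [A.F_inv hp.1.1, hp.2]⟩ }
  have hk : ∀ p ∈ K, (p : G × G').1 = 1 := fun p hp => hp
  have hd : S ⊓ K = ⊥ := by
    rw [eq_bot_iff]
    rintro p ⟨hpS, hpK⟩
    rw [Subgroup.mem_bot]
    refine Subtype.ext (Prod.ext (hk p hpK) ?_)
    rw [hpS.2, hk p hpK, A.F_one]
    rfl
  have hz'R : A.Rel 1 z' := ⟨Commute.one_left z, Commute.refl z', fun q hq => by
    rw [one_mul, inv_one, mul_one, ← (h'.es.comm _ (A.F_Q hq).1).eq, mul_inv_cancel_right]⟩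
  let kz : ↥A.R := ⟨(1, z'), hz'R⟩
  have hKU : K ≤ U := fun p hp => by
    show (p : G × G').1 ∈ NZ C.duo.fr
    rw [hk p hp]
    exact one_mem _
  have hs : K ⊔ S = U := by
    refine le_antisymm (sup_le hKU fun p hp => hp.1) fun p hp => ?_
    have hg : (p : G × G').1 ∈ NZ C.duo.fr := hp
    let s : ↥A.R := ⟨((p : G × G').1, A.F (p : G × G').1), A.rel_NZ hg⟩
    have hmem : p * s⁻¹ ∈ K := by
      show (p : G × G').1 * ((p : G × G').1)⁻¹ = 1
      exact mul_inv_cancel _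
    have := mul_mem (Subgroup.mem_sup_left hmem) (Subgroup.mem_sup_right (S := K) (show s ∈ S from ⟨hg, rfl⟩))
    rwa [inv_mul_cancel_right] at this
  have hkz : kz ∈ K := rfl
  have hcardK : Nat.card K = 2 := by
    rw [Nat.card_eq_two_iff' (1 : K)]
    refine ⟨⟨kz, hkz⟩, fun e => h'.es.ne (congrArg (fun q : K => ((q : ↥A.R) : G × G').2) e), fun q hq => ?_⟩
    rcases A.mem_ker_p1 q.2 with e | e
    · exact absurd (Subtype.ext (Subtype.ext (Prod.ext (hk _ q.2) e))) hq
    · exact Subtype.ext (Subtype.ext (Prod.ext (hk _ q.2) e))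
  haveI : IsMulCommutative K := by
    haveI : Fact (Nat.Prime 2) := ⟨Nat.prime_two⟩
    haveI := isCyclic_of_prime_card hcardK
    exact IsCyclic.isMulCommutative
  have hidx : U.index = 135 := by
    obtain ⟨-, -, hcard, -⟩ := exists_cosets C
    rw [Subgroup.index_comap, p1_range, Subgroup.relIndex]
    have e := Subgroup.card_mul_index ((NZ C.duo.fr).subgroupOf (Subgroup.centralizer ({z} : Set G)))
    rw [Nat.card_congr (Subgroup.subgroupOfEquivOfLe inf_le_right).toEquiv, hcard, h.cardC] at e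
    omega
  obtain ⟨H, hH⟩ := Cores.Gaschutz.exists_complement (K := K) hKU (by rw [hcardK, hidx]; norm_num) hd hs
  have hinj : ∀ p ∈ H, (p : G × G').1 = 1 → p = 1 := fun p hp e =>
    Subgroup.mem_bot.1 (hH.disjoint.eq_bot ▸ (Subgroup.mem_inf.2 ⟨(show p ∈ K from e), hp⟩))
  have hex : ∀ c, Commute c z → ∃ p ∈ H, (p : G × G').1 = c := by
    intro c hc
    obtain ⟨c', hc'⟩ := A.exists_rel hc
    obtain ⟨⟨k, q⟩, e⟩ := hH.2 ⟨(c, c'), hc'⟩
    refine ⟨q, q.2, ?_⟩
    have e1 : ((k : ↥A.R) : G × G').1 * ((q : ↥A.R) : G × G').1 = c :=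
      congrArg (fun p : ↥A.R => (p : G × G').1) e
    rwa [hk _ k.2, one_mul] at e1
  choose! p hp hp1 using hex
  refine ⟨fun c => (p c : G × G').2, fun c hc => ?_, fun c d hc hd => ?_⟩
  · have := (p c).2
    rwa [show ((p c : ↥A.R) : G × G') = (c, ((p c : ↥A.R) : G × G').2) from Prod.ext (hp1 c hc) rfl] at this
  · have e : p (c * d) = p c * p d := by
      refine mul_inv_eq_one.1 (hinj _ (mul_mem (hp _ (hc.mul_left hd))
        (inv_mem (mul_mem (hp c hc) (hp d hd)))) ?_)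
      show (p (c * d) : G × G').1 * ((p c : G × G').1 * (p d : G × G').1)⁻¹ = 1
      rw [hp1 _ (hc.mul_left hd), hp1 c hc, hp1 d hd, mul_inv_cancel]
    show (p (c * d) : G × G').2 = _
    rw [e]
    rfl

/-- A splitting agrees with the given iso on the stabiliser. -/
theorem split_eq {P : G → G'} (hR : ∀ c, Commute c z → A.Rel c (P c))
    (hm : ∀ c d, Commute c z → Commute d z → P (c * d) = P c * P d) :
    ∀ g ∈ NZ C.duo.fr, P g = A.F g := by
  classical
  have h := C.duo.fr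
  have h' := C'.duo.fr
  let χ : G → Bool := fun g => decide (P g ≠ A.F g)
  have hχ : ∀ g ∈ NZ C.duo.fr, P g = A.F g * pw z' (χ g) := fun g hg => by
    rcases A.rel_unique (A.rel_NZ hg) (hR g (NZ_comm hg)) with e | e
    · simp [χ, e, pw]
    · have : χ g = true := by
        simp only [χ, decide_eq_true_eq, e]
        exact fun hh => h'.es.ne (mul_eq_left.1 hh)
      rw [this]
      exact e
  have hmul : ∀ g ∈ NZ C.duo.fr, ∀ k ∈ NZ C.duo.fr, χ (g * k) = Bool.xor (χ g) (χ k) := fun g hg k hk => by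
    refine pw_true_inj h'.es.ne ?_
    have e := hχ _ (mul_mem hg hk)
    rw [hm g k (NZ_comm hg) (NZ_comm hk), A.F_mul hg.1 hk.1, hχ g hg, hχ k hk, ← mul_assoc,
      mul_assoc (A.F g), ← (pw_comm (A.F_NZ hk) (χ g)).eq, ← mul_assoc, mul_assoc, pw_mul h'.es.sq] at e
    exact (mul_left_cancel e).symm
  have h1 : χ 1 = false := by
    have := hmul 1 (one_mem _) 1 (one_mem _)
    rwa [one_mul, Bool.xor_self] at this
  have hinv : ∀ g ∈ NZ C.duo.fr, χ g⁻¹ = χ g := fun g hg => by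
    have := hmul g hg g⁻¹ (inv_mem hg)
    rw [mul_inv_cancel, h1] at this
    revert this; cases χ g <;> cases χ g⁻¹ <;> simp
  have hconj : ∀ c ∈ NZ C.duo.fr, ∀ g ∈ NZ C.duo.fr, χ (c * g * c⁻¹) = χ g := fun c hc g hg => by
    rw [hmul _ (mul_mem hc hg) _ (inv_mem hc), hmul c hc g hg, hinv c hc]
    cases χ c <;> cases χ g <;> rfl
  have hQN : ∀ q ∈ Q, q ∈ NZ C.duo.fr := fun q hq => mem_NZ (Base.Q_NA (C := C) hq) (h.es.comm q hq)
  have hAN : ∀ a ∈ AG C.duo.fr, a ∈ NZ C.duo.fr := fun a ha => mem_NZ (Subgroup.le_normalizer ha) (AG_z h ha)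
  -- the extraspecial group
  have hzχ : χ z = false := by
    obtain ⟨d, hd, hdb⟩ := bn_dual 0 (by norm_num)
    obtain ⟨q, hq, hqc⟩ := h.co_surj d hd
    obtain ⟨r, hr, hrc⟩ := h.co_surj (2 ^ 0) (by norm_num)
    have e := h.comm_Q hq hr
    rw [hqc, hrc, hdb 0 (by norm_num), show pw z (Nat.beq 0 0) = z from rfl] at e
    have := hconj q (hQN q hq) r (hQN r hr)
    rw [e, hmul r (hQN r hr) z (hQN z h.es.mem)] at this
    revert this; cases χ r <;> cases χ z <;> simp
  choose! Rp hRp hRc using fun k (hk : k < 256) => h.co_surj k hk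
  have hχco : ∀ q ∈ Q, χ q = χ (Rp (co q)) := fun q hq => by
    have hlt := h.co_lt q hq
    rcases h.co_eq (hRp _ hlt) hq (hRc _ hlt) with e | e
    · rw [← e]
    · have e2 := hmul _ (hQN _ (hRp _ hlt)) z (hQN z h.es.mem)
      rw [← e, hzχ, Bool.xor_false] at e2
      exact e2
  have hmove : ∀ c ∈ NZ C.duo.fr, ∀ v < 256, χ (Rp (ac c v ^^^ v)) = false := by
    intro c hc v hv
    have hv' := h.ac_lt (NZ_comm hc) hv
    have hr := h.norm c (NZ_comm hc) _ (hRp v hv)
    have e := hχco _ (mul_mem hr (hRp v hv))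
    rw [h.co_mul _ hr _ (hRp v hv), h.conj c (NZ_comm hc) _ (hRp v hv), hRc v hv] at e
    rw [← e, hmul _ (hQN _ hr) _ (hQN _ (hRp v hv)), hconj c hc _ (hQN _ (hRp v hv)), Bool.xor_self]
  have hbasis : ∀ j < 8, χ (Rp (2 ^ j)) = false := by
    intro j hj
    rcases vec_diff j hj with ⟨t, ht, v, hv, e⟩ | ⟨i, hi, v, hv, e⟩
    · obtain ⟨c, hc, hck⟩ := h.exists_prs (tvWord_spec (l := [t]) (by simpa using ht)).1
      rw [← e, ← hck v hv]
      exact hmove c (tv_NZ C ht hc hck) v hv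
    · obtain ⟨a, ha, hai⟩ := exists_lift h hi
      rw [← e, ← hai v hv]
      exact hmove a (hAN a ha) v hv
  have hQk : ∀ k < 256, χ (Rp k) = false := by
    intro k
    induction k using Nat.strong_induction_on with
    | _ k ih =>
      intro hk
      rcases eq_or_ne k 0 with rfl | h0
      · have e := hχco 1 (one_mem Q)
        rwa [h1, h.co_one, eq_comm] at e
      · obtain ⟨j, hj, hlt⟩ := bit8_step k hk h0
        have hp : 2 ^ j < 256 := Nat.pow_lt_pow_right (a := 2) (n := 8) (by norm_num) hj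
        have e := hχco _ (mul_mem (hRp _ (hlt.trans hk)) (hRp _ hp))
        rw [h.co_mul _ (hRp _ (hlt.trans hk)) _ (hRp _ hp), hRc _ (hlt.trans hk), hRc _ hp, Nat.xor_assoc,
          Nat.xor_self, Nat.xor_zero, hmul _ (hQN _ (hRp _ (hlt.trans hk))) _ (hQN _ (hRp _ hp)),
          ih _ hlt (hlt.trans hk), hbasis j hj] at e
        exact e.symm
  have hQ0 : ∀ q ∈ Q, χ q = false := fun q hq => (hχco q hq).trans (hQk _ (h.co_lt q hq))
  -- the elementary abelian group
  have hlow : ∀ s < 32, χ (B.el s) = false := fun s hs => hQ0 _ (B.el_low s hs).1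
  have hel : ∀ s t, χ (B.el (s ^^^ t)) = Bool.xor (χ (B.el s)) (χ (B.el t)) := fun s t => by
    rw [B.el_xor]
    exact hmul _ (hAN _ (B.el_mem s)) _ (hAN _ (B.el_mem t))
  have hline : ∀ j < 11, χ (B.el (2 ^ j)) = false := by
    intro j hj
    rcases Nat.lt_or_ge j 5 with h5 | h5
    · exact hlow _ (Nat.pow_lt_pow_right (a := 2) (n := 5) (by norm_num) h5)
    · obtain ⟨t, ht, i, hi, hag⟩ := line_diff (j - 5) (by omega)
      have hok := (tvWord_spec (l := [t]) (by simpa using ht)).1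
      obtain ⟨c, hc, hck⟩ := h.exists_prs hok
      have hcN := tv_NZ C ht hc hck
      obtain ⟨a, ha, hai⟩ := exists_lift h hi
      obtain ⟨s0, hs0, rfl⟩ := B.el_surj ha
      obtain ⟨s1, hs1, e1⟩ := B.el_surj ((Subgroup.mem_normalizer_iff.1 hcN.1 _).1 (B.el_mem s0))
      have hi' : i ^^^ 2 ^ (j - 5) < 64 := Nat.xor_lt_two_pow (n := 6) hi
        (Nat.pow_lt_pow_right (a := 2) (n := 6) (by norm_num) (by omega))
      have h0 : s0 >>> 5 = i := B.high_eq hs0 hi hai
      have hL := prs_lin hok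
      have hinv' : ∀ k < 256, prs (tvWord [t]) (ac c⁻¹ k) = k := fun k hk => by
        rw [← hck _ (h.ac_lt hc.inv_left hk), h.ac_inv' hc hk]
      have hact : ActA ac (B.el s1) (i ^^^ 2 ^ (j - 5)) := fun k hk => by
        have hk1 := h.ac_lt hc.inv_left hk
        rw [e1, h.ac_conj (AG_z h ha) hc hk, hai _ hk1, hck _ ((rA_lin i).lt _ hk1)]
        have := (hL.comp (rA_lin i)).ext ((rA_lin (i ^^^ 2 ^ (j - 5))).comp hL) hag _ hk1
        rw [this, hinv' k hk]
      have h1' : s1 >>> 5 = i ^^^ 2 ^ (j - 5) := B.high_eq hs1 hi' hact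
      have hd : χ (B.el (s0 ^^^ s1)) = false := by
        rw [hel, e1, hconj c hcN _ (hAN _ (B.el_mem s0)), Bool.xor_self]
      have hlt : (s0 ^^^ s1) ^^^ 2 ^ j < 32 := by
        have e : ((s0 ^^^ s1) ^^^ 2 ^ j) >>> 5 = 0 := by
          rw [Nat.shiftRight_xor_distrib, Nat.shiftRight_xor_distrib, h0, h1',
            show (2 : ℕ) ^ j >>> 5 = 2 ^ (j - 5) by
              rw [Nat.shiftRight_eq_div_pow, Nat.pow_div h5 (by norm_num)],
            ← Nat.xor_assoc i, Nat.xor_self, Nat.zero_xor, Nat.xor_self]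
        rw [Nat.shiftRight_eq_div_pow] at e
        omega
      have := hlow _ hlt
      rwa [hel, hd, Bool.false_xor] at this
  have hA0 : ∀ s < 2048, χ (B.el s) = false := by
    intro s
    induction s using Nat.strong_induction_on with
    | _ s ih =>
      intro hs
      rcases eq_or_ne s 0 with rfl | h0
      · exact hlow 0 (by norm_num)
      · obtain ⟨j, hj, hlt⟩ := bit11_step s hs h0
        have := hel (s ^^^ 2 ^ j) (2 ^ j)
        rwa [Nat.xor_assoc, Nat.xor_self, Nat.xor_zero, ih _ hlt (hlt.trans hs), hline j hj] at this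
  have hAG : ∀ a ∈ AG C.duo.fr, χ a = false := fun a ha => by
    obtain ⟨s, hs, rfl⟩ := B.el_surj ha
    exact hA0 s hs
  -- the transvections
  have htv : ∀ t < 12, ∀ c, Commute c z → (∀ k < 256, ac c k = prs (tvWord [t]) k) → χ c = false := by
    intro t ht c hc hck
    obtain ⟨a, ha, b, hb, hab⟩ := tv_comm t ht
    obtain ⟨ca, hca, hcak⟩ := h.exists_prs (tvWord_spec (l := [a]) (by simpa using ha)).1
    obtain ⟨cb, hcb, hcbk⟩ := h.exists_prs (tvWord_spec (l := [b]) (by simpa using hb)).1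
    have hA := tv_NZ C ha hca hcak
    have hB := tv_NZ C hb hcb hcbk
    have hCN := tv_NZ C ht hc hck
    set d := ca * cb * ca * cb with hd
    have hdN : d ∈ NZ C.duo.fr := mul_mem (mul_mem (mul_mem hA hB) hA) hB
    have hd0 : χ d = false := by
      rw [hd, hmul _ (mul_mem (mul_mem hA hB) hA) _ hB, hmul _ (mul_mem hA hB) _ hA, hmul _ hA _ hB]
      cases χ ca <;> cases χ cb <;> rfl
    have la := prs_lin (tvWord_spec (l := [a]) (by simpa using ha)).1
    have lb := prs_lin (tvWord_spec (l := [b]) (by simpa using hb)).1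
    have hdk : ∀ k < 256, ac d k = prs (tvWord [a, b, a, b]) k := fun k hk => by
      have k1 := lb.lt k hk
      have k2 := la.lt _ k1
      rw [hd, h.ac_mul ((hca.mul_left hcb).mul_left hca) hcb hk, hcbk k hk,
        h.ac_mul (hca.mul_left hcb) hca k1, hcak _ k1, h.ac_mul hca hcb k2, hcbk _ k2, hcak _ (lb.lt _ k2),
        show tvWord [a, b, a, b] = tvWord [a] ++ (tvWord [b] ++ (tvWord [a] ++ tvWord [b])) by simp [tvWord],
        prs_append, prs_append, prs_append]
    have hdz := NZ_comm hdN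
    obtain ⟨i, hi, hgi⟩ := exists_rA (h.iso (hdz.inv_left.mul_left hc)) fun w hw => by
      have hw' := (wB_spec w hw).1
      rw [h.ac_mul hdz.inv_left hc hw', hck w hw',
        ← Nat.eq_of_beq_eq_true (List.all_eq_true.1 hab w hw), ← hdk w hw', h.ac_inv hdz hw']
    obtain ⟨l, hl, hlk⟩ := exists_lift h hi
    have hlz := AG_z h hl
    have hq : l⁻¹ * (d⁻¹ * c) ∈ Q := h.faithful _ (hlz.inv_left.mul_left (hdz.inv_left.mul_left hc))
      fun k hk => by rw [h.ac_mul hlz.inv_left (hdz.inv_left.mul_left hc) hk, hgi k hk, ← hlk k hk,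
        h.ac_inv hlz hk]
    have e := hQ0 _ hq
    rw [hmul _ (inv_mem (hAN l hl)) _ (mul_mem (inv_mem hdN) hCN), hinv _ (hAN l hl), hAG l hl,
      hmul _ (inv_mem hdN) _ hCN, hinv _ hdN, hd0, Bool.false_xor, Bool.false_xor] at e
    exact e
  let S : Subgroup G :=
    { carrier := {g | g ∈ NZ C.duo.fr ∧ χ g = false}
      one_mem' := ⟨one_mem _, h1⟩
      mul_mem' := fun {g k} hg hk => ⟨mul_mem hg.1 hk.1, by rw [hmul g hg.1 k hk.1, hg.2, hk.2]; rfl⟩
      inv_mem' := fun {g} hg => ⟨inv_mem hg.1, by rw [hinv g hg.1, hg.2]⟩ }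
  have hle : NZ C.duo.fr ≤ S := NZ_le C (fun q hq => ⟨hQN q hq, hQ0 q hq⟩)
    (fun a ha => ⟨hAN a ha, hAG a ha⟩)
    fun t ht c hc hck => ⟨tv_NZ C ht hc hck, htv t ht c hc hck⟩
  intro g hg
  rw [hχ g hg, (hle hg).2]
  exact mul_one _

end Algn

namespace Base

/-- The iso of the normalisers extends to the centralisers of the involutions. -/
theorem exists_extension (hB : ∀ s < 2048, (B.O s ↔ zmask0.testBit s = true))
    (hB' : ∀ s < 2048, (B'.O s ↔ zmask0.testBit s = true)) :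
    ∃ f : ↥(NA C.duo.fr) ≃* ↥(NA C'.duo.fr),
      (∀ s, s < 2048 → (f ⟨B.el s, B.el_NA s⟩ : G') = B'.el s) ∧
      (∀ (q : G) (hq : q ∈ Q), (f ⟨q, Q_NA (C := C) hq⟩ : G') ∈ Q' ∧
        co' (f ⟨q, Q_NA (C := C) hq⟩ : G') = co q) ∧
      ∃ ψ : ↥(Subgroup.centralizer ({z} : Set G)) ≃* ↥(Subgroup.centralizer ({z'} : Set G')),
        (ψ ⟨z, Subgroup.mem_centralizer_singleton_iff.2 rfl⟩ : G') = z' ∧
        ∀ (g : G) (hg : g ∈ NA C.duo.fr) (hgz : g ∈ Subgroup.centralizer ({z} : Set G)),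
          (ψ ⟨g, hgz⟩ : G') = f ⟨g, hg⟩ := by
  obtain ⟨f, hf, hfQ⟩ := B.exists_aligned B' hB hB'
  let A : Algn B B' := ⟨f, hf, hfQ⟩
  obtain ⟨P, hP, hPm⟩ := A.exists_split
  have heq := A.split_eq hP hPm
  have h := C.duo.fr
  have h' := C'.duo.fr
  have hPz : P z = z' := (heq z (mem_NZ A.z_NA (Commute.refl z))).trans A.F_z
  have hcm : ∀ c : ↥(Subgroup.centralizer ({z} : Set G)), Commute (c : G) z := fun c =>
    Subgroup.mem_centralizer_singleton_iff.1 c.2
  let ψ0 : ↥(Subgroup.centralizer ({z} : Set G)) →* ↥(Subgroup.centralizer ({z'} : Set G')) :=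
    MonoidHom.mk' (fun c => ⟨P c, Subgroup.mem_centralizer_singleton_iff.2 (hP c (hcm c)).2.1.eq⟩)
      fun c d => Subtype.ext (hPm _ _ (hcm c) (hcm d))
  have hinj : Function.Injective ψ0 := by
    refine (injective_iff_map_eq_one _).2 fun c hc => ?_
    have e : P c = 1 := congrArg Subtype.val hc
    have hcc : ∀ q ∈ Q, Commute (c : G) q := fun q hq => by
      have := (hP c (hcm c)).2.2 q hq
      rw [e, one_mul, inv_one, mul_one] at this
      exact mul_inv_eq_iff_eq_mul.1 (A.F_inj (Q_NA (C := C) (h.norm c (hcm c) q hq)) (Q_NA (C := C) hq) this)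
    rcases h.cent c hcc with e1 | e1
    · exact Subtype.ext e1
    · rw [e1, hPz] at e
      exact absurd e h'.es.ne
  have hbij : Function.Bijective ψ0 :=
    hinj.bijective_of_nat_card_le (le_of_eq (h'.cardC.trans h.cardC.symm))
  refine ⟨f, hf, hfQ, MulEquiv.ofBijective ψ0 hbij, hPz, fun g hg hgz => ?_⟩
  show P g = _
  rw [heq g ⟨hg, hgz⟩, A.F_eq hg]

end Base

end Cfsg.Agent.Lib.Co1Golay43
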