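import Cfsg.Agent.Lib.Co1Golay43.Model

/-!
# Conway type: orbits of the translations on the module

For each coset below 64: a representative, its orbit as a mask on the 32 states of the coset, and
words in the two generators to and from the first coset of its kind.

Owner: helper43.
-/

set_option autoImplicit false
set_option maxRecDepth 100000

namespace Cfsg.Agent.Lib.Co1Golay43

open Cfsg.Agent.Lib.Co1Type31

/-- representatives -/
def repL : List ℕ :=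
  [0, 32, 64, 96, 128, 160, 192, 224, 256, 288, 320, 354, 384, 416, 448, 480, 512, 544, 576, 608, 640,
    674, 704, 736, 768, 800, 832, 864, 896, 928, 960, 994, 1024, 1056, 1088, 1120, 1152, 1184, 1218,
    1248, 1280, 1312, 1344, 1376, 1408, 1440, 1472, 1506, 1536, 1568, 1600, 1632, 1664, 1696, 1728,
    1762, 1796, 1824, 1856, 1892, 1920, 1956, 1990, 2016]

/-- their orbits -/
def orbL : List ℕ :=
  [0, 149, 2309, 36869, 589829, 9437189, 150994949, 2415919109, 8465, 33809, 33089, 33044, 1771677013,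
    2526651733, 2573837653, 2576786773, 2162705, 8650769, 1772460373, 2527435093, 8454209, 8454164,
    2577754453, 2577765973, 553648145, 2214592529, 2775161173, 2778110293, 2778294613, 2778306133,
    2164260929, 2164260884, 33620225, 1788188053, 134480129, 2590348693, 134284289, 2593482133,
    134283524, 2593494373, 537919745, 2790888853, 2151678209, 2841023893, 2841208213, 2148533249,
    2841220453, 2148532484, 536940545, 2794805653, 2841991573, 2147749889, 2147565569, 2845136533,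
    2845137253, 2147553284, 536936720, 2794820953, 2842006873, 2147746064, 2845140313, 2147550224,
    2147549504, 1449814697]

/-- the eight states of the class of `z` in a coset of a line -/
def eightL : List ℕ :=
  [0, 255, 3855, 61455, 983055, 15728655, 251658255, 4026531855, 13107, 52275, 50115, 49980, 0, 0, 0,
    0, 3342387, 13369395, 0, 0, 12779715, 12779580, 0, 0, 855638067, 3422552115, 0, 0, 0, 0, 3271557315,
    3271557180, 50529027, 0, 202113795, 0, 201526275, 0, 201523980, 0, 808452867, 0, 3233809155, 0, 0,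
    3224374275, 0, 3224371980, 805515267, 0, 0, 3222024195, 3221471235, 0, 0, 3221434380, 805503792, 0,
    0, 3222012720, 0, 3221425200, 3221423040, 0]

/-- the cosets of lines -/
def decL : List ℕ := [1, 2, 3, 4, 5, 6, 7, 8, 9, 10, 11, 16, 17, 20, 21, 24, 25, 30, 31, 32, 34, 36, 38, 40, 42, 45, 47,
    48, 51, 52, 55, 56, 59, 61, 62]

/-- the other cosets -/
def nsL : List ℕ := [12, 13, 14, 15, 18, 19, 22, 23, 26, 27, 28, 29, 33, 35, 37, 39, 41, 43, 44, 46, 49, 50, 53, 54, 57,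
    58, 60, 63]

/-- words to the first line -/
def to1L : List (List ℕ) :=
  [[], [], [1, 1, 1, 0, 1, 0, 1, 1, 0, 1, 1, 1, 0, 1, 0, 1, 1, 0, 1], [1, 1, 1, 0, 1, 0, 1, 1, 0, 1, 1,
    1, 0, 1, 0, 1], [1], [1, 1, 1, 0, 1, 0, 1, 1, 1, 0, 1], [1, 1, 1, 0, 1, 1], [1, 1, 1, 0, 1, 1, 1, 0,
    1, 1, 1], [1, 1, 1], [1, 1, 1, 0, 1, 0, 1, 1, 1, 0], [1, 1, 1, 0], [1, 1, 1, 0, 1, 0, 1, 1, 1], [],
    [], [], [], [1, 1, 1, 0, 1, 0, 1, 1, 0, 1, 1, 1, 0, 1, 0, 1, 1, 0], [1, 1, 1, 0, 1], [], [], [1, 1,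
    1, 0, 1, 0, 1, 1, 0, 1, 1, 1, 0, 1, 0, 1, 1], [1, 1, 1, 0, 1, 0], [], [], [1, 1, 1, 0, 1, 0, 1, 1,
    0, 1, 1, 1, 0, 1, 0], [1, 1, 1, 0, 1, 1, 1, 0, 1, 1], [], [], [], [], [1, 1, 1, 0, 1, 0, 1, 1, 0, 1,
    1, 1, 0, 1], [1, 1, 1, 0, 1, 0, 1, 1, 0, 1, 1], [1, 1], [], [1, 1, 1, 0, 1, 0, 1, 1, 0, 1, 1, 1, 0,
    1, 0, 1, 1, 1], [], [1, 1, 1, 0, 1, 0, 1, 1, 1, 0, 1, 1], [], [1, 1, 1, 0, 1, 0, 1], [], [1, 1, 1,
    0, 1, 1, 1, 0, 1, 0], [], [1, 1, 1, 0, 1, 1, 1, 0, 1], [], [], [1, 1, 1, 0, 1, 0, 1, 1, 0, 1, 0, 1,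
    0], [], [1, 1, 1, 0, 1, 0, 1, 1, 0, 1, 0, 1], [1, 1, 1, 0, 1, 1, 1], [], [], [1, 1, 1, 0, 1, 0, 1,
    1, 0, 1, 1, 1, 0], [1, 1, 1, 0, 1, 1, 1, 0], [], [], [1, 1, 1, 0, 1, 0, 1, 1, 0, 1, 1, 1], [1, 1, 1,
    0, 1, 0, 1, 1], [], [], [1, 1, 1, 0, 1, 0, 1, 1, 0, 1], [], [1, 1, 1, 0, 1, 0, 1, 1, 0, 1, 0], [1,
    1, 1, 0, 1, 0, 1, 1, 0], []]

/-- words from the first coset of the kind -/
def fromL : List (List ℕ) :=
  [[], [], [1, 0, 1, 1, 0, 1, 0, 1, 1, 1, 0, 1, 1, 0, 1, 0, 1], [1, 1, 1, 0, 1, 0, 1, 1, 1, 0, 1, 1, 0,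
    1, 0, 1], [1, 1, 1], [1, 1, 0, 1, 1, 1, 0, 1, 0, 1], [1, 1, 0, 1], [1, 0, 1, 0, 1], [1], [0, 1, 0,
    1, 1, 1, 0, 1], [0, 1], [1, 0, 1, 1, 1, 0, 1], [], [0, 1, 0, 1, 0], [0], [1, 0, 1, 0], [0, 1, 1, 0,
    1, 0, 1, 1, 1, 0, 1, 1, 0, 1, 0, 1], [1, 1, 1, 0, 1], [0, 1, 0, 1, 0, 1, 0, 1, 0, 1, 0, 1, 0], [0,
    1, 1, 0, 1, 0, 1, 0, 1, 0, 1, 0], [1, 1, 0, 1, 0, 1, 1, 1, 0, 1, 1, 0, 1, 0, 1], [0, 1, 1, 1, 0, 1],
    [1, 0, 1, 0, 1, 0, 1, 0, 1, 0, 1, 0], [1, 1, 0, 1, 0, 1, 0, 1, 0, 1, 0], [0, 1, 0, 1, 1, 1, 0, 1, 1,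
    0, 1, 0, 1], [1, 1, 0, 1, 0, 1], [1, 0, 1, 1, 0, 1, 0, 1, 0, 1, 0, 1, 0], [0, 1, 1, 1, 0, 1, 0, 1,
    0, 1, 0], [0, 1, 0, 1, 1, 0, 1, 0, 1, 0, 1, 0, 1, 0], [1, 1, 1, 0, 1, 0, 1, 0, 1, 0], [1, 0, 1, 1,
    1, 0, 1, 1, 0, 1, 0, 1], [0, 1, 1, 0, 1, 0, 1], [1, 1], [1], [1, 0, 1, 0, 1, 1, 1, 0, 1, 1, 0, 1, 0,
    1], [1, 0, 1, 0, 1, 1, 0, 1, 0, 1, 0, 1, 0, 1, 0], [1, 0, 1, 1, 1, 0, 1, 0, 1], [1, 1, 1, 0, 1, 0,
    1, 0], [1, 1, 1, 0, 1, 1, 1, 0, 1], [1, 1, 0, 1, 0, 1, 0, 1, 0], [0, 1, 1, 1, 0, 1, 0, 1], [1, 0, 1,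
    0, 1, 0], [1, 1, 1, 0, 1, 0, 1], [0, 1, 0, 1, 0, 1, 0], [1, 1, 0, 1, 0, 1, 0], [0, 1, 0, 1, 0, 1, 1,
    0, 1, 0, 1], [1, 1, 1, 0, 1, 0], [1, 0, 1, 0, 1, 1, 0, 1, 0, 1], [1, 0, 1], [1, 0], [0, 1, 0, 1, 0,
    1, 0, 1, 0, 1, 0], [0, 1, 1, 1, 0, 1, 1, 0, 1, 0, 1], [0, 1, 0, 1], [0, 1, 0], [1, 0, 1, 0, 1, 0, 1,
    0, 1, 0], [1, 1, 1, 0, 1, 1, 0, 1, 0, 1], [1, 1, 0, 1, 1, 1, 0, 1], [1, 1, 0, 1, 0], [0, 1, 0, 1, 0,
    1, 0, 1, 0], [1, 0, 1, 1, 0, 1, 0, 1], [1, 0, 1, 0, 1, 0, 1, 0], [0, 1, 0, 1, 1, 0, 1, 0, 1], [1, 1,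
    0, 1, 1, 0, 1, 0, 1], [0, 1, 1, 0, 1, 0]]

/-- the representative of a coset -/
def rep (c : ℕ) : ℕ := repL.getD c 0

/-- its orbit -/
def orb (c : ℕ) : ℕ := orbL.getD c 0

/-- the eight states -/
def eight (c : ℕ) : ℕ := eightL.getD c 0

/-- the map of a word -/
def gmW : List ℕ → ℕ → ℕ
  | [], s => s
  | g :: l, s => gm g (gmW l s)

/-- one sweep of the translations in a coset -/
def tSweep (c m : ℕ) : ℕ :=
  (List.range 32).foldr (fun e v => bif m.testBit e then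
    (List.range 4).foldr (fun k u => u ||| (1 <<< (tk k (32 * c + e) &&& 31))) v else v) m

/-- one sweep of all maps on the lifts of the subspace -/
def lowSweep (m : ℕ) : ℕ :=
  (List.range 32).foldr (fun e v => bif m.testBit e then
    [gm 0 e, gm 1 e, tk 0 e, tk 1 e, tk 2 e, tk 3 e].foldr (fun t u => u ||| (1 <<< t)) v else v) m

/-- iterate -/
def iterN (f : ℕ → ℕ) : ℕ → ℕ → ℕ
  | 0, m => m
  | k + 1, m => f (iterN f k m)

theorem low_reach : iterN lowSweep 9 12 = 4294967292 := by decide +kernel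

theorem orb_reach : (List.range 64).all (fun c => Nat.beq c 0 ||
    (Nat.beq (rep c >>> 5) c && decide (rep c < 2048) &&
      Nat.beq (iterN (tSweep c) 4 (1 <<< (rep c &&& 31))) (orb c))) = true := by decide +kernel

theorem kinds : decL.all (fun c => decide (c < 64) && !(Nat.beq c 0)) = true ∧
    nsL.all (fun c => decide (c < 64) && !(Nat.beq c 0)) = true ∧
    (List.range 64).all (fun c => Nat.beq c 0 || decL.contains c || nsL.contains c) = true ∧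
    decL.Nodup ∧ nsL.Nodup ∧ decL.length = 35 ∧ nsL.length = 28 ∧ decL.all (fun c => !(nsL.contains c)) = true := by
  decide +kernel

theorem gm_rep : ∀ g < 2, ∀ c < 64, c ≠ 0 →
    gm g (rep c) >>> 5 = gr g c ∧ gr g c ≠ 0 ∧
      ((orb (gr g c)).testBit (gm g (rep c) &&& 31) ||
        (orb (gr g c)).testBit ((gm g (rep c) &&& 31) ^^^ 1)) = true := by decide +kernel

theorem from_spec : (∀ c ∈ decL, grW (fromL.getD c []) 1 = c ∧ ∀ g ∈ fromL.getD c [], g < 2) ∧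
    (∀ c ∈ nsL, grW (fromL.getD c []) 12 = c ∧ ∀ g ∈ fromL.getD c [], g < 2) := by decide +kernel

theorem ns_cover : ∀ c ∈ nsL, ∀ e < 32, ((orb c).testBit e || (orb c).testBit (e ^^^ 1)) = true := by
  decide +kernel

theorem dec_cover : ∀ c ∈ decL, ∀ e < 32,
    (eight c).testBit e = ((orb c).testBit e || (orb c).testBit (e ^^^ 1)) := by decide +kernel

theorem orb_count : (∀ c ∈ decL, ∀ a b : Bool, ((List.range 32).filter fun e =>
      (a && (orb c).testBit e) || (b && (orb c).testBit (e ^^^ 1))).length =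
        4 * ((bif a then 1 else 0) + bif b then 1 else 0)) ∧
    (∀ c ∈ nsL, ∀ a b : Bool, ((List.range 32).filter fun e =>
      (a && (orb c).testBit e) || (b && (orb c).testBit (e ^^^ 1))).length =
        16 * ((bif a then 1 else 0) + bif b then 1 else 0)) := by decide +kernel

theorem orb_flip : ∀ c < 64, c ≠ 0 → ∀ e < 32,
    (orb c).testBit e = true → (orb c).testBit (e ^^^ 1) = false := by decide +kernel

theorem to1_spec : ∀ c ∈ decL, (∀ g ∈ to1L.getD c [], g < 2) ∧ ∀ e < 32, (eight c).testBit e = false →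
    gmW (to1L.getD c []) (32 * c + e) >>> 5 = 1 ∧
      (eight 1).testBit (gmW (to1L.getD c []) (32 * c + e) &&& 31) = false := by decide +kernel

theorem eight_one : ∀ e < 32, (eight 1).testBit e = decide (e < 8) := by decide +kernel

end Cfsg.Agent.Lib.Co1Golay43
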