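import Cfsg.Agent.Lib.Co1Golay43.Swap
import Cfsg.Agent.Lib.Co1Golay43.OrbitData
import Cfsg.Agent.Lib.Co1Type31.CentB

/-!
# Conway type: states of the first line outside the class of `z`

Owner: helper43.
-/

set_option autoImplicit false
set_option maxRecDepth 100000

namespace Cfsg.Agent.Lib.Co1Golay43

open Cfsg.Agent.Lib.Co1Type31

variable {G : Type*} [Group G] [Finite G] {z : G} {Q : Subgroup G} {co : G → ℕ} {ac : G → ℕ → ℕ}
variable {x n m : G}

/-- The product with parameters `4` and a singular vector outside the line is not conjugate to `z`. -/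
theorem form_not_conj (d : Duo z Q co ac x n) {t : G} {v : ℕ} (ht : Form Q co ac n z t 4 v) (ht2 : t * t = 1)
    (hv : v ∈ w6) (hv0 : v ≠ 0) (hv4 : v ≠ 4) (hq : qn v = false) (hb : bn v 4 = false) : ¬ IsConj z t := by
  intro hzt
  obtain ⟨p, hp, e⟩ := fix4_cover v hv hv0 hv4 hq hb
  obtain ⟨hp6, hp4⟩ := fix4_spec p hp
  obtain ⟨c, hc, hcx, hck⟩ := d.exists_prE hp6
  have hF := d.form_conj hp6 (show (4 : ℕ) ∈ w6 by decide +kernel) hc hcx hck ht
  rw [hp4, e] at hF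
  have hb2 : c * t * c⁻¹ * (c * t * c⁻¹) = 1 := by
    rw [show c * t * c⁻¹ * (c * t * c⁻¹) = c * (t * t) * c⁻¹ by group, ht2]; group
  obtain ⟨k, hk⟩ := isConj_iff.1 (hzt.trans (isConj_iff.2 ⟨c, rfl⟩))
  have hle : ∀ S : Subgroup G, IsPGroup 2 S → (∀ s ∈ S, Commute s (c * t * c⁻¹)) → Nat.card S < 2 ^ 21 :=
    fun S hS hSb => (d.sylB_top hF hb2 hS hSb).trans_lt (d.sylB_card_lt hF)
  obtain ⟨S, hS, hSa, hcard, -⟩ := Duo.map_sub (G := G) d.fr.sylU_isPGroup (fun s hs => hs.1) hk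
  have := hle S hS hSa
  rw [hcard, d.fr.sylU_card] at this
  exact lt_irrefl _ this

variable {C : Cfg z Q co ac x n m} (B : Base C)

set_option synthInstance.maxSize 4000 in
set_option synthInstance.maxHeartbeats 200000 in
/-- The twenty-four. -/
theorem Base.first_not_conj {e : ℕ} (he : e < 32) (he8 : 8 ≤ e) : ¬ IsConj z (B.el (32 + e)) := by
  have d := C.duo
  obtain ⟨u, hu, hua⟩ := d.lift 4 (by decide +kernel)
  obtain ⟨huA, hua1⟩ := inB_AG C (a := 4) (by simp) base_lines.1 hu hua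
  have hact := B.el_act 32 (by norm_num)
  rw [show (32 : ℕ) >>> 5 = 1 from rfl] at hact
  set r0 := u⁻¹ * B.el 32 with hr0
  have hr0E : r0 ∈ EG d.fr := actA_quot d.fr huA (B.el_mem 32) hua1 hact
  have hperp : ∀ k, k < 4 → (k = 2 ∨ k = 3) → bn (dB.getD k 0) (co r0) = false := by
    intro k hk hk'
    obtain ⟨q, hq, hqc⟩ := d.fr.co_surj (dB.getD k 0) (by rcases hk' with rfl | rfl <;> decide)
    have e1 := B.tk_conj hk hq hqc 32 (by norm_num)
    rw [show tk k 32 = 32 by rcases hk' with rfl | rfl <;> decide +kernel] at e1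
    have hqA : InA Q co q := ⟨hq, by rw [hqc]; rcases hk' with rfl | rfl <;> rfl⟩
    have hcu : Commute q u := by
      have e2 := d.com_act 4 (by decide +kernel) u q hu hua hqA
      rw [show bn 4 (co q) = false by rw [hqc]; rcases hk' with rfl | rfl <;> decide +kernel, d.ee_zero] at e2
      exact mul_inv_eq_iff_eq_mul.1 (mul_inv_eq_one.1 e2)
    rw [← hqc]
    exact (d.fr.commute_Q hq hr0E.1).1 (hcu.inv_right.mul_right (mul_inv_eq_iff_eq_mul.1 e1))
  have key : ∀ k < 256, inW k = true → bn 32 k = false → bn 128 k = false → ∀ e < 32, 8 ≤ e →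
      (k ^^^ wcode e) &&& 252 ∈ w6 ∧ (k ^^^ wcode e) &&& 252 ≠ 0 ∧ (k ^^^ wcode e) &&& 252 ≠ 4 ∧
      qn ((k ^^^ wcode e) &&& 252) = false ∧ bn ((k ^^^ wcode e) &&& 252) 4 = false ∧ b1 (k ^^^ wcode e) = false := by
    decide +kernel
  obtain ⟨hv, hv0, hv4, hq, hb, hb1⟩ := key _ (d.fr.co_lt _ hr0E.1) hr0E.2 (hperp 2 (by norm_num) (Or.inl rfl))
    (hperp 3 (by norm_num) (Or.inr rfl)) e he he8
  obtain ⟨l1, l2⟩ := B.el_low e he
  have hsplit : B.el (32 + e) = u * (r0 * B.el e) := by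
    rw [show 32 + e = 32 ^^^ e from (show ∀ e < 32, 32 + e = 32 ^^^ e by decide +kernel) e he, B.el_xor, hr0]
    group
  have hco : co (r0 * B.el e) = co r0 ^^^ wcode e := by rw [d.fr.co_mul _ hr0E.1 _ l1, l2]
  have hF : Form Q co ac n z (B.el (32 + e)) 4 ((co r0 ^^^ wcode e) &&& 252) :=
    ⟨u, r0 * B.el e, hu, hua, ⟨mul_mem hr0E.1 l1, by rw [hco]; exact hb1⟩, by rw [hco], hsplit⟩
  exact form_not_conj d hF (AG_sq C (B.el_mem _)) hv hv0 hv4 hq hb

end Cfsg.Agent.Lib.Co1Golay43
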