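import Cfsg.Agent.Lib.Co1Golay43.NotConj
import Cfsg.Agent.Lib.FischerLarge43.Generic

/-!
# Conway type: the orbit of `z` under the normaliser has 759 elements

It is a union of orbits of the translations, as many in every coset of a kind; it avoids the states of
lines outside the class of `z`; so its size is one of nine numbers, and only 759 divides the order of
an automorphism group of `A` and allows an element outside `Q`.

Owner: helper43.
-/

set_option autoImplicit false
set_option maxRecDepth 100000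
set_option linter.unusedSectionVars false

namespace Cfsg.Agent.Lib.Co1Golay43

open Cfsg.Agent.Lib.Co1Type31
open Cfsg.Agent.Lib.FischerLarge43 (conjAut conjAut_apply not_prime_dvd)

variable {G : Type*} [Group G] [Finite G] {z : G} {Q : Subgroup G} {co : G → ℕ} {ac : G → ℕ → ℕ}
variable {x n m : G} {C : Cfg z Q co ac x n m} (B : Base C)

/-- The orbit of `z` under the normaliser of `A`. -/
def InO (h : Frame z Q co ac) (a : G) : Prop := ∃ g ∈ Subgroup.normalizer (AG h : Set G), g * z * g⁻¹ = a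

theorem InO.conj {h : Frame z Q co ac} {a g : G} (ha : InO h a) (hg : g ∈ Subgroup.normalizer (AG h : Set G)) :
    InO h (g * a * g⁻¹) := by
  obtain ⟨k, hk, rfl⟩ := ha
  exact ⟨g * k, mul_mem hg hk, by group⟩

theorem InO.isConj {h : Frame z Q co ac} {a : G} (ha : InO h a) : IsConj z a := by
  obtain ⟨k, -, rfl⟩ := ha
  exact isConj_iff.2 ⟨k, rfl⟩

theorem InO.iff_conj {h : Frame z Q co ac} {a g : G} (hg : g ∈ Subgroup.normalizer (AG h : Set G)) :
    InO h (g * a * g⁻¹) ↔ InO h a :=
  ⟨fun ha => by simpa [mul_assoc] using ha.conj (inv_mem hg), fun ha => ha.conj hg⟩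

theorem mem_norm {g : G} (h : Frame z Q co ac) (hg : ∀ a ∈ AG h, g * a * g⁻¹ ∈ AG h) :
    g ∈ Subgroup.normalizer (AG h : Set G) := by
  refine Subgroup.mem_normalizer_iff.2 fun a => ⟨hg a, fun ha => ?_⟩
  have hinj : Function.Injective fun b : AG h => (⟨g * b * g⁻¹, hg b b.2⟩ : AG h) := fun u v e =>
    Subtype.ext (by simpa using congrArg Subtype.val e)
  obtain ⟨b, e⟩ := (Finite.injective_iff_surjective.1 hinj) ⟨_, ha⟩
  have : (b : G) = a := by simpa using congrArg Subtype.val e
  exact this ▸ b.2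

theorem testBit_fold {α : Type*} (f : α → ℕ) (l : List α) (v s : ℕ)
    (h : (l.foldr (fun t u => u ||| (1 <<< f t)) v).testBit s = true) : v.testBit s = true ∨ ∃ t ∈ l, s = f t := by
  induction l with
  | nil => exact Or.inl h
  | cons a l ih =>
    rw [List.foldr_cons, Nat.testBit_or, Bool.or_eq_true, Nat.one_shiftLeft, Nat.testBit_two_pow,
      decide_eq_true_eq] at h
    rcases h with h | h
    · rcases ih h with h | ⟨t, ht, e⟩
      exacts [Or.inl h, Or.inr ⟨t, List.mem_cons_of_mem _ ht, e⟩]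
    · exact Or.inr ⟨a, List.mem_cons_self .., h.symm⟩

namespace Base

/-- The states in the orbit. -/
def O (s : ℕ) : Prop := InO C.duo.fr (B.el s)

theorem O_tk {k : ℕ} (hk : k < 4) {s : ℕ} (hs : s < 2048) : B.O (tk k s) ↔ B.O s := by
  obtain ⟨q, hq, hqc⟩ := C.duo.fr.co_surj (dB.getD k 0) (by interval_cases k <;> decide)
  show InO C.duo.fr (B.el (tk k s)) ↔ InO C.duo.fr (B.el s)
  rw [← B.tk_conj hk hq hqc s hs]
  exact InO.iff_conj (mem_norm _ fun a ha => Pre.Q_conj (C := C) hq ha)

theorem O_gm {g : ℕ} (hg : g < 2) : ∃ μ : ℕ → Bool, (∀ s < 32, μ s = false) ∧ (∀ s, μ (s ^^^ 1) = μ s) ∧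
    ∀ s < 2048, (B.O (gm g s ^^^ bif μ s then 1 else 0) ↔ B.O s) := by
  obtain ⟨c, -, hcA, μ, hadd, hμ, hc⟩ := B.exists_gm hg
  refine ⟨μ, hμ, fun s => by rw [hadd, hμ 1 (by norm_num), Bool.xor_false], fun s hs => ?_⟩
  show InO C.duo.fr _ ↔ InO C.duo.fr (B.el s)
  rw [← hc s hs]
  exact InO.iff_conj (mem_norm _ hcA)

theorem O_one : B.O 1 := ⟨1, one_mem _, by rw [B.el_one]; group⟩

theorem not_O_zero : ¬ B.O 0 := by
  rintro ⟨g, -, e⟩
  rw [B.el_zero] at e
  exact C.duo.fr.es.ne (conj_eq_one_iff.1 e)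

theorem O_low_aux {M : ℕ → Prop} (h12 : ∀ s, (12 : ℕ).testBit s = true → M s)
    (hstep : ∀ s, s < 32 → M s → ∀ t ∈ [gm 0 s, gm 1 s, tk 0 s, tk 1 s, tk 2 s, tk 3 s], M t) :
    ∀ k s, (iterN lowSweep k 12).testBit s = true → M s := by
  intro k
  induction k with
  | zero => exact h12
  | succ k ih =>
    intro s hs
    rw [iterN, lowSweep] at hs
    have hl : ∀ j ∈ List.range 32, j < 32 := fun j hj => List.mem_range.1 hj
    generalize List.range 32 = l at hs hl
    induction l generalizing s with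
    | nil => exact ih s hs
    | cons e l ihl =>
      have hl' := fun j hj => hl j (List.mem_cons_of_mem _ hj)
      rw [List.foldr_cons] at hs
      cases he : (iterN lowSweep k 12).testBit e
      · rw [he] at hs; exact ihl s hs hl'
      · rw [he, cond_true] at hs
        have hM := hstep e (hl e (List.mem_cons_self ..)) (ih e he)
        rcases testBit_fold id _ _ _ hs with hs | ⟨u, hu, e'⟩
        exacts [ihl s hs hl', e' ▸ hM u hu]

theorem O_low : ∀ s < 32, 2 ≤ s → B.O s := by
  intro s hs hs2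
  obtain ⟨g, hg, hgz, -⟩ := exists_move C
  have hxA : x ∈ AG C.duo.fr := EG_le_AG C.duo.fr ⟨C.duo.xQ, by rw [C.duo.cox]; rfl⟩
  obtain ⟨s0, hs0, e0⟩ := B.el_surj hxA
  have hOs0 : B.O s0 := ⟨g, hg, by rw [e0]; exact hgz⟩
  have hs23 : s0 = 2 ∨ s0 = 3 := by
    have key : ∀ t < 32, wcode t = 1 → t = 2 ∨ t = 3 := by decide +kernel
    obtain ⟨h1, h2⟩ := B.el_low 2 (by norm_num)
    rcases C.duo.fr.co_eq h1 C.duo.xQ (h2.trans (by rw [C.duo.cox]; rfl)) with e | e
    · exact Or.inl (B.el_inj hs0 (by norm_num) (e0.trans e))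
    · refine Or.inr (B.el_inj hs0 (by norm_num) (e0.trans ?_))
      rw [show (3 : ℕ) = 2 ^^^ 1 from rfl, B.el_xor, B.el_one, ← e]
  have h23 : B.O 2 ∧ B.O 3 := by
    have h := B.O_tk (k := 0) (by norm_num) (s := 2) (by norm_num)
    rw [show tk 0 2 = 3 by decide +kernel] at h
    rcases hs23 with rfl | rfl
    exacts [⟨hOs0, h.2 hOs0⟩, ⟨h.1 hOs0, hOs0⟩]
  refine O_low_aux (M := B.O) ?_ ?_ 9 s ?_
  · intro t ht
    have : ∀ t < 4, (12 : ℕ).testBit t = true → t = 2 ∨ t = 3 := by decide
    rcases lt_or_ge t 4 with h | h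
    · rcases this t h ht with rfl | rfl
      exacts [h23.1, h23.2]
    · rw [Nat.testBit_lt_two_pow (lt_of_lt_of_le (show (12 : ℕ) < 2 ^ 4 by norm_num)
        (Nat.pow_le_pow_right (show 0 < 2 by norm_num) h))] at ht
      exact absurd ht (by simp)
  · intro t ht hO u hu
    simp only [List.mem_cons, List.not_mem_nil, or_false] at hu
    have hG : ∀ g < 2, B.O (gm g t) := fun g hg => by
      obtain ⟨μ, hμ, -, h⟩ := B.O_gm hg
      have := (h t (by omega)).2 hO
      rwa [hμ t ht, cond_false, Nat.xor_zero] at this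
    have hT : ∀ k < 4, B.O (tk k t) := fun k hk => (B.O_tk hk (by omega)).2 hO
    rcases hu with rfl | rfl | rfl | rfl | rfl | rfl
    exacts [hG 0 (by norm_num), hG 1 (by norm_num), hT 0 (by norm_num), hT 1 (by norm_num),
      hT 2 (by norm_num), hT 3 (by norm_num)]
  · rw [low_reach]
    have key : ∀ t < 32, 2 ≤ t → (4294967292 : ℕ).testBit t = true := by decide +kernel
    exact key s hs hs2

/-- The states of lines outside the eight are outside the orbit. -/
theorem not_O_other {c e : ℕ} (hc : c ∈ decL) (he : e < 32) (h8 : (eight c).testBit e = false) :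
    ¬ B.O (32 * c + e) := by
  intro hO
  have hcl : c < 64 := by
    have := List.all_eq_true.1 kinds.1 c hc
    simp only [Bool.and_eq_true, decide_eq_true_eq] at this
    exact this.1
  obtain ⟨hl, hspec⟩ := to1_spec c hc
  obtain ⟨h1, h2⟩ := hspec e he h8
  have key : ∀ (l : List ℕ), (∀ g ∈ l, g < 2) → ∀ s < 2048, B.O s →
      gmW l s < 2048 ∧ (B.O (gmW l s) ∨ B.O (gmW l s ^^^ 1)) := by
    intro l
    induction l with
    | nil => exact fun _ s hs h => ⟨hs, Or.inl h⟩
    | cons g l ih =>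
      intro hl s hs h
      obtain ⟨hlt, h'⟩ := ih (fun g hg => hl g (List.mem_cons_of_mem _ hg)) s hs h
      have hg := hl g (List.mem_cons_self ..)
      refine ⟨gm_lt hg _ hlt, ?_⟩
      obtain ⟨μ, -, -, hμ⟩ := B.O_gm hg
      rcases h' with h' | h'
      · have := (hμ _ hlt).2 h'
        cases hb : μ (gmW l s) <;> rw [hb] at this
        · exact Or.inl (by simpa [gmW] using this)
        · exact Or.inr this
      · have hl1 : gmW l s ^^^ 1 < 2048 := Nat.xor_lt_two_pow (n := 11) hlt (by norm_num)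
        have := (hμ _ hl1).2 h'
        rw [gm_xor, (gm_low g hg 0 (by norm_num)).2.2] at this
        cases hb : μ (gmW l s ^^^ 1) <;> rw [hb] at this
        · exact Or.inr (by simpa [gmW] using this)
        · rw [cond_true, Nat.xor_assoc, Nat.xor_self, Nat.xor_zero] at this
          exact Or.inl this
  obtain ⟨hlt, hor⟩ := key _ hl _ (by omega) hO
  set t := gmW (to1L.getD c []) (32 * c + e)
  have ht : t = 32 + (t &&& 31) := by
    have := (show ∀ t < 2048, t >>> 5 = 1 → t = 32 + (t &&& 31) by decide +kernel)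
    exact this t hlt h1
  have h31 : t &&& 31 < 32 := Nat.lt_succ_of_le Nat.and_le_right
  have h8' : 8 ≤ t &&& 31 := by
    rw [eight_one _ h31] at h2
    simpa using h2
  rcases hor with h | h
  · rw [ht] at h
    exact B.first_not_conj h31 h8' h.isConj
  · have hx : t ^^^ 1 = 32 + ((t &&& 31) ^^^ 1) ∧ 8 ≤ (t &&& 31) ^^^ 1 ∧ (t &&& 31) ^^^ 1 < 32 := by
      have := (show ∀ u < 32, 8 ≤ u → (32 + u) ^^^ 1 = 32 + (u ^^^ 1) ∧ 8 ≤ u ^^^ 1 ∧ u ^^^ 1 < 32 by
        decide +kernel) _ h31 h8'
      exact ⟨by rw [ht, show (32 + (t &&& 31)) &&& 31 = t &&& 31 by rw [← ht]]; exact this.1, this.2⟩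
    rw [hx.1] at h
    exact B.first_not_conj hx.2.2 hx.2.1 h.isConj

/-- The orbit of a representative is constant. -/
theorem O_orb {c : ℕ} (hc : c < 64) (hc0 : c ≠ 0) {s : ℕ} (hs : s < 2) :
    ∀ e, (orb c).testBit e = true → e < 32 ∧ (B.O ((32 * c + e) ^^^ s) ↔ B.O (rep c ^^^ s)) := by
  have h := List.all_eq_true.1 orb_reach c (List.mem_range.2 hc)
  have hz : Nat.beq c 0 = false := by cases c <;> simp_all [Nat.beq]
  simp only [hz, Bool.false_or, Bool.and_eq_true, decide_eq_true_eq] at h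
  obtain ⟨⟨hr, hrlt⟩, hit⟩ := h
  rw [← Nat.eq_of_beq_eq_true hit]
  have hr' := Nat.eq_of_beq_eq_true hr
  have hsplit : ∀ t < 2048, 32 * (t >>> 5) + (t &&& 31) = t := by decide +kernel
  suffices hall : ∀ k e, (iterN (tSweep c) k (1 <<< (rep c &&& 31))).testBit e = true →
      e < 32 ∧ (B.O ((32 * c + e) ^^^ s) ↔ B.O (rep c ^^^ s)) from hall 4
  intro k
  induction k with
  | zero =>
    intro e he
    rw [iterN, Nat.one_shiftLeft, Nat.testBit_two_pow, decide_eq_true_eq] at he
    subst he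
    refine ⟨Nat.lt_succ_of_le Nat.and_le_right, ?_⟩
    have := hsplit _ hrlt
    rw [hr'] at this
    rw [this]
  | succ k ih =>
    intro e he
    rw [iterN, tSweep] at he
    have hl : ∀ j ∈ List.range 32, j < 32 := fun j hj => List.mem_range.1 hj
    generalize List.range 32 = l at he hl
    induction l generalizing e with
    | nil => exact ih e he
    | cons f l ihl =>
      have hl' := fun j hj => hl j (List.mem_cons_of_mem _ hj)
      rw [List.foldr_cons] at he
      cases hf : (iterN (tSweep c) k (1 <<< (rep c &&& 31))).testBit f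
      · rw [hf] at he; exact ihl e he hl'
      · rw [hf, cond_true] at he
        obtain ⟨hf32, hfO⟩ := ih f hf
        have hstep : ∀ k < 4, tk k (32 * c + f) &&& 31 < 32 ∧
            (B.O ((32 * c + (tk k (32 * c + f) &&& 31)) ^^^ s) ↔ B.O ((32 * c + f) ^^^ s)) := by
          intro k hk
          have hlt : 32 * c + f < 2048 := by omega
          have hsh : (32 * c + f) >>> 5 = c := by rw [Nat.shiftRight_eq_div_pow]; omega
          have htlt : ∀ t < 2048, tk k t < 2048 ∧ tk k t >>> 5 = t >>> 5 := by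
            refine ind11 (P := fun t => tk k t < 2048 ∧ tk k t >>> 5 = t >>> 5) ?_ fun t _ j hj h => ?_
            · rw [show tk k 0 = 0 from by have := tk_xor k 0 0; simpa using this]; exact ⟨by norm_num, rfl⟩
            · obtain ⟨b1, b2⟩ := tk_bits k hk j hj
              rw [tk_xor, Nat.shiftRight_xor_distrib, h.2, b2, Nat.shiftRight_xor_distrib]
              exact ⟨Nat.xor_lt_two_pow (n := 11) h.1 b1, rfl⟩
          obtain ⟨t1, t2⟩ := htlt _ hlt
          have h2 := hsplit _ t1
          rw [t2, hsh] at h2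
          refine ⟨Nat.lt_succ_of_le Nat.and_le_right, ?_⟩
          rw [h2]
          have hts : tk k ((32 * c + f) ^^^ s) = tk k (32 * c + f) ^^^ s := by
            rw [tk_xor]
            congr 1
            interval_cases s
            · have := tk_xor k 0 0; simpa using this
            · interval_cases k <;> decide +kernel
          rw [← hts]
          exact B.O_tk hk (Nat.xor_lt_two_pow (n := 11) hlt (by omega))
        rcases testBit_fold (fun k => tk k (32 * c + f) &&& 31) _ _ _ he with he | ⟨t, ht, rfl⟩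
        · exact ihl e he hl'
        · obtain ⟨a, b⟩ := hstep t (List.mem_range.1 ht)
          exact ⟨a, b.trans hfO⟩

open Classical in
/-- The number of orbits of the coset in the orbit of `z`. -/
noncomputable def num (c : ℕ) : ℕ := (if B.O (rep c) then 1 else 0) + (if B.O (rep c ^^^ 1) then 1 else 0)

theorem num_gr {g c : ℕ} (hg : g < 2) (hc : c < 64) (hc0 : c ≠ 0) : B.num (gr g c) = B.num c := by
  classical
  obtain ⟨h1, h2, h3⟩ := gm_rep g hg c hc hc0
  obtain ⟨μ, -, hμ1, hμ⟩ := B.O_gm hg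
  have hrep : rep c < 2048 := by
    have key : ∀ c < 64, rep c < 2048 := by decide +kernel
    exact key c hc
  have hgr := gr_lt hg hc
  have hlt := gm_lt hg _ hrep
  have hsp : ∀ t < 2048, 32 * (t >>> 5) + (t &&& 31) = t ∧
      32 * (t >>> 5) + ((t &&& 31) ^^^ 1) = t ^^^ 1 := by decide +kernel
  obtain ⟨p1, p2⟩ := hsp _ hlt
  rw [h1] at p1 p2
  set c' := gr g c
  have e0 := hμ (rep c) hrep
  have e1 := hμ (rep c ^^^ 1) (Nat.xor_lt_two_pow (n := 11) hrep (by norm_num))
  rw [gm_xor, (gm_low g hg 0 (by norm_num)).2.2, hμ1] at e1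
  -- the two images
  have himg : (B.O (gm g (rep c)) ↔ B.O (rep c')) ∧ (B.O (gm g (rep c) ^^^ 1) ↔ B.O (rep c' ^^^ 1)) ∨
      (B.O (gm g (rep c)) ↔ B.O (rep c' ^^^ 1)) ∧ (B.O (gm g (rep c) ^^^ 1) ↔ B.O (rep c')) := by
    rcases Bool.or_eq_true_iff.1 h3 with h | h
    · refine Or.inl ⟨?_, ?_⟩
      · have := (B.O_orb hgr h2 (s := 0) (by norm_num) _ h).2
        simpa only [p1, Nat.xor_zero] using this
      · have := (B.O_orb hgr h2 (s := 1) (by norm_num) _ h).2
        simpa only [p1] using this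
    · refine Or.inr ⟨?_, ?_⟩
      · have := (B.O_orb hgr h2 (s := 1) (by norm_num) _ h).2
        rwa [p2, Nat.xor_assoc, Nat.xor_self, Nat.xor_zero] at this
      · have := (B.O_orb hgr h2 (s := 0) (by norm_num) _ h).2
        simpa only [p2, Nat.xor_zero] using this
  -- the images as a pair
  obtain ⟨hA, hB⟩ : (B.O (rep c) ↔ B.O (gm g (rep c) ^^^ bif μ (rep c) then 1 else 0)) ∧
      (B.O (rep c ^^^ 1) ↔ B.O (gm g (rep c) ^^^ bif μ (rep c) then 0 else 1)) := by
    refine ⟨e0.symm, e1.symm.trans ?_⟩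
    cases μ (rep c)
    · simp only [cond_false, Nat.xor_zero]
    · simp only [cond_true, Nat.xor_zero, Nat.xor_assoc, Nat.xor_self]
  have hsame : ∀ (p q r t : Prop) [Decidable p] [Decidable q] [Decidable r] [Decidable t],
      (p ↔ r) → (q ↔ t) → (if p then 1 else 0) + (if q then 1 else 0) =
        ((if r then 1 else 0) + if t then 1 else 0 : ℕ) := by
    intro p q r t _ _ _ _ h1 h2
    rw [if_congr h1 rfl rfl, if_congr h2 rfl rfl]
  unfold num
  cases hm0 : μ (rep c) <;> rw [hm0] at hA hB <;> simp only [cond_true, cond_false, Nat.xor_zero] at hA hB <;>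
    rcases himg with ⟨i1, i2⟩ | ⟨i1, i2⟩
  · exact (hsame _ _ _ _ (hA.trans i1) (hB.trans i2)).symm
  · rw [add_comm]; exact (hsame _ _ _ _ (hA.trans i1) (hB.trans i2)).symm
  · rw [add_comm]; exact (hsame _ _ _ _ (hA.trans i2) (hB.trans i1)).symm
  · exact (hsame _ _ _ _ (hA.trans i2) (hB.trans i1)).symm

end Base

end Cfsg.Agent.Lib.Co1Golay43
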