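import Cfsg.Agent.Lib.Co1Type31.Rho

/-!
# Conway type: the sign of the middle element

A middle element for the line of `4, 16` centralizes the lift of exactly one of `64` and `128`.
This follows by conjugating the commutator of two middle elements by a lift of `8`.

Owner: helper43.
-/

set_option autoImplicit false
set_option maxRecDepth 100000

namespace Cfsg.Agent.Lib.Co1Golay43

open Cfsg.Agent.Lib.Co1Type31

variable {G : Type*} [Group G] {z : G} {Q : Subgroup G} {co : G → ℕ} {ac : G → ℕ → ℕ} {x n : G}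

/-- `m` moves the lifts of `a` by the factor `w`. -/
def Mv (Q : Subgroup G) (ac : G → ℕ → ℕ) (n z m : G) (a : ℕ) (w : G) : Prop :=
  ∀ u, InB Q n z u → Act ac u a → m * u * m⁻¹ = u * w

/-- A power of `z`. -/
abbrev zp (z x : G) (b : Bool) : G := ee z x false b

/-- An element of `C(z, x)` with a given action. -/
structure Mover (z x : G) (ac : G → ℕ → ℕ) (c : G) (σ : ℕ → ℕ) : Prop where
  cz : Commute c z
  cx : Commute c x
  lin : Lin8 σ
  act : ∀ k < 256, ac c k = σ k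

theorem pairs_ok : ((12 : ℕ), (48 : ℕ)) ∈ pairs6 ∧ ((140 : ℕ), (200 : ℕ)) ∈ pairs6 ∧
    ((76 : ℕ), (200 : ℕ)) ∈ pairs6 := by decide +kernel

/-- the words mapping the line of `4, 16` to that of `32, 64`, and to that of `32, 128` -/
def kw (t : ℕ) : List (ℕ × ℕ) := [(12, 48), (bif Nat.beq t 64 then 140 else 76, 200)]

/-- the checks on the two words -/
theorem kw_spec : ∀ p ∈ [((64 : ℕ), (132 : ℕ)), (128, 68)],
    okWord (kw p.1) = true ∧ prs (kw p.1) p.2 = 4 ∧ p.2 ∈ Co1Type31.lp ∧ bn 64 p.2 = bn 64 (192 ^^^ p.1) ∧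
    bn 128 p.2 = bn 128 (192 ^^^ p.1) ∧
    agree (fun k => prs (kw p.1) (sg 4 16 k)) (fun k => sg 32 p.1 (prs (kw p.1) k)) = true ∧
    agree (fun k => prs (kw p.1) (eich p.2 k)) (fun k => eich 4 (prs (kw p.1) k)) = true ∧
    agree (fun k => sg 32 p.1 (eich 32 k)) (fun k => eich 32 (sg 32 p.1 k)) = true ∧
    agree (fun k => sg 32 p.1 (sg 4 16 k)) (fun k => sg 4 (16 ^^^ p.1) (sg 32 p.1 k)) = true := by
  decide +kernel

theorem sg_eich_check : ([64, 128].all fun t => [(4, 4), (16 ^^^ t, 16), 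
    (192 ^^^ t, 224 ^^^ t)].all fun e =>
      [e.1, e.2].all (fun a => w6.contains a) &&
        agree (fun k => sg 32 t (eich e.1 k)) (fun k => eich e.2 (sg 32 t k))) = true := by decide +kernel

theorem misc_check : agree (fun k => sg 4 16 (eich 32 k)) (fun k => eich 36 (sg 4 16 k)) = true ∧
    agree (fun k => sg 4 80 (eich 8 k)) (fun k => eich 88 (sg 4 80 k)) = true ∧
    agree (fun k => sg 4 144 (eich 8 k)) (fun k => eich 152 (sg 4 144 k)) = true ∧
    agree (fun k => sg 4 80 (sg 4 144 k)) (fun k => sg 4 144 (sg 4 80 k)) = true := by decide +kernel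

theorem mem_small : ∀ a ∈ [4, 8, 16, 32, 36, 64, 80, 88, 96, 128, 144, 152, 160, 176], a ∈ w6 := by
  decide +kernel

variable (d : Duo z Q co ac x n)
include d

theorem mv_of {m : G} (hm : Commute m z) (hmx : Commute m x) {a : ℕ} (ha : a ∈ w6) {u w : G}
    (hu : InB Q n z u) (hua : Act ac u a) (hwx : Commute w x) (hwz : Commute w z)
    (h : m * u * m⁻¹ = u * w) : Mv Q ac n z m a w := by
  intro v hv hva
  obtain ⟨i, j, rfl⟩ := d.act_eq ha hu hv hua hva
  calc m * (u * ee z x i j) * m⁻¹ = (m * u * m⁻¹) * (m * ee z x i j * m⁻¹) := by group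
    _ = u * w * ee z x i j := by rw [h, d.central_conj hmx hm]
    _ = _ := by rw [mul_assoc, (d.ee_comm hwx hwz i j).eq, ← mul_assoc]

theorem zp_comm {g : G} (hx : Commute g x) (hz : Commute g z) (b : Bool) : Commute g (zp z x b) :=
  d.ee_comm hx hz false b

theorem mv_mul {m : G} (hm : Commute m z) (hmx : Commute m x) {a b c : ℕ} (ha : a ∈ w6) (hb : b ∈ w6)
    (hc : a ^^^ b = c) {w w' : G} (h1 : Mv Q ac n z m a w) (h2 : Mv Q ac n z m b w')
    (hwx : Commute w x) (hwz : Commute w z) (hwx' : Commute w' x) (hwz' : Commute w' z)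
    (hw : ∀ v, InB Q n z v → Act ac v b → Commute w v) : Mv Q ac n z m c (w * w') := by
  subst hc
  obtain ⟨u, hu, hua⟩ := d.lift a ha
  obtain ⟨v, hv, hvb⟩ := d.lift b hb
  obtain ⟨h3, h4⟩ := d.act_mul hu hv ha hb hua hvb
  refine mv_of d hm hmx (w6_xor ha hb) h3 h4 (hwx.mul_left hwx') (hwz.mul_left hwz') ?_
  calc m * (u * v) * m⁻¹ = (m * u * m⁻¹) * (m * v * m⁻¹) := by group
    _ = u * (w * v) * w' := by rw [h1 u hu hua, h2 v hv hvb]; group
    _ = _ := by rw [(hw v hv hvb).eq]; group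

theorem mover_conj {c g : G} {σ f f' : ℕ → ℕ} (hc : Mover z x ac c σ) (hg : Commute g z)
    (hgk : ∀ k < 256, ac g k = f k) (hf : Lin8 f) (hf' : Lin8 f')
    (h : agree (fun k => σ (f k)) (fun k => f' (σ k)) = true) :
    ∀ k < 256, ac (c * g * c⁻¹) k = f' k := by
  intro k hk
  have hk' := d.fr.ac_lt hc.cz.inv_left hk
  rw [d.fr.ac_conj hg hc.cz hk, hgk _ hk', hc.act _ (hf.lt _ hk'),
    (hc.lin.comp hf).ext (hf'.comp hc.lin) h _ hk', ← hc.act _ hk', d.fr.ac_inv' hc.cz hk]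

theorem mover_lift {c : G} {σ : ℕ → ℕ} (hc : Mover z x ac c σ) {a b : ℕ} (ha : a ∈ w6) (hb : b ∈ w6)
    (h : agree (fun k => σ (eich a k)) (fun k => eich b (σ k)) = true) {u : G} (hu : InB Q n z u)
    (hua : Act ac u a) : InB Q n z (c * u * c⁻¹) ∧ Act ac (c * u * c⁻¹) b :=
  ⟨⟨d.P_conj hc.cx hu.1, (hc.cz.mul_left hu.2).mul_left hc.cz.inv_left⟩,
    mover_conj d hc hu.2 hua (eich_lin (lt_of_w6 ha)) (eich_lin (lt_of_w6 hb)) h⟩

theorem mv_conj {m c : G} {σ : ℕ → ℕ} (hm : Commute m z) (hmx : Commute m x) (hc : Mover z x ac c σ)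
    {a b : ℕ} (ha : a ∈ w6) (hb : b ∈ w6) (h : agree (fun k => σ (eich a k)) (fun k => eich b (σ k)) = true)
    {w : G} (hwx : Commute w x) (hwz : Commute w z) (hw : Mv Q ac n z m a w) :
    Mv Q ac n z (c * m * c⁻¹) b (c * w * c⁻¹) := by
  obtain ⟨u, hu, hua⟩ := d.lift a ha
  obtain ⟨h1, h2⟩ := mover_lift d hc ha hb h hu hua
  refine mv_of d ((hc.cz.mul_left hm).mul_left hc.cz.inv_left)
    ((hc.cx.mul_left hmx).mul_left hc.cx.inv_left) hb h1 h2
    ((hc.cx.mul_left hwx).mul_left hc.cx.inv_left) ((hc.cz.mul_left hwz).mul_left hc.cz.inv_left) ?_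
  calc c * m * c⁻¹ * (c * u * c⁻¹) * (c * m * c⁻¹)⁻¹ = c * (m * u * m⁻¹) * c⁻¹ := by group
    _ = _ := by rw [hw u hu hua]; group

theorem exists_mid : ∃ m, Mid Q co ac z m := by
  obtain ⟨m, -, hm, -⟩ := d.exists_mid_frame (p := 4) (ws := wd1) (q := 16) (by simp)
  exact ⟨m, hm⟩

theorem mv_sign {m : G} (hm : Mid Q co ac z m) :
    ∃ y ∈ lq, ∀ e ∈ Co1Type31.lp, Mv Q ac n z m e (zp z x (bn y e)) := by
  obtain ⟨y, hy, hs⟩ := d.mid_sign hm
  exact ⟨y, hy, fun e he u hu hua => hs e he u hu hua⟩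

theorem mover_prs {p q : ℕ × ℕ} (hp : p ∈ pairs6) (hq : q ∈ pairs6) :
    ∃ c, Mover z x ac c (prs [p, q]) := by
  obtain ⟨c, hc, hcx, hck⟩ := d.exists_prE hp
  obtain ⟨c', hc', hcx', hck'⟩ := d.exists_prE hq
  refine ⟨c * c', hc.mul_left hc', hcx.mul_left hcx', (pairs6_lin hp).comp ((pairs6_lin hq).comp Lin8.id'),
    fun k hk => ?_⟩
  rw [d.fr.ac_mul hc hc' hk, hck' k hk, hck _ (pr_spec hq hk).1]
  rfl

/-- The data of a middle element moved to the line of `4` and `16 + t`. -/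
theorem moved {m : G} (hm : Mid Q co ac z m) {y : ℕ} (hy : y ∈ lq)
    (hs : ∀ e ∈ Co1Type31.lp, Mv Q ac n z m e (zp z x (bn y e))) {w : G} (hw : InB Q n z w) (hwa : Act ac w 4)
    (h32 : Mv Q ac n z m 32 w) {t : ℕ} (ht : t = 64 ∨ t = 128) :
    ∃ g, Commute g z ∧ Commute g x ∧ g * g = 1 ∧ (∀ k < 256, ac g k = sg 4 (16 ^^^ t) k) ∧
      Mv Q ac n z g 4 (zp z x false) ∧
      Mv Q ac n z g (16 ^^^ (192 ^^^ t)) (w * zp z x (bn y t)) := by
  have hp : (t, bif Nat.beq t 64 then 132 else 68) ∈ [((64 : ℕ), (132 : ℕ)), (128, 68)] := by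
    rcases ht with rfl | rfl <;> decide
  obtain ⟨hok, -, he0, hb64, hb128, hag1, hag2, hag3, hag4⟩ := kw_spec _ hp
  set e0 := bif Nat.beq t 64 then 132 else 68 with he0def
  simp only at hok he0 hag1 hag2 hag3 hag4
  obtain ⟨p12, pa, pb⟩ := pairs_ok
  obtain ⟨k, hk⟩ : ∃ k, Mover z x ac k (prs (kw t)) := by
    rcases ht with rfl | rfl
    exacts [mover_prs d p12 pa, mover_prs d p12 pb]
  have htl : t < 256 := by rcases ht with rfl | rfl <;> decide
  have hmx := d.mid_x hm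
  have hsl := sg_lin (show 32 < 256 by norm_num) htl
  -- the mover for the line of `32, t`
  have hc : Mover z x ac (k * m * k⁻¹) (sg 32 t) :=
    ⟨(hk.cz.mul_left hm.comm).mul_left hk.cz.inv_left, (hk.cx.mul_left hmx).mul_left hk.cx.inv_left, hsl,
      mover_conj d hk hm.comm hm.act rho_lin hsl hag1⟩
  set c := k * m * k⁻¹
  have h4 := mem_small 4 (by simp)
  have hz1 : ∀ {g : G} (b : Bool), Commute g x → Commute g z → g * zp z x b * g⁻¹ = zp z x b :=
    fun b hx hz => d.central_conj hx hz false b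
  have hzc : ∀ b, Commute (zp z x b) x ∧ Commute (zp z x b) z := fun b =>
    ⟨(d.ee_comm (Commute.refl x) d.xz false b).symm, (d.ee_comm d.xz.symm (Commute.refl z) false b).symm⟩
  have hsigne : bn y e0 = bn y (192 ^^^ t) := by
    simp only [lq, List.mem_cons, List.not_mem_nil, or_false] at hy
    rcases hy with rfl | rfl | rfl | rfl
    · rcases ht with rfl | rfl <;> (rw [he0def]; rfl)
    · exact hb64
    · exact hb128
    · rcases ht with rfl | rfl <;> (rw [he0def]; decide +kernel)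
  -- `c` on a lift of `4`
  have hc4 : Mv Q ac n z c 4 (zp z x (bn y (192 ^^^ t))) := by
    have := mv_conj d hm.comm hmx hk (lp_spec e0 he0).1 h4 hag2 (hzc _).1 (hzc _).2 (hs e0 he0)
    rwa [hz1 _ hk.cx hk.cz, hsigne] at this
  have hcheck := List.all_eq_true.1 sg_eich_check t (by rcases ht with rfl | rfl <;> simp)
  simp only [List.all_cons, List.all_nil, Bool.and_true, Bool.and_eq_true, List.contains_iff_mem] at hcheck
  obtain ⟨⟨-, f4⟩, ⟨⟨m1, m2⟩, f16⟩, ⟨⟨m5, m6⟩, fd⟩⟩ := hcheck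
  set g := c * m * c⁻¹
  have hgz : Commute g z := (hc.cz.mul_left hm.comm).mul_left hc.cz.inv_left
  have hgx : Commute g x := (hc.cx.mul_left hmx).mul_left hc.cx.inv_left
  refine ⟨g, hgz, hgx, ?_, ?_, ?_, ?_⟩
  · show c * m * c⁻¹ * (c * m * c⁻¹) = 1
    rw [show c * m * c⁻¹ * (c * m * c⁻¹) = c * (m * m) * c⁻¹ by group, hm.sq]
    group
  · refine mover_conj d hc hm.comm hm.act rho_lin (sg_lin (by norm_num) ?_) hag4
    rcases ht with rfl | rfl <;> decide
  · have := mv_conj d hm.comm hmx hc h4 h4 f4 (hzc _).1 (hzc _).2 (hs 4 (by decide))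
    rw [hz1 _ hc.cx hc.cz] at this
    have e : bn y 4 = false := by
      have key : ∀ y ∈ lq, bn y 4 = false := by decide +kernel
      exact key y hy
    rwa [e] at this
  · -- the three parts
    have h32m : (32 : ℕ) ∈ w6 := mem_small 32 (by simp)
    have p16 : Mv Q ac n z g 16 (zp z x (bn y t)) := by
      have hmem : 16 ^^^ t ∈ Co1Type31.lp := by rcases ht with rfl | rfl <;> decide
      have := mv_conj d hm.comm hmx hc m1 m2 f16 (hzc _).1 (hzc _).2 (hs _ hmem)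
      have key : ∀ y ∈ lq, ∀ t ∈ [64, 128], bn y (16 ^^^ t) = bn y t := by decide +kernel
      rwa [hz1 _ hc.cx hc.cz, key y hy t (by rcases ht with rfl | rfl <;> simp)] at this
    have pd : Mv Q ac n z g (224 ^^^ t) (zp z x (bn y (192 ^^^ t))) := by
      have hmem : 192 ^^^ t ∈ Co1Type31.lp := by rcases ht with rfl | rfl <;> decide
      have := mv_conj d hm.comm hmx hc m5 m6 fd (hzc _).1 (hzc _).2 (hs _ hmem)
      rwa [hz1 _ hc.cx hc.cz] at this
    have p32 : Mv Q ac n z g 32 (w * zp z x (bn y (192 ^^^ t))) := by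
      have := mv_conj d hm.comm hmx hc h32m h32m hag3 (d.B_comm hw).1 (d.B_comm hw).2 h32
      rwa [hc4 w hw hwa] at this
    obtain ⟨a1, a2⟩ := hzc (bn y t)
    obtain ⟨b1', b2'⟩ := hzc (bn y (192 ^^^ t))
    have hcomm : ∀ {v : G} (b : Bool), InB Q n z v → Commute (zp z x b) v := fun b hv =>
      (d.ee_comm (d.B_comm hv).1 (d.B_comm hv).2 false b).symm
    have hsplit : 16 ^^^ (192 ^^^ t) = 16 ^^^ (224 ^^^ t) ^^^ 32 := by rcases ht with rfl | rfl <;> rfl
    have := mv_mul d hgz hgx (w6_xor (mem_small 16 (by simp)) m6) h32m hsplit.symm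
      (mv_mul d hgz hgx (mem_small 16 (by simp)) m6 rfl p16 pd a1 a2 b1' b2' fun v hv _ => hcomm _ hv)
      p32 (a1.mul_left b1') (a2.mul_left b2') ((d.B_comm hw).1.mul_left b1')
      ((d.B_comm hw).2.mul_left b2') fun v hv _ => (hcomm _ hv).mul_left (hcomm _ hv)
    have hval : zp z x (bn y t) * zp z x (bn y (192 ^^^ t)) * (w * zp z x (bn y (192 ^^^ t))) =
        w * zp z x (bn y t) := by
      have hcw := hcomm (bn y t) hw
      have hcw' := hcomm (bn y (192 ^^^ t)) hw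
      rw [show zp z x (bn y t) * zp z x (bn y (192 ^^^ t)) * (w * zp z x (bn y (192 ^^^ t))) =
        zp z x (bn y t) * (zp z x (bn y (192 ^^^ t)) * w) * zp z x (bn y (192 ^^^ t)) by group, hcw'.eq,
        show zp z x (bn y t) * (w * zp z x (bn y (192 ^^^ t))) * zp z x (bn y (192 ^^^ t)) =
          (zp z x (bn y t) * w) * (zp z x (bn y (192 ^^^ t)) * zp z x (bn y (192 ^^^ t))) by group,
        d.ee_sq, mul_one, hcw.eq]
    rwa [hval] at this

/-- The parity. -/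
theorem sign_sum {m : G} (hm : Mid Q co ac z m) {y : ℕ} (hy : y ∈ lq)
    (hs : ∀ e ∈ Co1Type31.lp, Mv Q ac n z m e (zp z x (bn y e))) : Bool.xor (bn y 64) (bn y 128) = true := by
  have h4 := mem_small 4 (by simp)
  have h8 := mem_small 8 (by simp)
  have h80 := mem_small 80 (by simp)
  have h144 := mem_small 144 (by simp)
  have hmx := d.mid_x hm
  obtain ⟨v, hv, hva⟩ := d.lift 32 (mem_small 32 (by simp))
  have hM : Mover z x ac m (sg 4 16) := ⟨hm.comm, hmx, rho_lin, hm.act⟩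
  obtain ⟨hv', hva'⟩ := mover_lift d hM (mem_small 32 (by simp)) (mem_small 36 (by simp)) misc_check.1 hv hva
  set w := v⁻¹ * (m * v * m⁻¹) with hwdef
  have hvi : InB Q n z v⁻¹ ∧ Act ac v⁻¹ 32 := by
    refine ⟨⟨d.P_inv hv.1, hv.2.inv_left⟩, fun k hk => ?_⟩
    have h := hva (eich 32 k) (eich_lt (mem_small 32 (by simp)) hk)
    rw [eich_self (mem_small 32 (by simp)) hk] at h
    have h' := d.fr.ac_inv hv.2 (eich_lt (mem_small 32 (by simp)) hk)
    rwa [h] at h'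
  obtain ⟨hw, hwa⟩ : InB Q n z w ∧ Act ac w 4 := by
    obtain ⟨h1, h2⟩ := d.act_mul hvi.1 hv' (mem_small 32 (by simp)) (mem_small 36 (by simp)) hvi.2 hva'
    exact ⟨h1, h2⟩
  have h32 : Mv Q ac n z m 32 w := mv_of d hm.comm hmx (mem_small 32 (by simp)) hv hva (d.B_comm hw).1
    (d.B_comm hw).2 (by rw [hwdef]; group)
  obtain ⟨g₁, g1z, g1x, g1s, g1a, g14, g1d⟩ := moved d hm hy hs hw hwa h32 (t := 64) (Or.inl rfl)
  obtain ⟨g₂, g2z, g2x, g2s, g2a, g24, g2d⟩ := moved d hm hy hs hw hwa h32 (t := 128) (Or.inr rfl)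
  change ∀ k < 256, ac g₁ k = sg 4 80 k at g1a
  change ∀ k < 256, ac g₂ k = sg 4 144 k at g2a
  change Mv Q ac n z g₁ 144 _ at g1d
  change Mv Q ac n z g₂ 80 _ at g2d
  obtain ⟨u, hu, hua⟩ := d.lift 8 h8
  have hww : w * w = 1 := by rw [d.sq_act 4 h4 w hw hwa]; rfl
  have hwc : ∀ {a : ℕ} {s : G}, a ∈ w6 → bn 4 a = false → InB Q n z s → Act ac s a → Commute w s := by
    intro a s ha hb hs1 hs2
    have e := d.com_BB h4 ha hw hs1 hwa hs2
    rw [hb] at e
    exact mul_inv_eq_iff_eq_mul.1 (mul_inv_eq_one.1 e)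
  -- conjugation by the lift of `8`
  have hp : ∀ {g : G} {a b : ℕ}, Commute g z → Commute g x → a ∈ w6 → b ∈ w6 → b ^^^ 8 = a →
      (∀ k < 256, ac g k = sg 4 a k) → Lin8 (sg 4 a) → g * g = 1 →
      agree (fun k => sg 4 a (eich 8 k)) (fun k => eich b (sg 4 a k)) = true →
      ∃ s, InB Q n z s ∧ Act ac s a ∧ u * g * u⁻¹ = g * s := by
    intro g a b gz gx ha hb hab gk hl gg hag
    obtain ⟨h1, h2⟩ := mover_lift d ⟨gz, gx, hl, gk⟩ h8 hb hag hu hua
    have hui : InB Q n z u⁻¹ ∧ Act ac u⁻¹ 8 := by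
      refine ⟨⟨d.P_inv hu.1, hu.2.inv_left⟩, fun k hk => ?_⟩
      have h := hua (eich 8 k) (eich_lt h8 hk)
      rw [eich_self h8 hk] at h
      have h' := d.fr.ac_inv hu.2 (eich_lt h8 hk)
      rwa [h] at h'
    obtain ⟨h3, h4⟩ := d.act_mul h1 hui.1 hb h8 h2 hui.2
    refine ⟨_, h3, hab ▸ h4, ?_⟩
    rw [show g * (g * u * g⁻¹ * u⁻¹) = (g * g) * u * g⁻¹ * u⁻¹ by group, gg,
      inv_eq_of_mul_eq_one_right gg, one_mul]
  obtain ⟨s₁, hs1, hs1a, hu1⟩ := hp g1z g1x h80 (mem_small 88 (by simp)) rfl g1a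
    (sg_lin (by norm_num) (by norm_num)) g1s misc_check.2.1
  obtain ⟨s₂, hs2, hs2a, hu2⟩ := hp g2z g2x h144 (mem_small 152 (by simp)) rfl g2a
    (sg_lin (by norm_num) (by norm_num)) g2s misc_check.2.2.1
  set g := g₁ * g₂ * g₁⁻¹ * g₂⁻¹ with hgdef
  have hgz : Commute g z := ((g1z.mul_left g2z).mul_left g1z.inv_left).mul_left g2z.inv_left
  have hgx : Commute g x := ((g1x.mul_left g2x).mul_left g1x.inv_left).mul_left g2x.inv_left
  have hgQ : g ∈ Q := d.fr.faithful g hgz fun k hk => by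
    have l1 := sg_lin (show 4 < 256 by norm_num) (show 80 < 256 by norm_num)
    have l2 := sg_lin (show 4 < 256 by norm_num) (show 144 < 256 by norm_num)
    have hk2 := d.fr.ac_lt g2z.inv_left hk
    have hk1 := d.fr.ac_lt g1z.inv_left hk2
    rw [show g = g₁ * (g₂ * (g₁⁻¹ * g₂⁻¹)) by rw [hgdef]; group,
      d.fr.ac_mul g1z (g2z.mul_left (g1z.inv_left.mul_left g2z.inv_left)) hk,
      d.fr.ac_mul g2z (g1z.inv_left.mul_left g2z.inv_left) hk, d.fr.ac_mul g1z.inv_left g2z.inv_left hk,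
      g2a _ hk1, g1a _ (l2.lt _ hk1), (l1.comp l2).ext (l2.comp l1) misc_check.2.2.2 _ hk1, ← g1a _ hk1,
      d.fr.ac_inv' g1z hk2, ← g2a _ hk2, d.fr.ac_inv' g2z hk]
  have hgA : InA Q co g := ⟨hgQ, (d.commute_x_iff hgQ).1 hgx⟩
  have hcom := d.com_act 8 h8 u g hu hua hgA
  generalize bn 8 (co g) = δ at hcom
  have hlhs : u * g * u⁻¹ = g * ee z x δ δ := by
    have hec := d.ee_comm hgx hgz δ δ
    have : u * g⁻¹ * u⁻¹ = g⁻¹ * ee z x δ δ := by
      rw [← hcom]; simp only [com]; group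
    calc u * g * u⁻¹ = (u * g⁻¹ * u⁻¹)⁻¹ := by group
      _ = (ee z x δ δ)⁻¹ * g := by rw [this]; group
      _ = g * ee z x δ δ := by rw [inv_eq_of_mul_eq_one_right (d.ee_sq δ δ), hec.eq]
  -- the expansion
  set β := w * zp z x (bn y 64) with hβ
  set α := w * zp z x (bn y 128) with hα
  have e12 : s₁ * s₂ * s₁⁻¹ = s₂ * x := by
    have e := d.com_BB h80 h144 hs1 hs2 hs1a hs2a
    rw [show bn 80 144 = true by decide +kernel] at e
    rw [mul_inv_eq_iff_eq_mul.1 (show com s₁ s₂ = x from e)]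
    exact ((d.B_comm hs2).1.eq).symm
  have hzw : ∀ b, Commute w (zp z x b) := fun b => zp_comm d (d.B_comm hw).1 (d.B_comm hw).2 b
  have hg2w : ∀ b, Commute g₂ (w * zp z x b) := fun b => by
    refine Commute.mul_right ?_ (zp_comm d g2x g2z b)
    have e := g24 w hw hwa
    rw [show zp z x false = 1 from d.ee_zero, mul_one] at e
    exact mul_inv_eq_iff_eq_mul.1 e
  have hg1w : ∀ b, Commute g₁ (w * zp z x b) := fun b => by
    refine Commute.mul_right ?_ (zp_comm d g1x g1z b)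
    have e := g14 w hw hwa
    rw [show zp z x false = 1 from d.ee_zero, mul_one] at e
    exact mul_inv_eq_iff_eq_mul.1 e
  have hs2w : ∀ b, Commute s₂ (w * zp z x b) := fun b =>
    (hwc h144 (by decide +kernel) hs2 hs2a).symm.mul_right (zp_comm d (d.B_comm hs2).1 (d.B_comm hs2).2 b)
  have hs1w : ∀ b, Commute s₁ (w * zp z x b) := fun b =>
    (hwc h80 (by decide +kernel) hs1 hs1a).symm.mul_right (zp_comm d (d.B_comm hs1).1 (d.B_comm hs1).2 b)
  have hαs : g₂⁻¹ * s₁ * g₂ = s₁ * α := by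
    have := g2d s₁ hs1 hs1a
    rwa [inv_eq_of_mul_eq_one_right g2s] at this ⊢
  have hβs : g₁ * s₂ * g₁⁻¹ = s₂ * β := g1d s₂ hs2 hs2a
  have hx2 : Commute x s₂ := (d.B_comm hs2).1.symm
  have hexp : g₁ * s₁ * (g₂ * s₂) * (g₁ * s₁)⁻¹ * (g₂ * s₂)⁻¹ = g * (β * x * α) := by
    have hX2 : Commute (β * x * α) s₂⁻¹ :=
      (((hs2w _).symm.mul_left hx2).mul_left (hs2w _).symm).inv_right
    have hX1 : Commute (β * x * α) g₂⁻¹ :=
      (((hg2w _).symm.mul_left g2x.symm).mul_left (hg2w _).symm).inv_right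
    calc g₁ * s₁ * (g₂ * s₂) * (g₁ * s₁)⁻¹ * (g₂ * s₂)⁻¹
        = g₁ * g₂ * ((g₂⁻¹ * s₁ * g₂) * s₂ * s₁⁻¹) * g₁⁻¹ * s₂⁻¹ * g₂⁻¹ := by group
      _ = g₁ * g₂ * (s₁ * (α * s₂) * s₁⁻¹) * g₁⁻¹ * s₂⁻¹ * g₂⁻¹ := by rw [hαs]; group
      _ = g₁ * g₂ * ((s₁ * s₂ * s₁⁻¹) * (s₁ * α * s₁⁻¹)) * g₁⁻¹ * s₂⁻¹ * g₂⁻¹ := by
        rw [(hs2w _).symm.eq]; simp only [hα]; group
      _ = g₁ * g₂ * g₁⁻¹ * ((g₁ * s₂ * g₁⁻¹) * (g₁ * x * g₁⁻¹) * (g₁ * α * g₁⁻¹)) * s₂⁻¹ * g₂⁻¹ := by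
        rw [e12, mul_inv_eq_iff_eq_mul.2 (hs1w (bn y 128)).eq]; simp only [hα]; group
      _ = g₁ * g₂ * g₁⁻¹ * (s₂ * ((β * x * α) * s₂⁻¹)) * g₂⁻¹ := by
        rw [hβs, mul_inv_eq_iff_eq_mul.2 g1x.eq, mul_inv_eq_iff_eq_mul.2 (hg1w (bn y 128)).eq]; simp only [hα]; group
      _ = g₁ * g₂ * g₁⁻¹ * ((β * x * α) * g₂⁻¹) := by rw [hX2.eq]; group
      _ = g * (β * x * α) := by rw [hX1.eq, hgdef]; group
  have hmain : g * ee z x δ δ = g * (β * x * α) := by
    rw [← hlhs, ← hexp, ← hu1, ← hu2, hgdef]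
    group
  have hval : β * x * α = ee z x true (Bool.xor (bn y 64) (bn y 128)) := by
    have hxw : Commute x w := (d.B_comm hw).1.symm
    rw [hβ, hα]
    conv_lhs => enter [1, 2]; rw [show x = ee z x true false by simp [ee, pw]]
    rw [
      show w * zp z x (bn y 64) * ee z x true false * (w * zp z x (bn y 128)) =
        w * ((zp z x (bn y 64) * ee z x true false) * w) * zp z x (bn y 128) by group, d.ee_mul,
      (d.ee_comm (d.B_comm hw).1 (d.B_comm hw).2 _ _).symm.eq,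
      show w * (w * ee z x (Bool.xor false true) (Bool.xor (bn y 64) false)) * zp z x (bn y 128) =
        (w * w) * (ee z x (Bool.xor false true) (Bool.xor (bn y 64) false) * zp z x (bn y 128)) by group,
      hww, one_mul, d.ee_mul]
    cases bn y 64 <;> cases bn y 128 <;> rfl
  obtain ⟨h1, h2⟩ := d.ee_inj ((mul_left_cancel hmain).trans hval)
  rw [← h2, h1]

/-- The middle element centralizes the lift of exactly one of `64` and `128`. -/
theorem exists_sign : ∃ m, Mid Q co ac z m ∧ ∃ y, (y = 64 ∨ y = 128) ∧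
    ∀ e ∈ Co1Type31.lp, Mv Q ac n z m e (zp z x (bn y e)) := by
  obtain ⟨m, hm⟩ := exists_mid d
  obtain ⟨y, hy, hs⟩ := mv_sign d hm
  have h := sign_sum d hm hy hs
  refine ⟨m, hm, y, ?_, hs⟩
  have key : ∀ y ∈ lq, Bool.xor (bn y 64) (bn y 128) = true → y = 64 ∨ y = 128 := by decide +kernel
  exact key y hy h

end Cfsg.Agent.Lib.Co1Golay43
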