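import Cfsg.Agent.Lib.Co1Golay43.Count
import Cfsg.Agent.Lib.Co1Golay43.CandCheck

/-!
# Conway type: the orbit of `z` in coordinates

After a change of basis the sign of every coset is the true one.

Owner: helper43.
-/

set_option autoImplicit false
set_option maxRecDepth 100000
set_option linter.unusedSectionVars false

namespace Cfsg.Agent.Lib.Co1Golay43

open Cfsg.Agent.Lib.Co1Type31

variable {G : Type*} [Group G] [Finite G] {z : G} {Q : Subgroup G} {co : G → ℕ} {ac : G → ℕ → ℕ}
variable {x n m : G} {C : Cfg z Q co ac x n m} (B : Base C)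

theorem par6_bit : ∀ l < 64, ∀ j < 6, par6 (l &&& 2 ^ j) = l.testBit j := by decide +kernel

theorem par6_zero : par6 0 = false := by decide +kernel

set_option synthInstance.maxSize 4000 in
set_option synthInstance.maxHeartbeats 200000 in
/-- Any additive functional on the high bits is a parity. -/
theorem exists_par (μ : ℕ → Bool) (hadd : ∀ a b, μ (a ^^^ b) = Bool.xor (μ a) (μ b)) :
    ∃ l < 64, ∀ c < 64, μ (32 * c) = par6 (l &&& c) := by
  obtain ⟨l, hl, hbit⟩ : ∃ l < 64, ∀ j < 6, l.testBit j = μ (32 * 2 ^ j) := by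
    have key : ∀ a b c d e f : Bool, ∃ l < 64, l.testBit 0 = a ∧ l.testBit 1 = b ∧ l.testBit 2 = c ∧
        l.testBit 3 = d ∧ l.testBit 4 = e ∧ l.testBit 5 = f := by decide +kernel
    obtain ⟨l, hl, a, b, c, d, e, f⟩ := key (μ (32 * 2 ^ 0)) (μ (32 * 2 ^ 1)) (μ (32 * 2 ^ 2))
      (μ (32 * 2 ^ 3)) (μ (32 * 2 ^ 4)) (μ (32 * 2 ^ 5))
    exact ⟨l, hl, fun j hj => by interval_cases j <;> assumption⟩
  have h0 : μ 0 = false := by
    have := hadd 0 0
    rw [Nat.xor_self, Bool.xor_self] at this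
    exact this
  refine ⟨l, hl, ind64 (P := fun c => μ (32 * c) = par6 (l &&& c)) (by simpa [par6_zero] using h0)
    fun c hc j hj h => ?_⟩
  have hmul : 32 * (c ^^^ 2 ^ j) = (32 * c) ^^^ (32 * 2 ^ j) := by
    rw [show (32 : ℕ) = 2 ^ 5 from rfl]
    simp only [mul_comm (2 ^ 5), ← Nat.shiftLeft_eq, Nat.shiftLeft_xor_distrib]
  have hlt : l &&& c < 64 := lt_of_le_of_lt Nat.and_le_left hl
  have hlt' : l &&& 2 ^ j < 64 := lt_of_le_of_lt Nat.and_le_left hl
  rw [hmul, hadd, h, Nat.and_xor_distrib_left, par6_xor _ hlt _ hlt', par6_bit l hl j hj, hbit j hj]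

namespace Base

open Classical in
/-- The sign of a coset: set when the orbit of its representative is outside. -/
noncomputable def sgn (c : ℕ) : Bool := decide (¬ B.O (rep c))

theorem num_ns {c : ℕ} (hc : c ∈ nsL) : B.num c = 1 := by
  obtain ⟨e, hl⟩ := from_spec.2 c hc
  rw [← e, (B.num_word hl (by norm_num) (by norm_num)).2]
  exact B.OS_759.2.2

theorem O_ns {c : ℕ} (hc : c ∈ nsL) {e : ℕ} (he : e < 32) :
    B.O (32 * c + e) ↔ (orb c).testBit (e ^^^ bif B.sgn c then 1 else 0) = true := by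
  classical
  obtain ⟨hcl, hc0⟩ := nsL_mem hc
  have hn := B.num_ns hc
  rw [num] at hn
  rw [B.coset_O hcl hc0 he]
  by_cases h : B.O (rep c)
  · have h' : ¬ B.O (rep c ^^^ 1) := fun h' => by rw [if_pos h, if_pos h'] at hn; omega
    simp [sgn, h, h']
  · have h' : B.O (rep c ^^^ 1) := by
      by_contra h'
      rw [if_neg h, if_neg h'] at hn; omega
    simp [sgn, h, h']

theorem O_dec {c : ℕ} (hc : c ∈ decL) {e : ℕ} (he : e < 32) :
    B.O (32 * c + e) ↔ (eight c).testBit e = true := by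
  classical
  obtain ⟨hcl, hc0⟩ := decL_mem hc
  obtain ⟨e', hl⟩ := from_spec.1 c hc
  have hn : B.num c = 2 := by
    rw [← e', (B.num_word hl (by norm_num) (by norm_num)).2]; exact B.OS_759.2.1
  rw [num] at hn
  rw [B.coset_O hcl hc0 he, dec_cover c hc e he, Bool.or_eq_true]
  by_cases h : B.O (rep c) <;> by_cases h' : B.O (rep c ^^^ 1) <;>
    first
    | (rw [if_neg h] at hn; split at hn <;> omega)
    | (rw [if_neg h'] at hn; split at hn <;> omega)
    | simp [h, h']

theorem O_zb {M : ℕ} (hM : ∀ c ∈ nsL, M.testBit c = B.sgn c) {s : ℕ} (hs : s < 2048) :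
    B.O s ↔ zb M s = true := by
  obtain ⟨h1, hc, he⟩ := split_state s hs
  unfold zb
  generalize hcd : s >>> 5 = c at h1 hc
  generalize hed : s &&& 31 = e at h1 he
  rcases Nat.eq_zero_or_pos c with h0 | h0
  · subst h0
    rw [show Nat.beq 0 0 = true from rfl, cond_true, ← h1, Nat.mul_zero, Nat.zero_add]
    cases e with
    | zero => simpa using B.not_O_zero
    | succ k =>
      simp only [show Nat.beq (k + 1) 0 = false from rfl, Bool.not_false, iff_true]
      rcases Nat.eq_zero_or_pos k with rfl | hk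
      · exact B.O_one
      · exact B.O_low _ he (by omega)
  · have hb : Nat.beq c 0 = false := by cases c <;> simp_all [Nat.beq]
    rw [hb, cond_false]
    rcases kind_cases hc (by omega) with h | h
    · rw [List.contains_iff_mem.2 h, cond_true, ← h1]
      exact B.O_dec h he
    · rw [show decL.contains c = false from by simpa using (nsL_ok c h).2.2, cond_false, ← h1, hM c h]
      exact B.O_ns h he

theorem sgn_gr {g : ℕ} (hg : g < 2) : ∃ l < 64, ∀ c ∈ nsL,
    B.sgn (gr g c) = Bool.xor (Bool.xor (B.sgn c) (epsB g c)) (par6 (l &&& c)) := by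
  classical
  obtain ⟨c₀, -, hcA, μ, hadd, hlow, hc₀⟩ := B.exists_gm hg
  obtain ⟨l, hl, hμ⟩ := exists_par μ hadd
  refine ⟨l, hl, fun c hc => ?_⟩
  obtain ⟨hg', hlt, hsh, hbit⟩ := gm_line_flip g hg c hc
  obtain ⟨hcl, hrep, -⟩ := nsL_ok c hc
  have hrl : rep c < 2048 := by omega
  have hiff : B.O (gm g (rep c) ^^^ bif μ (rep c) then 1 else 0) ↔ B.O (rep c) := by
    show InO C.duo.fr _ ↔ InO C.duo.fr (B.el (rep c))
    rw [← hc₀ _ hrl]
    exact InO.iff_conj (mem_norm _ hcA)
  set t := gm g (rep c) with htdef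
  obtain ⟨p1, -, p3⟩ := split_state t hlt
  rw [hsh] at p1
  rw [hrep] at hiff
  rw [hμ c hcl] at hiff
  have hflip : ∀ e < 32, ∀ b : Bool, (32 * gr g c + e) ^^^ (bif b then 1 else 0) =
      32 * gr g c + (e ^^^ bif b then 1 else 0) ∧ (e ^^^ bif b then 1 else 0) < 32 := by
    have key : ∀ d < 64, ∀ e < 32, ∀ b : Bool, (32 * d + e) ^^^ (bif b then 1 else 0) =
        32 * d + (e ^^^ bif b then 1 else 0) ∧ (e ^^^ bif b then 1 else 0) < 32 := by decide +kernel
    exact key _ (gr_lt hg hcl)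
  obtain ⟨f1, f2⟩ := hflip _ p3 (par6 (l &&& c))
  rw [← hrep, ← p1, f1, B.O_ns hg' f2] at hiff
  have hc_self : B.O (rep c) ↔ B.sgn c = false := by simp [sgn]
  rw [hc_self] at hiff
  have hone := orb_flip (gr g c) (gr_lt hg hcl) (nsL_mem hg').2 _ (hflip _ p3 (epsB g c)).2 hbit
  have hval : ∀ P A : Bool, (orb (gr g c)).testBit ((t &&& 31) ^^^ (bif P then 1 else 0) ^^^ (bif A then 1 else 0)) =
      (Bool.xor P A == epsB g c) := by
    intro P A
    revert hbit hone
    cases P <;> cases A <;> cases epsB g c <;> simp only [cond_true, cond_false, Nat.xor_zero, Nat.xor_assoc,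
      Nat.xor_self] <;> intro h1 h2 <;> first | exact h1 | exact h2
  rw [hval] at hiff
  revert hiff
  generalize B.sgn (gr g c) = A
  generalize B.sgn c = A'
  generalize epsB g c = E
  generalize par6 (l &&& c) = P
  revert A A' E P
  decide

/-- The basis changed by multiples of `z`. -/
def gaugePre (l : ℕ) : Pre C where
  bv j := if j < 5 then B.bv j else B.bv j * pw z (l.testBit (j - 5))
  bz := by simp [B.bz]
  br j hj := by simp only [if_pos hj]; exact B.br j hj
  ba j hj := by
    simp only [if_neg (show ¬ 5 + j < 5 by omega), Nat.add_sub_cancel_left]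
    have hz : pw z (l.testBit j) ∈ AG C.duo.fr := by
      cases l.testBit j
      · exact one_mem _
      · exact EG_le_AG C.duo.fr (z_EG C.duo.fr)
    have h := actA_mul C.duo.fr (j := 0) (B.ba j hj).1 hz
      (lt_of_lt_of_le (Nat.pow_lt_pow_right (by norm_num) hj) (by norm_num)) (show 0 < 64 by norm_num)
      (B.ba j hj).2 (by
        intro k hk
        rw [C.duo.fr.ac_Q (by cases l.testBit j; exacts [one_mem Q, C.duo.fr.es.mem]) hk, rA_zero hk])
    rw [Nat.xor_zero] at h
    exact ⟨mul_mem (B.ba j hj).1 hz, h⟩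
/-- The basis changed by multiples of `z`, with exact translations. -/
def gauge (l : ℕ) : Base C where
  toPre := B.gaugePre l
  trans k hk q hq hqc j hj := by
    obtain ⟨ht, -⟩ := tk_high k hk j hj
    set P' : Pre C := B.gaugePre l with hP'
    have hlow : ∀ s < 32, P'.el s = B.el s := by
      intro s hs
      unfold Pre.el
      have : ∀ i ∈ List.range 11, (bif s.testBit i then P'.bv i else 1) = (bif s.testBit i then B.bv i else 1) := by
        intro i _
        rcases lt_or_ge i 5 with h | h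
        · simp [P', gaugePre, h]
        · rw [Nat.testBit_lt_two_pow (lt_of_lt_of_le hs
            (Nat.pow_le_pow_right (show 0 < 2 by norm_num) h : 2 ^ 5 ≤ 2 ^ i))]
          rfl
      generalize List.range 11 = r at this
      induction r with
      | nil => rfl
      | cons i r ih =>
        simp only [List.foldr_cons, this i (List.mem_cons_self ..),
          ih fun k hk => this k (List.mem_cons_of_mem _ hk)]
    have e0 : tk k (2 ^ (5 + j)) = 2 ^ (5 + j) ^^^ (tk k (2 ^ (5 + j)) ^^^ 2 ^ (5 + j)) := by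
      rw [Nat.xor_comm (tk k _), ← Nat.xor_assoc, Nat.xor_self, Nat.zero_xor]
    set t := tk k (2 ^ (5 + j)) ^^^ 2 ^ (5 + j)
    rw [e0, P'.el_xor, P'.el_pow (show 5 + j < 11 by omega), hlow t ht]
    have hb : P'.bv (5 + j) = B.bv (5 + j) * pw z (l.testBit j) := by
      simp only [P', gaugePre, if_neg (show ¬ 5 + j < 5 by omega), Nat.add_sub_cancel_left]
    have hzc : Commute (pw z (l.testBit j)) (B.el t) := by
      cases l.testBit j
      · exact Commute.one_left _
      · exact (AG_z C.duo.fr (B.el_mem t)).symm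
    have hzq : Commute q (pw z (l.testBit j)) := by
      cases l.testBit j
      · exact Commute.one_right _
      · exact C.duo.fr.es.comm q hq
    rw [hb, show q * (B.bv (5 + j) * pw z (l.testBit j)) * q⁻¹ =
      (q * B.bv (5 + j) * q⁻¹) * (q * pw z (l.testBit j) * q⁻¹) by group,
      mul_inv_eq_iff_eq_mul.2 hzq.eq, B.trans k hk q hq hqc j hj, e0, B.el_xor,
      B.el_pow (show 5 + j < 11 by omega), mul_assoc, ← hzc.eq, ← mul_assoc]

theorem gauge_el {l : ℕ} (hl : l < 64) : ∀ s < 2048,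
    (B.gauge l).el s = B.el s * pw z (par6 (l &&& (s >>> 5))) := by
  refine ind11 (P := fun s => (B.gauge l).el s = B.el s * pw z (par6 (l &&& (s >>> 5)))) ?_
    fun s hs j hj h => ?_
  · simp [Pre.el_zero, par6_zero, pw]
  · have hs5 : s >>> 5 < 64 := (split_state s hs).2.1
    have hz : ∀ b, Commute (B.el (2 ^ j)) (pw z b) := fun b => by
      cases b
      · exact Commute.one_right _
      · exact AG_z C.duo.fr (B.el_mem _)
    have hj5 : (2 : ℕ) ^ j >>> 5 < 64 := by
      have := Nat.pow_lt_pow_right (show 1 < 2 by norm_num) hj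
      rw [Nat.shiftRight_eq_div_pow]; norm_num at this ⊢; omega
    have hbit : (B.gauge l).el (2 ^ j) = B.el (2 ^ j) * pw z (par6 (l &&& (2 ^ j >>> 5))) := by
      rw [Pre.el_pow _ hj, Pre.el_pow _ hj]
      rcases lt_or_ge j 5 with h5 | h5
      · rw [show (2 : ℕ) ^ j >>> 5 = 0 by
          rw [Nat.shiftRight_eq_div_pow, Nat.div_eq_of_lt (Nat.pow_lt_pow_right (by norm_num) h5)]]
        simp [gauge, gaugePre, h5, par6_zero, pw]
      · obtain ⟨i, rfl⟩ := Nat.exists_eq_add_of_le h5
        rw [show (2 : ℕ) ^ (5 + i) >>> 5 = 2 ^ i by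
          rw [Nat.shiftRight_eq_div_pow, pow_add, Nat.mul_div_cancel_left _ (by norm_num)], par6_bit l hl i (by omega)]
        simp [gauge, gaugePre]
    rw [Pre.el_xor, h, hbit, Pre.el_xor, Nat.shiftRight_xor_distrib, Nat.and_xor_distrib_left,
      par6_xor _ (lt_of_le_of_lt Nat.and_le_left hl) _ (lt_of_le_of_lt Nat.and_le_left hl),
      ← pw_mul C.duo.fr.es.sq]
    have hpc := (hz (par6 (l &&& s >>> 5))).symm
    generalize pw z (par6 (l &&& s >>> 5)) = p at hpc ⊢
    generalize pw z (par6 (l &&& 2 ^ j >>> 5)) = p'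
    calc B.el s * p * (B.el (2 ^ j) * p') = B.el s * (p * B.el (2 ^ j)) * p' := by group
      _ = _ := by rw [hpc.eq]; group

theorem gauge_sgn {l : ℕ} (hl : l < 64) {c : ℕ} (hc : c ∈ nsL) :
    (B.gauge l).sgn c = Bool.xor (B.sgn c) (par6 (l &&& c)) := by
  classical
  obtain ⟨hcl, hrep, -⟩ := nsL_ok c hc
  have hn := B.num_ns hc
  rw [num] at hn
  have he := B.gauge_el hl (rep c) (by omega)
  rw [hrep, show (32 * c) >>> 5 = c by rw [Nat.shiftRight_eq_div_pow]; omega, ← hrep] at he
  have hO : (B.gauge l).O (rep c) ↔ B.O (rep c ^^^ bif par6 (l &&& c) then 1 else 0) := by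
    show InO C.duo.fr _ ↔ InO C.duo.fr _
    rw [he, B.el_bit]
  show decide _ = Bool.xor (decide _) _
  cases hp : par6 (l &&& c) <;> rw [hp] at hO
  · simp only [cond_false, Nat.xor_zero] at hO
    simp [hO]
  · simp only [cond_true] at hO
    by_cases h : B.O (rep c)
    · have h' : ¬ B.O (rep c ^^^ 1) := fun h' => by rw [if_pos h, if_pos h'] at hn; omega
      simp [hO, h, h']
    · have h' : B.O (rep c ^^^ 1) := by
        by_contra h'
        rw [if_neg h, if_neg h'] at hn; omega
      simp [hO, h, h']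

end Base

variable (C) in
/-- A basis with the true signs on six cosets. -/
theorem exists_fixed : ∃ B : Base C, ∀ c ∈ fixL, B.sgn c = sg0.testBit c := by
  obtain ⟨B⟩ := exists_base C
  obtain ⟨t, ht, hbits⟩ : ∃ t < 64, (List.range 6).map t.testBit =
      fixL.map (fun c => Bool.xor (B.sgn c) (sg0.testBit c)) := by
    have key : ∀ a b c d e f : Bool, ∃ t < 64, (List.range 6).map t.testBit = [a, b, c, d, e, f] := by
      decide +kernel
    exact key _ _ _ _ _ _
  obtain ⟨l, -, hl, hmap⟩ := fix_spec.2 _ (List.mem_map.2 ⟨t, List.mem_range.2 ht, rfl⟩)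
  refine ⟨B.gauge l, fun c hc => ?_⟩
  rw [hbits] at hmap
  have := List.map_inj_left.1 hmap c hc
  rw [B.gauge_sgn hl (fix_spec.1 c hc), this, ← Bool.xor_assoc, Bool.xor_self, Bool.false_xor]

namespace Base

theorem fold_inv (l0 l1 : ℕ) (hrec : ∀ g < 2, ∀ c ∈ nsL, B.sgn (gr g c) =
      Bool.xor (Bool.xor (B.sgn c) (epsB g c)) (par6 ((bif Nat.beq g 0 then l0 else l1) &&& c))) (v : ℕ)
    (hv : (v >>> 1) &&& 63 = l0 ∧ v >>> 7 = l1) :
    ∀ (l : List (ℕ × ℕ × ℕ)) (vis : List ℕ) (m : ℕ), stepsOK l vis = true →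
      (∀ j, m.testBit j = (vis.contains j && B.sgn j)) →
      ∀ c ∈ nsL, (l.foldl (fun m e => bif Bool.xor (Bool.xor (m.testBit e.2.1) (epsB e.1 e.2.1))
          (par6 ((bif Nat.beq e.1 0 then (v >>> 1) &&& 63 else v >>> 7) &&& e.2.1))
        then m ||| (1 <<< e.2.2) else m) m).testBit c = B.sgn c := by
  intro l
  induction l with
  | nil =>
    intro vis m hok hm c hc
    rw [stepsOK] at hok
    rw [List.foldl_nil, hm, List.all_eq_true.1 hok c hc, Bool.true_and]
  | cons e l ih =>
    intro vis m hok hm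
    simp only [stepsOK, Bool.and_eq_true, Bool.not_eq_true', decide_eq_true_eq] at hok
    obtain ⟨⟨⟨⟨⟨hp, hq⟩, hgr⟩, hg⟩, hpn⟩, hrest⟩ := hok
    rw [List.foldl_cons]
    refine ih _ _ hrest fun j => ?_
    have hval : Bool.xor (Bool.xor (m.testBit e.2.1) (epsB e.1 e.2.1))
        (par6 ((bif Nat.beq e.1 0 then (v >>> 1) &&& 63 else v >>> 7) &&& e.2.1)) = B.sgn e.2.2 := by
      rw [hm, hp, Bool.true_and, hv.1, hv.2, ← Nat.eq_of_beq_eq_true hgr,
        hrec e.1 hg _ (List.contains_iff_mem.1 hpn)]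
    rw [hval, List.contains_cons]
    by_cases hj : j = e.2.2
    · subst hj
      rw [show (e.2.2 == e.2.2) = true from beq_self_eq_true _, Bool.true_or, Bool.true_and]
      cases hs : B.sgn e.2.2
      · rw [cond_false, hm, hq]; rfl
      · rw [cond_true, Nat.testBit_or, Nat.one_shiftLeft, Nat.testBit_two_pow_self, Bool.or_true]
    · rw [show (j == e.2.2) = false from beq_eq_false_iff_ne.2 hj, Bool.false_or]
      cases B.sgn e.2.2
      · rw [cond_false, hm]
      · rw [cond_true, Nat.testBit_or, Nat.one_shiftLeft, Nat.testBit_two_pow, hm]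
        simp [Ne.symm hj]

theorem signs_cand (hfix : ∀ c ∈ fixL, B.sgn c = sg0.testBit c) :
    ∃ M ∈ candL, ∀ c ∈ nsL, M.testBit c = B.sgn c := by
  obtain ⟨l0, hl0, h0⟩ := B.sgn_gr (g := 0) (by norm_num)
  obtain ⟨l1, hl1, h1⟩ := B.sgn_gr (g := 1) (by norm_num)
  have hrec : ∀ g < 2, ∀ c ∈ nsL, B.sgn (gr g c) =
      Bool.xor (Bool.xor (B.sgn c) (epsB g c)) (par6 ((bif Nat.beq g 0 then l0 else l1) &&& c)) := by
    intro g hg c hc
    interval_cases g
    exacts [h0 c hc, h1 c hc]
  set v := (bif B.sgn 12 then 1 else 0) + 2 * l0 + 128 * l1 with hvdef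
  have hroot : (bif B.sgn 12 then 1 else 0 : ℕ) ≤ 1 := by cases B.sgn 12 <;> simp
  have hv : (v >>> 1) &&& 63 = l0 ∧ v >>> 7 = l1 ∧ v < 8192 ∧ v.testBit 0 = B.sgn 12 := by
    refine ⟨?_, ?_, by omega, ?_⟩
    · rw [show (63 : ℕ) = 2 ^ 6 - 1 from rfl, Nat.and_two_pow_sub_one_eq_mod, Nat.shiftRight_eq_div_pow]
      norm_num; omega
    · rw [Nat.shiftRight_eq_div_pow]; norm_num; omega
    · rw [Nat.testBit_zero]
      cases hs : B.sgn 12 <;> rw [hvdef, hs] <;> simp only [cond_true, cond_false, decide_eq_true_eq,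
        decide_eq_false_iff_not] <;> omega
  have hm : ∀ c ∈ nsL, (sgnOf v).testBit c = B.sgn c := by
    refine B.fold_inv l0 l1 hrec v ⟨hv.1, hv.2.1⟩ stepL [12] _ steps_ok.1 fun j => ?_
    rw [hv.2.2.2, List.contains_cons, List.contains_nil, Bool.or_false]
    by_cases hj : j = 12
    · subst hj; cases B.sgn 12 <;> rfl
    · rw [show (j == 12) = false from beq_eq_false_iff_ne.2 hj, Bool.false_and]
      cases B.sgn 12
      · exact Nat.zero_testBit j
      · rw [cond_true, Nat.one_shiftLeft, Nat.testBit_two_pow]; simp [Ne.symm hj]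
  have hok : sgnOK v (sgnOf v) = true := by
    simp only [sgnOK, Bool.and_eq_true, List.all_eq_true, beq_iff_eq]
    refine ⟨fun c hc => (hm c (fix_spec.1 c hc)).trans (hfix c hc), fun g hg c hc => ?_⟩
    have hg2 : g < 2 := by
      simp only [List.mem_cons, List.not_mem_nil, or_false] at hg; omega
    rw [hm c hc, hm _ (gm_line_flip g hg2 c hc).1, hrec g hg2 c hc, hv.1, hv.2.1]
  have := List.all_eq_true.1 sol_aux v (List.mem_range.2 hv.2.2.1)
  rw [hok, Bool.not_true, Bool.false_or, List.contains_iff_mem] at this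
  exact ⟨_, this, hm⟩

/-- The map of a normalising element on the states. -/
theorem exists_fun {g : G} (hg : g ∈ Subgroup.normalizer (AG C.duo.fr : Set G)) :
    ∃ f : ℕ → ℕ, (∀ s, f s < 2048) ∧ (∀ s, B.el (f s) = g * B.el s * g⁻¹) ∧
      (∀ a < 2048, ∀ b < 2048, f (a ^^^ b) = f a ^^^ f b) ∧
      (∀ a < 2048, ∀ b < 2048, f a = f b → a = b) ∧ ∀ a < 2048, (B.O (f a) ↔ B.O a) := by
  have hex : ∀ s, ∃ t < 2048, B.el t = g * B.el s * g⁻¹ := fun s =>
    B.el_surj ((Subgroup.mem_normalizer_iff.1 hg _).1 (B.el_mem s))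
  choose f hlt hf using hex
  refine ⟨f, hlt, hf, fun a _ b _ => B.el_inj (hlt _) (Nat.xor_lt_two_pow (n := 11) (hlt a) (hlt b)) ?_,
    fun a ha b hb e => B.el_inj ha hb ?_, fun a _ => ?_⟩
  · rw [hf, B.el_xor, B.el_xor (f a), hf, hf]; group
  · have := (hf a).symm.trans ((congrArg B.el e).trans (hf b))
    simpa using this
  · show InO C.duo.fr _ ↔ InO C.duo.fr _
    rw [hf]
    exact InO.iff_conj hg

theorem zlist_OS {M : ℕ} (hM : ∀ s < 2048, (M.testBit s = true ↔ B.O s)) {a : ℕ} :
    a ∈ zlist M ↔ a < 2048 ∧ B.O a := by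
  rw [zlist, List.mem_filter, List.mem_range]
  exact and_congr_right fun h => hM a h

theorem deg_eq {M : ℕ} (hM : ∀ s < 2048, (M.testBit s = true ↔ B.O s)) {v : ℕ} (hv : v < 2048) (hO : B.O v) :
    zdeg M 1 = zdeg M v := by
  obtain ⟨g, hg, e⟩ := hO
  obtain ⟨f, hlt, hf, hadd, hinj, hOf⟩ := B.exists_fun hg
  have hf1 : f 1 = v := B.el_inj (hlt 1) hv (by rw [hf, B.el_one]; exact e)
  have hperm : ((zlist M).map f).Perm (zlist M) := by
    have hnd : ((zlist M).map f).Nodup := (List.nodup_range.filter _).map_on fun a ha b hb h =>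
      hinj a ((B.zlist_OS hM).1 ha).1 b ((B.zlist_OS hM).1 hb).1 h
    refine (List.subperm_of_subset hnd fun a ha => ?_).perm_of_length_le (by rw [List.length_map])
    obtain ⟨b, hb, rfl⟩ := List.mem_map.1 ha
    obtain ⟨hb1, hb2⟩ := (B.zlist_OS hM).1 hb
    exact (B.zlist_OS hM).2 ⟨hlt b, (hOf b hb1).2 hb2⟩
  unfold zdeg
  symm
  rw [← List.countP_eq_length_filter, ← List.countP_eq_length_filter, ← hperm.countP_eq, List.countP_map]
  refine List.countP_congr fun a ha => ?_
  have ha' := ((B.zlist_OS hM).1 ha).1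
  have hx : a ^^^ 1 < 2048 := Nat.xor_lt_two_pow (n := 11) ha' (by norm_num)
  simp only [Function.comp_apply]
  rw [← hf1, ← hadd a ha' 1 (by norm_num), hM _ (hlt _), hOf _ hx, ← hM _ hx]
  

/-- The orbit is the true set. -/
theorem O_iff (hfix : ∀ c ∈ fixL, B.sgn c = sg0.testBit c) {s : ℕ} (hs : s < 2048) :
    B.O s ↔ zmask0.testBit s = true := by
  obtain ⟨M, hM, hbits⟩ := B.signs_cand hfix
  suffices hM0 : M = sg0 by
    subst hM0
    rw [B.O_zb hbits hs, beq_iff_eq.1 (List.all_eq_true.1 mask_spec0 s (List.mem_range.2 hs))]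
  have hcase := List.all_eq_true.1 cand_cases M hM
  rw [Bool.or_eq_true, List.contains_iff_mem] at hcase
  rcases hcase with h | h
  · exact Nat.eq_of_beq_eq_true h
  · exfalso
    obtain ⟨i, hi, hiM⟩ := List.mem_iff_getElem.1 h
    rw [List.length_map] at hi
    have hMi : (witL.getD i (0, 0)).1 = M := by
      rw [← hiM, List.getElem_map, List.getD_eq_getElem _ _ hi]
    have hmask : ∀ s < 2048, ((maskL.getD i 0).testBit s = true ↔ B.O s) := fun t ht => by
      have := List.all_eq_true.1 (List.all_eq_true.1 mask_spec i (List.mem_range.2 hi)) t (List.mem_range.2 ht)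
      rw [beq_iff_eq.1 this, hMi, B.O_zb hbits ht]
    have hw := List.all_eq_true.1 wit_spec i (List.mem_range.2 hi)
    simp only [Bool.and_eq_true, decide_eq_true_eq, Bool.not_eq_true'] at hw
    obtain ⟨⟨hb, hv⟩, hne⟩ := hw
    have := B.deg_eq hmask hv ((hmask _ hv).1 hb)
    rw [this, Nat.beq_refl] at hne
    exact Bool.noConfusion hne

end Base

variable (C) in
/-- A basis in which the orbit is the true set. -/
theorem exists_true : ∃ B : Base C, ∀ s < 2048, (B.O s ↔ zmask0.testBit s = true) := by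
  obtain ⟨B, hB⟩ := exists_fixed C
  exact ⟨B, fun _ hs => B.O_iff hB hs⟩

end Cfsg.Agent.Lib.Co1Golay43
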