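import Cfsg.Agent.Lib.Co1Golay43.Bridge

/-!
# Conway type: `N(A)/A` is the Mathieu group on 24 points

The centraliser of `z` in the normaliser maps onto the stabiliser of the subspace, which is large; so
the normaliser is as large as the group of the code.

Owner: helper43.
-/

set_option autoImplicit false
set_option maxRecDepth 100000
set_option linter.unusedSectionVars false

namespace Cfsg.Agent.Lib.Co1Golay43

open Cfsg.Agent.Lib.Co1Type31
open Cfsg.Agent.Lib.FischerLarge43 (conjAut conjAut_apply)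
open Cfsg.Agent.Lib.Golay (card_M24)

variable {G : Type*} [Group G] [Finite G] {z : G} {Q : Subgroup G} {co : G → ℕ} {ac : G → ℕ → ℕ}

/-- An element of `C(z)` preserving the subspace normalises `A`. -/
theorem norm_AG_of (h : Frame z Q co ac) {c : G} (hc : Commute c z)
    (hW : ∀ w ∈ wB, inW (ac c w) = true) : c ∈ NA h := by
  have hl : Lin8 (ac c) := (h.iso hc).toLin8
  have hEG : ∀ r ∈ EG h, c * r * c⁻¹ ∈ EG h := by
    intro r hr
    refine ⟨h.norm c hc r hr.1, ?_⟩
    rw [h.conj c hc r hr.1, inW_gen _ (h.co_lt r hr.1) hr.2]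
    have hlt : ∀ (b : Bool) (w : ℕ), w ∈ wB → (bif b then w else 0) < 256 := fun b w hw => by
      cases b
      · exact Nat.zero_lt_succ _
      · exact (wB_spec w hw).1
    have hb : ∀ (b : Bool) (w : ℕ), w ∈ wB → inW (ac c (bif b then w else 0)) = true := fun b w hw => by
      cases b
      · rw [cond_false, hl.zero]; rfl
      · exact hW w hw
    have l1 := hlt ((co r).testBit 0) 1 (by decide)
    have l2 := hlt ((co r).testBit 2) 4 (by decide)
    have l3 := hlt ((co r).testBit 4) 16 (by decide)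
    rw [hl.add _ (xor_lt (xor_lt l1 l2) l3) _ (hlt _ 64 (by decide)), hl.add _ (xor_lt l1 l2) _ l3,
      hl.add _ l1 _ l2]
    exact inW_xor (inW_xor (inW_xor (hb _ 1 (by decide)) (hb _ 4 (by decide))) (hb _ 16 (by decide)))
      (hb _ 64 (by decide))
  have hE : (EG h).map (MulAut.conj c).toMonoidHom = EG h := by
    refine Subgroup.eq_of_le_of_card_ge ?_ (le_of_eq (Subgroup.card_map_of_injective (MulAut.conj c).injective).symm)
    rintro _ ⟨r, hr, rfl⟩
    exact hEG r hr
  refine mem_norm h fun a ha => Subgroup.mem_centralizer_iff.2 fun s hs => ?_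
  rw [SetLike.mem_coe, ← hE] at hs
  obtain ⟨r, hr, rfl⟩ := hs
  exact ((AG_comm h ha hr).map (MulAut.conj c).toMonoidHom).eq.symm

theorem prs_append (u v : List (ℕ × ℕ)) (k : ℕ) : prs (u ++ v) k = prs u (prs v k) := by
  unfold prs; rw [List.foldr_append]

theorem tvWord_spec : ∀ {l : List ℕ}, (∀ i ∈ l, i < 12) →
    okWord (tvWord l) = true ∧ ∀ k < 256, inW k = true → inW (prs (tvWord l) k) = true
  | [], _ => ⟨rfl, fun _ _ h => h⟩
  | i :: l, hl => by
    obtain ⟨h1, h2⟩ := tvWord_spec fun j hj => hl j (List.mem_cons_of_mem _ hj)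
    have hi := hl i (List.mem_cons_self ..)
    have hlen : tvW.length = 12 := rfl
    have h := List.all_eq_true.1 tv_spec (tvW.getD i []) (by
      rw [List.getD_eq_getElem _ _ (hlen.symm ▸ hi)]; exact List.getElem_mem _)
    simp only [Bool.and_eq_true, List.all_eq_true] at h
    have e : tvWord (i :: l) = tvW.getD i [] ++ tvWord l := List.flatMap_cons ..
    refine ⟨?_, fun k hk hkW => ?_⟩
    · rw [e, okWord, List.all_append, Bool.and_eq_true]
      exact ⟨h.1, h1⟩
    · rw [e, prs_append]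
      have hl1 := prs_lin h.1
      have hk' := (prs_lin h1).lt k hk
      have hkW' := h2 k hk hkW
      generalize prs (tvWord l) k = j at hk' hkW'
      have hlt : ∀ (b : Bool) (w : ℕ), w ∈ wB → (bif b then w else 0) < 256 := fun b w hw => by
        cases b
        · exact Nat.zero_lt_succ _
        · exact (wB_spec w hw).1
      have hb : ∀ (b : Bool) (w : ℕ), w ∈ wB → inW (prs (tvW.getD i []) (bif b then w else 0)) = true :=
        fun b w hw => by
        cases b
        · rw [cond_false, hl1.zero]; rfl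
        · exact h.2 w hw
      have l1 := hlt (j.testBit 0) 1 (by decide)
      have l2 := hlt (j.testBit 2) 4 (by decide)
      have l3 := hlt (j.testBit 4) 16 (by decide)
      rw [inW_gen _ hk' hkW', hl1.add _ (xor_lt (xor_lt l1 l2) l3) _ (hlt _ 64 (by decide)),
        hl1.add _ (xor_lt l1 l2) _ l3, hl1.add _ l1 _ l2]
      exact inW_xor (inW_xor (inW_xor (hb _ 1 (by decide)) (hb _ 4 (by decide))) (hb _ 16 (by decide)))
        (hb _ 64 (by decide))

theorem stage_len : (stageW.getD 0 []).length = 15 ∧ (stageW.getD 1 []).length = 14 ∧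
    (stageW.getD 2 []).length = 12 ∧ (stageW.getD 3 []).length = 8 := by decide

/-- The elements of one stage. -/
theorem exists_stage (h : Frame z Q co ac) {k s : ℕ} (hk : k < 4) (hs : s = (stageW.getD k []).length) :
    ∃ c : Fin s → G, (∀ j, Commute (c j) z ∧ c j ∈ NA h ∧
      (∀ i < k, ac (c j) (wB.getD i 0) = wB.getD i 0)) ∧
      ∀ i j, ac (c i) (wB.getD k 0) = ac (c j) (wB.getD k 0) → i = j := by
  have hw4 : ∀ i < 4, wB.getD i 0 ∈ wB ∧ wB.getD i 0 < 256 := by decide
  have hok := List.all_eq_true.1 stage_spec.1 k (by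
    interval_cases k <;> decide)
  simp only [stageOK, Bool.and_eq_true, List.all_eq_true, decide_eq_true_eq, List.mem_range] at hok
  obtain ⟨hall, hnd⟩ := hok
  subst hs
  have hmem : ∀ j : Fin (stageW.getD k []).length, (stageW.getD k [])[j.1] ∈ stageW.getD k [] :=
    fun j => List.getElem_mem _
  choose c hc hck using fun j : Fin (stageW.getD k []).length =>
    h.exists_prs (tvWord_spec (hall _ (hmem j)).1).1
  refine ⟨c, fun j => ⟨hc j, norm_AG_of h (hc j) fun w hw => ?_, fun i hi => ?_⟩, fun i j e => ?_⟩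
  · rw [hck j w (wB_spec w hw).1]
    exact (tvWord_spec (hall _ (hmem j)).1).2 w (wB_spec w hw).1 (wB_spec w hw).2
  · rw [hck j _ (hw4 i (by omega)).2]
    exact Nat.eq_of_beq_eq_true ((hall _ (hmem j)).2 i hi)
  · rw [hck i _ (hw4 k hk).2, hck j _ (hw4 k hk).2] at e
    refine Fin.ext ((hnd.getElem_inj_iff (i := i.1) (j := j.1)
      (hi := by rw [List.length_map]; exact i.2) (hj := by rw [List.length_map]; exact j.2)).1 ?_)
    simpa only [List.getElem_map] using e

variable {x n m : G}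

/-- The centraliser of `z` in the normaliser is large. -/
theorem card_stab_ge (C : Cfg z Q co ac x n m) :
    660602880 ≤ Nat.card ↥(NA C.duo.fr ⊓ Subgroup.centralizer ({z} : Set G)) := by
  set h := C.duo.fr
  obtain ⟨s0, s1, s2, s3⟩ := stage_len
  obtain ⟨c0, hc0, i0⟩ := exists_stage h (k := 0) (by norm_num) s0.symm
  obtain ⟨c1, hc1, i1⟩ := exists_stage h (k := 1) (by norm_num) s1.symm
  obtain ⟨c2, hc2, i2⟩ := exists_stage h (k := 2) (by norm_num) s2.symm
  obtain ⟨c3, hc3, i3⟩ := exists_stage h (k := 3) (by norm_num) s3.symm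
  choose a ha hai using fun i : Fin 64 => exists_lift h i.2
  have hQN : ∀ q ∈ Q, q ∈ NA h := fun q hq => mem_norm h fun b hb => Pre.Q_conj (C := C) hq hb
  have haN : ∀ i, a i ∈ NA h := fun i => Subgroup.le_normalizer (ha i)
  have haz : ∀ i, Commute (a i) z := fun i => AG_z h (ha i)
  let F : (Fin 15 × Fin 14 × Fin 12 × Fin 8) × Fin 64 × Q → G := fun p =>
    c0 p.1.1 * (c1 p.1.2.1 * (c2 p.1.2.2.1 * (c3 p.1.2.2.2 * (a p.2.1 * p.2.2))))
  have hFz : ∀ p, Commute (F p) z := fun p =>
    (hc0 _).1.mul_left ((hc1 _).1.mul_left ((hc2 _).1.mul_left ((hc3 _).1.mul_left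
      ((haz _).mul_left (h.es.comm _ p.2.2.2)))))
  have hFN : ∀ p, F p ∈ NA h := fun p =>
    mul_mem (hc0 _).2.1 (mul_mem (hc1 _).2.1 (mul_mem (hc2 _).2.1 (mul_mem (hc3 _).2.1
      (mul_mem (haN _) (hQN _ p.2.2.2)))))
  -- the action on a fixed vector
  have hw : ∀ i < 4, wB.getD i 0 < 256 ∧ wB.getD i 0 ∈ wB := by decide
  have hact : ∀ {p q : G}, Commute p z → Commute q z → ∀ {k}, k < 256 → ac (p * q) k = ac p (ac q k) :=
    by intro p q hp hq k hk; exact h.ac_mul hp hq hk
  have hlast : ∀ (i : Fin 64) (q : Q) (l : ℕ), l < 4 → ac (a i * q) (wB.getD l 0) = wB.getD l 0 := by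
    intro i q l hl
    rw [hact (haz i) (h.es.comm _ q.2) (hw l hl).1, h.ac_Q q.2 (hw l hl).1, hai i _ (hw l hl).1,
      rA_fix i i.2 _ (hw l hl).2]
  have hinj : Function.Injective F := by
    rintro ⟨⟨t0, t1, t2, t3⟩, i, q⟩ ⟨⟨u0, u1, u2, u3⟩, j, r⟩ e
    simp only [F] at e
    have z3 : ∀ t (i : Fin 64) (q : Q), Commute (c3 t * (a i * q)) z := fun t i q =>
      (hc3 t).1.mul_left ((haz i).mul_left (h.es.comm _ q.2))
    have z2 : ∀ t t' (i : Fin 64) (q : Q), Commute (c2 t * (c3 t' * (a i * q))) z := fun t t' i q =>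
      (hc2 t).1.mul_left (z3 t' i q)
    have z1 : ∀ t t' t'' (i : Fin 64) (q : Q), Commute (c1 t * (c2 t' * (c3 t'' * (a i * q)))) z :=
      fun t t' t'' i q => (hc1 t).1.mul_left (z2 t' t'' i q)
    have z4 : ∀ (i : Fin 64) (q : Q), Commute (a i * (q : G)) z := fun i q => (haz i).mul_left (h.es.comm _ q.2)
    have f3 : ∀ t (i : Fin 64) (q : Q) (l : ℕ), l < 3 →
        ac (c3 t * (a i * q)) (wB.getD l 0) = wB.getD l 0 := fun t i q l hl => by
      rw [hact (hc3 t).1 (z4 i q) (hw l (by omega)).1, hlast i q l (by omega), (hc3 t).2.2 l hl]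
    have f2 : ∀ t t' (i : Fin 64) (q : Q) (l : ℕ), l < 2 →
        ac (c2 t * (c3 t' * (a i * q))) (wB.getD l 0) = wB.getD l 0 := fun t t' i q l hl => by
      rw [hact (hc2 t).1 (z3 t' i q) (hw l (by omega)).1, f3 t' i q l (by omega), (hc2 t).2.2 l hl]
    have f1 : ∀ t t' t'' (i : Fin 64) (q : Q) (l : ℕ), l < 1 →
        ac (c1 t * (c2 t' * (c3 t'' * (a i * q)))) (wB.getD l 0) = wB.getD l 0 := fun t t' t'' i q l hl => by
      rw [hact (hc1 t).1 (z2 t' t'' i q) (hw l (by omega)).1, f2 t' t'' i q l (by omega), (hc1 t).2.2 l hl]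
    have e' := congrArg (fun g => ac g (wB.getD 0 0)) e
    simp only [hact (hc0 _).1 (z1 _ _ _ _ _) (hw 0 (by norm_num)).1, f1 _ _ _ _ _ 0 (by norm_num)] at e'
    obtain rfl := i0 _ _ e'
    replace e := mul_left_cancel e
    have e' := congrArg (fun g => ac g (wB.getD 1 0)) e
    simp only [hact (hc1 _).1 (z2 _ _ _ _) (hw 1 (by norm_num)).1, f2 _ _ _ _ 1 (by norm_num)] at e'
    obtain rfl := i1 _ _ e'
    replace e := mul_left_cancel e
    have e' := congrArg (fun g => ac g (wB.getD 2 0)) e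
    simp only [hact (hc2 _).1 (z3 _ _ _) (hw 2 (by norm_num)).1, f3 _ _ _ 2 (by norm_num)] at e'
    obtain rfl := i2 _ _ e'
    replace e := mul_left_cancel e
    have e' := congrArg (fun g => ac g (wB.getD 3 0)) e
    simp only [hact (hc3 _).1 (z4 _ _) (hw 3 (by norm_num)).1, hlast _ _ 3 (by norm_num)] at e'
    obtain rfl := i3 _ _ e'
    replace e := mul_left_cancel e
    have hij : i = j := by
      have e2 : ridx (rA i) = ridx (rA j) := by
        have hk : ∀ d, d ∈ dB → rA i d = rA j d := fun d hd => by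
          have := congrArg (fun g => ac g d) e
          simp only [hact (haz _) (h.es.comm _ (Subtype.prop _)) (dB_spec d hd),
            h.ac_Q (Subtype.prop _) (dB_spec d hd), hai _ d (dB_spec d hd)] at this
          exact this
        simp only [ridx, hk 2 (by decide), hk 8 (by decide), hk 32 (by decide)]
      rw [ridx_rA _ i.2, ridx_rA _ j.2] at e2
      exact Fin.ext e2
    subst hij
    obtain rfl : q = r := Subtype.ext (mul_left_cancel e)
    rfl
  refine le_trans (le_of_eq ?_) (Nat.card_le_card_of_injective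
    (fun p => (⟨F p, hFN p, Subgroup.mem_centralizer_singleton_iff.2 (hFz p).eq⟩ :
      ↥(NA h ⊓ Subgroup.centralizer ({z} : Set G)))) fun p q e => hinj (congrArg Subtype.val e))
  simp only [Nat.card_prod, Nat.card_fin, h.card]

variable {C : Cfg z Q co ac x n m} (B : Base C)

namespace Base

include B in
/-- Orbit and stabiliser. -/
theorem card_NA : Nat.card (NA C.duo.fr) =
    759 * Nat.card ↥(NA C.duo.fr ⊓ Subgroup.centralizer ({z} : Set G)) := by
  classical
  set A := AG C.duo.fr
  set M := NA C.duo.fr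
  letI act : MulAction M A := MulAction.compHom A (conjAut A)
  have hzA : z ∈ A := EG_le_AG C.duo.fr (z_EG C.duo.fr)
  let zA : A := ⟨z, hzA⟩
  have horb : Nat.card (MulAction.orbit M zA) = B.OS.card := by
    rw [← Nat.card_eq_finsetCard]
    refine (Nat.card_congr (Equiv.ofBijective
      (fun s : B.OS => (⟨⟨B.el s.1, B.el_mem _⟩, ?_⟩ : MulAction.orbit M zA)) ⟨?_, ?_⟩)).symm
    · obtain ⟨g, hg, e⟩ := (B.mem_OS.1 s.2).2
      exact ⟨⟨g, hg⟩, Subtype.ext ((conjAut_apply ⟨g, hg⟩ zA).trans e)⟩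
    · intro s t e
      have := congrArg (fun a => ((a.1 : A) : G)) e
      exact Subtype.ext (B.el_inj (B.mem_OS.1 s.2).1 (B.mem_OS.1 t.2).1 this)
    · rintro ⟨⟨a, ha⟩, ⟨g, hg⟩⟩
      obtain ⟨s, hs, rfl⟩ := B.el_surj ha
      have e : (g : G) * z * (g : G)⁻¹ = B.el s := by
        rw [← conjAut_apply g zA]
        exact congrArg Subtype.val hg
      exact ⟨⟨s, B.mem_OS.2 ⟨hs, g, g.2, e⟩⟩, rfl⟩
  have hstab : Nat.card (MulAction.stabilizer M zA) =
      Nat.card ↥(M ⊓ Subgroup.centralizer ({z} : Set G) : Subgroup G) := by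
    refine Nat.card_congr
      { toFun := fun g => ⟨g.1.1, g.1.2, Subgroup.mem_centralizer_singleton_iff.2
          (mul_inv_eq_iff_eq_mul.1 ((conjAut_apply g.1 zA).symm.trans
            (congrArg Subtype.val (MulAction.mem_stabilizer_iff.1 g.2))))⟩
        invFun := fun g => ⟨⟨g.1, g.2.1⟩, MulAction.mem_stabilizer_iff.2 (Subtype.ext
          ((conjAut_apply (⟨g.1, g.2.1⟩ : M) zA).trans
            (mul_inv_eq_iff_eq_mul.2 (Subgroup.mem_centralizer_singleton_iff.1 g.2.2))))⟩
        left_inv := fun _ => rfl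
        right_inv := fun _ => rfl }
  rw [← hstab, ← B.OS_759.1, ← horb, Nat.card_congr (MulAction.orbitEquivQuotientStabilizer M zA),
    ← Subgroup.card_eq_card_quotient_mul_card_subgroup]

theorem act24_range_eq (hB : ∀ s < 2048, (B.O s ↔ zmask0.testBit s = true)) :
    (B.act24 hB).range = Cfsg.M24 ∧ Nat.card (NA C.duo.fr) = 244823040 * 2 ^ 11 := by
  have h1 := Subgroup.card_eq_card_quotient_mul_card_subgroup (B.act24 hB).ker
  rw [Nat.card_congr (QuotientGroup.quotientKerEquivRange (B.act24 hB)).toEquiv, B.act24_ker hB,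
    Nat.card_congr (Subgroup.subgroupOfEquivOfLe (H := AG C.duo.fr) (K := NA C.duo.fr)
      Subgroup.le_normalizer).toEquiv, B.card_AG] at h1
  have h2 := B.card_NA
  have h3 := card_stab_ge C
  have hle := B.act24_range hB
  have hcard : Nat.card (B.act24 hB).range ≤ 244823040 := card_M24 ▸ Nat.le_of_dvd Nat.card_pos
    (Subgroup.card_dvd_of_le hle)
  rw [h1] at h2
  have heq : Nat.card (B.act24 hB).range = 244823040 := by
    generalize Nat.card ↥(NA C.duo.fr ⊓ Subgroup.centralizer ({z} : Set G)) = K at h2 h3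
    generalize Nat.card (B.act24 hB).range = R at h2 hcard ⊢
    norm_num at h2
    omega
  exact ⟨Subgroup.eq_of_le_of_card_ge hle (by rw [heq, card_M24]), by rw [h1, heq]⟩

/-- `N(A)/A` is the group of the code. -/
theorem quotient_M24 (hB : ∀ s < 2048, (B.O s ↔ zmask0.testBit s = true)) :
    ∃ _ : ((AG C.duo.fr).subgroupOf (NA C.duo.fr)).Normal,
      Nonempty (↥(NA C.duo.fr) ⧸ (AG C.duo.fr).subgroupOf (NA C.duo.fr) ≃* ↥Cfsg.M24) := by
  have hn : ((AG C.duo.fr).subgroupOf (NA C.duo.fr)).Normal := Subgroup.normal_in_normalizer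
  refine ⟨hn, ⟨((QuotientGroup.quotientMulEquivOfEq (B.act24_ker hB).symm).trans
    (QuotientGroup.quotientKerEquivRange (B.act24 hB))).trans
    (MulEquiv.subgroupCongr (B.act24_range_eq hB).1)⟩⟩

end Base

end Cfsg.Agent.Lib.Co1Golay43
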