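import Cfsg.Agent.Lib.Co1Golay43.Check

/-!
# Conway type: upper unitriangular elements of the stabiliser of two opposite subspaces

The six root elements lie in the radicals of four further subspaces of the class of the first one.

Owner: helper43.
-/

set_option autoImplicit false
set_option maxRecDepth 100000

namespace Cfsg.Agent.Lib.Co1Golay43

open Cfsg.Agent.Lib.Co1Type31

/-- membership in the subspace (`170`) or in its dual (`85`) -/
def side (M k : ℕ) : Bool := Nat.beq (k &&& M) 0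

/-- the four coordinate vectors of a side -/
def sideB (M : ℕ) : List ℕ := bif Nat.beq M 170 then wB else dB

/-- the lines of the root elements -/
def ktP : List (ℕ × ℕ) := [(1, 8), (4, 32), (16, 128), (1, 32), (4, 128), (1, 128)]

/-- the root elements -/
def kt (n k : ℕ) : ℕ := sg (ktP.getD n (0, 0)).1 (ktP.getD n (0, 0)).2 k

/-- root, change of subspace, code in the radical -/
def ktL : List (ℕ × (ℕ × ℕ) × ℕ) :=
  [(0, (12, 192), 1), (2, (12, 192), 32), (5, (12, 192), 4), (0, (12, 48), 1), (3, (12, 48), 2),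
    (1, (48, 192), 8), (3, (48, 192), 2), (4, (48, 192), 16), (5, (48, 192), 4), (2, (3, 192), 32),
    (4, (3, 192), 16)]

/-- a combination of the root elements -/
def ktN (a b c d e f : Bool) (k : ℕ) : ℕ :=
  let ap : Bool → ℕ → ℕ → ℕ := fun t n v => bif t then kt n v else v
  ap a 0 (ap b 1 (ap c 2 (ap d 3 (ap e 4 (ap f 5 k)))))

theorem kt_lin : ∀ n < 6, (ktP.getD n (0, 0)).1 < 256 ∧ (ktP.getD n (0, 0)).2 < 256 := by decide +kernel

theorem ktL_spec : ktL.all (fun e => decide (e.1 < 6) && decide (e.2.2 < 64) && okWord [e.2.1] &&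
    (List.range 256).all fun k => Nat.beq (pr e.2.1 (pr e.2.1 k)) k &&
      Nat.beq (pr e.2.1 (rA e.2.2 (pr e.2.1 k))) (kt e.1 k)) = true := by decide +kernel

theorem kt_side : ∀ n < 6, ∀ M ∈ [170, 85], ∀ v ∈ sideB M, side M (kt n v) = true := by decide +kernel

theorem kt_W : ∀ n < 6, ∀ w ∈ wB, inW (kt n w) = true := by decide +kernel

theorem sign_key : ∀ e ∈ ktL, ∀ sm < 256,
    (∀ j < 8, inW (pr e.2.1 (2 ^ j)) = true → sm.testBit j = false) →
    ∃ w ∈ (List.range 256).filter inW, ∀ j < 8, bn (pr e.2.1 w) (2 ^ j) = sm.testBit j := by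
  decide +kernel

theorem ktN_comm : ∀ k < 256, kt 0 (kt 1 (kt 0 (kt 1 k))) = kt 3 k ∧
    kt 1 (kt 2 (kt 1 (kt 2 k))) = kt 4 k ∧ kt 0 (kt 4 (kt 0 (kt 4 k))) = kt 5 k := by decide +kernel

theorem ktN_inj : ∀ a b c d e f a' b' c' d' e' f' : Bool,
    (∀ w ∈ wB, ktN a b c d e f w = ktN a' b' c' d' e' f' w) →
      a = a' ∧ b = b' ∧ c = c' ∧ d = d' ∧ e = e' ∧ f = f' := by decide +kernel

theorem ktN_W : ∀ a b c d e f : Bool, ∀ w ∈ wB, inW (ktN a b c d e f w) = true := by decide +kernel

end Cfsg.Agent.Lib.Co1Golay43
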