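import Cfsg.Agent.Lib.Co1Golay43.Stab
import Cfsg.Agent.Lib.Co1Golay43.StdData

/-!
# Conway type: the root elements normalising lifts of two opposite subspaces

`E0` and `E4` are complements to `z` over the subspace and its dual.  Every root element has a lift
normalising both, unique up to `z`; two of them lying in the radical of one subspace commute, as the
group of order `2^11` of that subspace is elementary abelian.

Owner: helper43.
-/

set_option autoImplicit false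
set_option maxRecDepth 100000
set_option linter.unusedSectionVars false

namespace Cfsg.Agent.Lib.Co1Golay43

open Cfsg.Agent.Lib.Co1Type31

theorem side_facts : ∀ M ∈ [170, 85],
    (∀ v ∈ sideB M, v < 256 ∧ side M v = true ∧ qn v = false) ∧
    (∀ v ∈ sideB M, ∀ w ∈ sideB M, bn v w = false) ∧
    (∀ b0 b1 b2 b3 : Bool, side M (((bif b0 then (sideB M).getD 0 0 else 0) ^^^ (bif b1 then (sideB M).getD 1 0 else 0)) ^^^
        ((bif b2 then (sideB M).getD 2 0 else 0) ^^^ (bif b3 then (sideB M).getD 3 0 else 0))) = true ∧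
      (((bif b0 then (sideB M).getD 0 0 else 0) ^^^ (bif b1 then (sideB M).getD 1 0 else 0)) ^^^
        ((bif b2 then (sideB M).getD 2 0 else 0) ^^^ (bif b3 then (sideB M).getD 3 0 else 0)) = 0 →
        b0 = false ∧ b1 = false ∧ b2 = false ∧ b3 = false)) ∧
    (∀ k < 256, side M k = true → ∃ b0 b1 b2 b3 : Bool,
      k = ((bif b0 then (sideB M).getD 0 0 else 0) ^^^ (bif b1 then (sideB M).getD 1 0 else 0)) ^^^
        ((bif b2 then (sideB M).getD 2 0 else 0) ^^^ (bif b3 then (sideB M).getD 3 0 else 0))) ∧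
    (∀ i < 4, (sideB M).getD i 0 ∈ sideB M) ∧
    ((List.range 256).filter (side M)).length = 16 := by decide +kernel

theorem bit8_side : ∀ j < 8, (2 : ℕ) ^ j ∈ sideB 170 ∨ (2 : ℕ) ^ j ∈ sideB 85 := by decide

theorem sideB_disjoint : ∀ v ∈ sideB 170, v ∉ sideB 85 := by decide

theorem sideB_bit : ∀ M ∈ [170, 85], ∀ v ∈ sideB M, ∃ j < 8, v = 2 ^ j := by decide

theorem bn_all : ∀ k < 256, (∀ j < 8, bn k (2 ^ j) = false) → k = 0 := by decide +kernel

variable {G : Type*} [Group G] {z : G} {Q : Subgroup G} {co : G → ℕ} {ac : G → ℕ → ℕ}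

omit [Group G] in
theorem pw4_mul {M : Type*} [Group M] {r0 r1 r2 r3 : M} (h : ∀ r ∈ [r0, r1, r2, r3], r * r = 1)
    (hc : ∀ r ∈ [r0, r1, r2, r3], ∀ s ∈ [r0, r1, r2, r3], Commute r s) (a b c d a' b' c' d' : Bool) :
    (pw r0 a * pw r1 b * (pw r2 c * pw r3 d)) * (pw r0 a' * pw r1 b' * (pw r2 c' * pw r3 d')) =
      pw r0 (Bool.xor a a') * pw r1 (Bool.xor b b') * (pw r2 (Bool.xor c c') * pw r3 (Bool.xor d d')) := by
  have hp : ∀ r ∈ [r0, r1, r2, r3], ∀ s ∈ [r0, r1, r2, r3], ∀ p q, Commute (pw r p) (pw s q) := by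
    intro r hr s hs p q
    cases p <;> cases q <;> simp [pw, hc r hr s hs]
  have h1 : Commute (pw r2 c * pw r3 d) (pw r0 a' * pw r1 b') :=
    ((hp _ (by simp) _ (by simp) c a').mul_right (hp _ (by simp) _ (by simp) c b')).mul_left
      ((hp _ (by simp) _ (by simp) d a').mul_right (hp _ (by simp) _ (by simp) d b'))
  rw [h1.mul_mul_mul_comm, (hp r1 (by simp) r0 (by simp) b a').mul_mul_mul_comm,
    (hp r3 (by simp) r2 (by simp) d c').mul_mul_mul_comm, pw_mul (h r0 (by simp)), pw_mul (h r1 (by simp)),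
    pw_mul (h r2 (by simp)), pw_mul (h r3 (by simp))]

/-- A complement of `z` over a side. -/
structure Side (h : Frame z Q co ac) (M : ℕ) (E : Subgroup G) : Prop where
  le : E ≤ Q
  z_not : z ∉ E
  code : ∀ r ∈ E, side M (co r) = true
  surj : ∀ k < 256, side M k = true → ∃ r ∈ E, co r = k
  min : ∀ H : Subgroup G, (∀ v ∈ sideB M, ∀ r ∈ E, co r = v → r ∈ H) → E ≤ H
  inv : ∀ r ∈ E, r * r = 1

theorem exists_side (h : Frame z Q co ac) {M : ℕ} (hM : M ∈ [170, 85]) : ∃ E, Side h M E := by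
  obtain ⟨hv, hbn, hcomb, hspan, hget, -⟩ := side_facts M hM
  choose r hr hrc using fun i : Fin 4 => h.co_surj _ (hv _ (hget i i.2)).1
  have hsq : ∀ s ∈ [r 0, r 1, r 2, r 3], s * s = 1 := by
    intro s hs
    simp only [List.mem_cons, List.not_mem_nil, or_false] at hs
    obtain ⟨i, rfl⟩ : ∃ i, s = r i := by rcases hs with e | e | e | e <;> exact ⟨_, e⟩
    rw [h.sq _ (hr i), hrc, (hv _ (hget i i.2)).2.2]; rfl
  have hcm : ∀ s ∈ [r 0, r 1, r 2, r 3], ∀ t ∈ [r 0, r 1, r 2, r 3], Commute s t := by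
    intro s hs t ht
    simp only [List.mem_cons, List.not_mem_nil, or_false] at hs ht
    obtain ⟨i, rfl⟩ : ∃ i, s = r i := by rcases hs with e | e | e | e <;> exact ⟨_, e⟩
    obtain ⟨j, rfl⟩ : ∃ j, t = r j := by rcases ht with e | e | e | e <;> exact ⟨_, e⟩
    refine (h.commute_Q (hr i) (hr j)).2 ?_
    rw [hrc, hrc]
    exact hbn _ (hget i i.2) _ (hget j j.2)
  let f : Bool → Bool → Bool → Bool → G := fun a b c d => pw (r 0) a * pw (r 1) b * (pw (r 2) c * pw (r 3) d)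
  have hmul : ∀ a b c d a' b' c' d', f a b c d * f a' b' c' d' =
      f (Bool.xor a a') (Bool.xor b b') (Bool.xor c c') (Bool.xor d d') := pw4_mul hsq hcm
  have h1 : f false false false false = 1 := by simp [f, pw]
  let E : Subgroup G :=
    { carrier := {g | ∃ a b c d, g = f a b c d}
      one_mem' := ⟨_, _, _, _, h1.symm⟩
      mul_mem' := by
        rintro _ _ ⟨a, b, c, d, rfl⟩ ⟨a', b', c', d', rfl⟩
        exact ⟨_, _, _, _, hmul ..⟩
      inv_mem' := by
        rintro _ ⟨a, b, c, d, rfl⟩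
        refine ⟨a, b, c, d, inv_eq_of_mul_eq_one_right ?_⟩
        rw [hmul]; simp only [Bool.xor_self]; exact h1 }
  have hpQ : ∀ i b, pw (r i) b ∈ Q ∧ co (pw (r i) b) = bif b then (sideB M).getD i.1 0 else 0 := by
    intro i b
    cases b
    · exact ⟨one_mem Q, h.co_one⟩
    · exact ⟨hr i, hrc i⟩
  have hf : ∀ a b c d, f a b c d ∈ Q ∧ co (f a b c d) =
      ((bif a then (sideB M).getD 0 0 else 0) ^^^ (bif b then (sideB M).getD 1 0 else 0)) ^^^
        ((bif c then (sideB M).getD 2 0 else 0) ^^^ (bif d then (sideB M).getD 3 0 else 0)) := by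
    intro a b c d
    obtain ⟨q0, c0⟩ := hpQ 0 a
    obtain ⟨q1, c1⟩ := hpQ 1 b
    obtain ⟨q2, c2⟩ := hpQ 2 c
    obtain ⟨q3, c3⟩ := hpQ 3 d
    refine ⟨mul_mem (mul_mem q0 q1) (mul_mem q2 q3), ?_⟩
    rw [h.co_mul _ (mul_mem q0 q1) _ (mul_mem q2 q3), h.co_mul _ q0 _ q1, h.co_mul _ q2 _ q3, c0, c1, c2, c3]
    rfl
  refine ⟨E, ?_, ?_, ?_, fun k hk hs => ?_, fun H hH => ?_, ?_⟩
  · rintro _ ⟨a, b, c, d, rfl⟩; exact (hf a b c d).1
  · rintro ⟨a, b, c, d, e⟩
    have := (hf a b c d).2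
    rw [← e, h.co_z] at this
    obtain ⟨rfl, rfl, rfl, rfl⟩ := (hcomb a b c d).2 this.symm
    exact h.es.ne (e.trans h1)
  · rintro _ ⟨a, b, c, d, rfl⟩
    rw [(hf a b c d).2]; exact (hcomb a b c d).1
  · obtain ⟨a, b, c, d, e⟩ := hspan k hk hs
    exact ⟨_, ⟨a, b, c, d, rfl⟩, by rw [(hf a b c d).2, e]⟩
  · have hmem : ∀ i : Fin 4, r i ∈ H := fun i => by
      refine hH _ (hget i i.2) _ ?_ (hrc i)
      fin_cases i
      · exact ⟨true, false, false, false, by simp [f, pw]⟩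
      · exact ⟨false, true, false, false, by simp [f, pw]⟩
      · exact ⟨false, false, true, false, by simp [f, pw]⟩
      · exact ⟨false, false, false, true, by simp [f, pw]⟩
    have hp : ∀ i b, pw (r i) b ∈ H := fun i b => by
      cases b
      exacts [one_mem H, hmem i]
    rintro _ ⟨a, b, c, d, rfl⟩
    exact mul_mem (mul_mem (hp 0 a) (hp 1 b)) (mul_mem (hp 2 c) (hp 3 d))
  · rintro _ ⟨a, b, c, d, rfl⟩
    rw [hmul]; simp only [Bool.xor_self]; exact h1

variable {h : Frame z Q co ac} {M : ℕ} {E E0 E4 : Subgroup G}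

theorem Side.co_inj (hE : Side h M E) {r s : G} (hr : r ∈ E) (hs : s ∈ E) (e : co r = co s) : r = s := by
  have h0 := h.co_mul r (hE.le hr) s (hE.le hs)
  rw [e, Nat.xor_self] at h0
  rcases h.co_zero _ (mul_mem (hE.le hr) (hE.le hs)) h0 with e' | e'
  · rw [eq_inv_of_mul_eq_one_left e', inv_eq_of_mul_eq_one_right (hE.inv s hs)]
  · exact absurd (e' ▸ mul_mem hr hs) hE.z_not

theorem Side.card (hE : Side h M E) (hM : M ∈ [170, 85]) : Nat.card E = 16 := by
  obtain ⟨-, -, -, -, -, hlen⟩ := side_facts M hM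
  rw [← hlen, ← List.toFinset_card_of_nodup (List.nodup_range.filter _), ← Nat.card_eq_finsetCard]
  refine Nat.card_congr (Equiv.ofBijective (fun r : E => ⟨co (r : G), ?_⟩) ⟨?_, ?_⟩)
  · rw [List.mem_toFinset, List.mem_filter, List.mem_range]
    exact ⟨h.co_lt _ (hE.le r.2), hE.code _ r.2⟩
  · exact fun a b e => Subtype.ext (hE.co_inj a.2 b.2 (congrArg Subtype.val e))
  · rintro ⟨k, hk⟩
    rw [List.mem_toFinset, List.mem_filter, List.mem_range] at hk
    obtain ⟨r, hr, e⟩ := hE.surj k hk.1 hk.2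
    exact ⟨⟨r, hr⟩, Subtype.ext e⟩

/-- The elements normalising both complements. -/
def Std (z : G) (E0 E4 : Subgroup G) : Subgroup G :=
  Subgroup.centralizer ({z} : Set G) ⊓ (Subgroup.normalizer (E0 : Set G) ⊓ Subgroup.normalizer (E4 : Set G))

theorem Std.comm {u : G} (hu : u ∈ Std z E0 E4) : Commute u z :=
  Subgroup.mem_centralizer_singleton_iff.1 hu.1

variable [Finite G]

theorem mem_norm_of {c : G} (hc : ∀ r ∈ E, c * r * c⁻¹ ∈ E) : c ∈ Subgroup.normalizer (E : Set G) := by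
  refine Subgroup.mem_normalizer_iff.2 fun a => ⟨hc a, fun ha => ?_⟩
  have hinj : Function.Injective fun b : E => (⟨c * b * c⁻¹, hc b b.2⟩ : E) := fun u v e =>
    Subtype.ext (by simpa using congrArg Subtype.val e)
  obtain ⟨b, e⟩ := (Finite.injective_iff_surjective.1 hinj) ⟨_, ha⟩
  have : (b : G) = a := by simpa using congrArg Subtype.val e
  exact this ▸ b.2

variable (h0 : Side h 170 E0) (h4 : Side h 85 E4)
include h0 h4

theorem Std.kernel {q : G} (hq : q ∈ Std z E0 E4) (hqQ : q ∈ Q) : q = 1 ∨ q = z := by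
  refine h.co_zero q hqQ (bn_all _ (h.co_lt q hqQ) fun j hj => ?_)
  obtain ⟨M, E, hM, hE, hv, hn⟩ : ∃ (M : ℕ) (E : Subgroup G), M ∈ [170, 85] ∧ Side h M E ∧
      2 ^ j ∈ sideB M ∧ q ∈ Subgroup.normalizer (E : Set G) := by
    rcases bit8_side j hj with hv | hv
    exacts [⟨170, E0, by simp, h0, hv, hq.2.1⟩, ⟨85, E4, by simp, h4, hv, hq.2.2⟩]
  obtain ⟨hlt, hs, -⟩ := (side_facts M hM).1 _ hv
  obtain ⟨r, hr, e⟩ := hE.surj _ hlt hs
  have hc := h.comm_Q hqQ (hE.le hr)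
  have hmem := (Subgroup.mem_normalizer_iff.1 hn r).1 hr
  rw [hc, e] at hmem
  cases hb : bn (co q) (2 ^ j)
  · rfl
  · rw [hb] at hmem
    exact absurd (by simpa [pw] using mul_mem (inv_mem hr) hmem) hE.z_not

theorem Std.eq_or {u v : G} (hu : u ∈ Std z E0 E4) (hv : v ∈ Std z E0 E4)
    (e : ∀ k < 256, ac u k = ac v k) : v = u ∨ v = u * z := by
  have hQ : u⁻¹ * v ∈ Q := h.faithful _ ((Std.comm hu).inv_left.mul_left (Std.comm hv)) fun k hk => by
    rw [h.ac_mul (Std.comm hu).inv_left (Std.comm hv) hk, ← e k hk, h.ac_inv (Std.comm hu) hk]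
  rcases Std.kernel h0 h4 (mul_mem (inv_mem hu) hv) hQ with e' | e'
  · exact Or.inl (inv_mul_eq_one.1 e').symm
  · exact Or.inr (by rw [← e']; group)

/-- A lift of a root element in a conjugate of `A`. -/
theorem exists_exact {ent : ℕ × (ℕ × ℕ) × ℕ} (he : ent ∈ ktL) {c : G} (hc : Commute c z)
    (hck : ∀ k < 256, ac c k = pr ent.2.1 k) :
    ∃ a ∈ AG h, c * a * c⁻¹ ∈ Std z E0 E4 ∧ ∀ k < 256, ac (c * a * c⁻¹) k = kt ent.1 k := by
  classical
  obtain ⟨n, p, i⟩ := ent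
  have hsp := List.all_eq_true.1 ktL_spec _ he
  simp only [Bool.and_eq_true, decide_eq_true_eq, List.all_eq_true, List.mem_range] at hsp
  obtain ⟨⟨⟨hn, hi⟩, hok⟩, hP⟩ := hsp
  change ∀ k < 256, ac c k = pr p k at hck
  obtain ⟨a, ha, hai⟩ := exists_lift h hi
  have hlt : ∀ k < 256, pr p k < 256 := fun k hk => (prs_lin hok).lt k hk
  have hPP : ∀ k < 256, pr p (pr p k) = k := fun k hk => Nat.eq_of_beq_eq_true (hP k hk).1
  have hcinv : ∀ k < 256, ac c⁻¹ k = pr p k := fun k hk => by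
    have hk' := h.ac_lt hc.inv_left hk
    have e := h.ac_inv' hc hk
    rw [hck _ hk'] at e
    calc ac c⁻¹ k = pr p (pr p (ac c⁻¹ k)) := (hPP _ hk').symm
      _ = pr p k := by rw [e]
  have hconj : ∀ {b : G}, b ∈ AG h → ActA ac b i → ∀ k < 256, ac (c * b * c⁻¹) k = kt n k := by
    intro b hb hbi k hk
    have hk' := hlt k hk
    rw [h.ac_conj (AG_z h hb) hc hk, hcinv k hk, hbi _ hk', hck _ ((rA_lin i).lt _ hk')]
    exact Nat.eq_of_beq_eq_true (hP k hk).2
  set a' := c * a * c⁻¹ with ha'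
  have hz' : Commute a' z := (hc.mul_left (AG_z h ha)).mul_left hc.inv_left
  -- the signs
  have hj : ∀ j < 8, ∃ (M : ℕ) (E : Subgroup G) (r : G) (s : Bool), M ∈ [170, 85] ∧ Side h M E ∧
      2 ^ j ∈ sideB M ∧ (E = E0 ∧ M = 170 ∨ E = E4 ∧ M = 85) ∧ r ∈ E ∧ co r = 2 ^ j ∧
      a' * r * a'⁻¹ * pw z s ∈ E ∧ (inW (pr p (2 ^ j)) = true → s = false) := by
    intro j hj
    obtain ⟨M, E, hM, hE, hv, hor⟩ : ∃ (M : ℕ) (E : Subgroup G), M ∈ [170, 85] ∧ Side h M E ∧
        2 ^ j ∈ sideB M ∧ (E = E0 ∧ M = 170 ∨ E = E4 ∧ M = 85) := by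
      rcases bit8_side j hj with hv | hv
      exacts [⟨170, E0, by simp, h0, hv, Or.inl ⟨rfl, rfl⟩⟩, ⟨85, E4, by simp, h4, hv, Or.inr ⟨rfl, rfl⟩⟩]
    obtain ⟨hvlt, hvs, -⟩ := (side_facts M hM).1 _ hv
    obtain ⟨r, hr, e⟩ := hE.surj _ hvlt hvs
    by_cases hW : inW (pr p (2 ^ j)) = true
    · refine ⟨M, E, r, false, hM, hE, hv, hor, hr, e, ?_, fun _ => rfl⟩
      have hrE : c⁻¹ * r * c ∈ EG h := by
        have hn := h.norm c⁻¹ hc.inv_left r (hE.le hr)
        rw [inv_inv] at hn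
        refine ⟨hn, ?_⟩
        have := h.conj c⁻¹ hc.inv_left r (hE.le hr)
        rw [inv_inv, e, hcinv _ hvlt] at this
        rw [this]; exact hW
      have hcomm : a' * r * a'⁻¹ = r := by
        rw [ha', show c * a * c⁻¹ * r * (c * a * c⁻¹)⁻¹ = c * (a * (c⁻¹ * r * c) * a⁻¹) * c⁻¹ by group,
          mul_inv_eq_iff_eq_mul.2 (AG_comm h ha hrE).eq]
        group
      rw [hcomm, show pw z false = 1 from rfl, mul_one]
      exact hr
    · have hq := h.norm a' hz' r (hE.le hr)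
      obtain ⟨r', hr', e'⟩ := hE.surj _ (h.ac_lt hz' hvlt) (by
        rw [hconj ha hai _ hvlt]; exact kt_side n hn M hM _ hv)
      have hce := h.conj a' hz' r (hE.le hr)
      rw [e] at hce
      rcases h.co_eq (hE.le hr') hq (e'.trans hce.symm) with e2 | e2
      · exact ⟨M, E, r, false, hM, hE, hv, hor, hr, e, by
          rw [e2, show pw z false = 1 from rfl, mul_one]; exact hr', fun hh => absurd hh hW⟩
      · exact ⟨M, E, r, true, hM, hE, hv, hor, hr, e, by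
          rw [e2, show pw z true = z from rfl, mul_assoc, h.es.sq, mul_one]; exact hr', fun hh => absurd hh hW⟩
  choose! MM EE R s hMM hEE hv hor hR hRc hmem hs using hj
  set sm := Nat.ofBits fun j : Fin 8 => s j with hsm
  have hsmb : ∀ j < 8, sm.testBit j = s j := fun j hj => Nat.testBit_ofBits_lt _ _ hj
  obtain ⟨w, hw, hbw⟩ := sign_key _ he sm (Nat.ofBits_lt_two_pow _) fun j hj hW => by
    rw [hsmb j hj]; exact hs j hj hW
  rw [List.mem_filter, List.mem_range] at hw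
  change ∀ j < 8, bn (pr p w) (2 ^ j) = sm.testBit j at hbw
  obtain ⟨q, hq, hqc⟩ := h.co_surj w hw.1
  have hqE : q ∈ EG h := ⟨hq, by rw [hqc]; exact hw.2⟩
  have hb := mul_mem ha (EG_le_AG h hqE)
  have hbi : ActA ac (a * q) i := fun k hk => by
    rw [h.ac_mul (AG_z h ha) (h.es.comm q hq) hk, h.ac_Q hq hk, hai k hk]
  refine ⟨a * q, hb, ?_, hconj hb hbi⟩
  set q' := c * q * c⁻¹ with hq'
  have hqQ : q' ∈ Q := h.norm c hc q hq
  have hq'c : co q' = pr p w := by rw [hq', h.conj c hc q hq, hqc, hck w hw.1]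
  have hu : c * (a * q) * c⁻¹ = a' * q' := by rw [ha', hq']; group
  have hbit : ∀ j < 8, (a' * q') * R j * (a' * q')⁻¹ ∈ EE j := by
    intro j hj
    have e : (a' * q') * R j * (a' * q')⁻¹ = a' * R j * a'⁻¹ * (a' * pw z (s j) * a'⁻¹) := by
      rw [show (a' * q') * R j * (a' * q')⁻¹ = a' * (q' * R j * q'⁻¹) * a'⁻¹ by group,
        h.comm_Q hqQ ((hEE j hj).le (hR j hj)), hq'c, hRc j hj, hbw j hj, hsmb j hj]
      group
    have hz : a' * pw z (s j) * a'⁻¹ = pw z (s j) := by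
      cases s j
      · simp [pw]
      · exact mul_inv_eq_iff_eq_mul.2 hz'.eq
    rw [e, hz]
    exact hmem j hj
  have hside : ∀ (M : ℕ) (E : Subgroup G), M ∈ [170, 85] → Side h M E → (E = E0 ∧ M = 170 ∨ E = E4 ∧ M = 85) →
      a' * q' ∈ Subgroup.normalizer (E : Set G) := by
    intro M E hM hE hEor
    refine mem_norm_of fun r hr => ?_
    have hle : E ≤ E.comap (MulAut.conj (a' * q')).toMonoidHom := by
      refine hE.min _ fun v hv' r hr e => ?_
      obtain ⟨j, hj, rfl⟩ := sideB_bit M hM v hv'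
      have hEq : EE j = E := by
        rcases hor j hj with ⟨a1, b1⟩ | ⟨a1, b1⟩ <;> rcases hEor with ⟨a2, b2⟩ | ⟨a2, b2⟩
        · rw [a1, a2]
        · exact absurd (b2 ▸ hv') (sideB_disjoint _ (b1 ▸ hv j hj))
        · exact absurd (b1 ▸ hv j hj) (sideB_disjoint _ (b2 ▸ hv'))
        · rw [a1, a2]
      have hRj : r = R j := hE.co_inj hr (hEq ▸ hR j hj) (e.trans (hRc j hj).symm)
      show (a' * q') * r * (a' * q')⁻¹ ∈ E
      rw [hRj, ← hEq]
      exact hbit j hj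
    exact hle hr
  rw [hu]
  exact ⟨Subgroup.mem_centralizer_singleton_iff.2 (hz'.mul_left (h.es.comm _ hqQ)).eq,
    hside 170 E0 (by simp) h0 (Or.inl ⟨rfl, rfl⟩), hside 85 E4 (by simp) h4 (Or.inr ⟨rfl, rfl⟩)⟩

variable {x n m : G}

omit h0 h4 in
theorem ktL_word (h : Frame z Q co ac) {ent : ℕ × (ℕ × ℕ) × ℕ} (he : ent ∈ ktL) :
    ∃ c, Commute c z ∧ ∀ k < 256, ac c k = pr ent.2.1 k := by
  have hsp := List.all_eq_true.1 ktL_spec _ he
  simp only [Bool.and_eq_true] at hsp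
  obtain ⟨c, hc, hck⟩ := h.exists_prs hsp.1.2
  exact ⟨c, hc, fun k hk => hck k hk⟩

theorem exists_root_lift {ent : ℕ × (ℕ × ℕ) × ℕ} (he : ent ∈ ktL) :
    ∃ u ∈ Std z E0 E4, ∀ k < 256, ac u k = kt ent.1 k := by
  obtain ⟨c, hc, hck⟩ := ktL_word h he
  obtain ⟨a, -, h1, h2⟩ := exists_exact h0 h4 he hc hck
  exact ⟨_, h1, h2⟩

omit h0 h4 in
/-- Two root elements in one radical commute. -/
theorem root_commute (C : Cfg z Q co ac x n m) (h0 : Side C.duo.fr 170 E0) (h4 : Side C.duo.fr 85 E4)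
    {e e' : ℕ × (ℕ × ℕ) × ℕ} (he : e ∈ ktL) (he' : e' ∈ ktL) (hp : e.2.1 = e'.2.1) {u v : G}
    (hu : u ∈ Std z E0 E4) (hv : v ∈ Std z E0 E4) (huk : ∀ k < 256, ac u k = kt e.1 k)
    (hvk : ∀ k < 256, ac v k = kt e'.1 k) : Commute u v ∧ u * u = 1 := by
  obtain ⟨c, hc, hck⟩ := ktL_word C.duo.fr he
  obtain ⟨a, ha, ha1, ha2⟩ := exists_exact h0 h4 he hc hck
  obtain ⟨b, hb, hb1, hb2⟩ := exists_exact h0 h4 he' hc (hp ▸ hck)
  have hab : Commute (c * a * c⁻¹) (c * b * c⁻¹) := (AG_abelian C ha hb).map (MulAut.conj c).toMonoidHom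
  have haa : c * a * c⁻¹ * (c * a * c⁻¹) = 1 := by
    rw [show c * a * c⁻¹ * (c * a * c⁻¹) = c * (a * a) * c⁻¹ by group, AG_sq C ha]; group
  have hz : ∀ {g : G}, g ∈ Std z E0 E4 → Commute g z := fun hg => Std.comm hg
  rcases Std.eq_or h0 h4 ha1 hu (fun k hk => (ha2 k hk).trans (huk k hk).symm) with rfl | rfl <;>
    rcases Std.eq_or h0 h4 hb1 hv (fun k hk => (hb2 k hk).trans (hvk k hk).symm) with rfl | rfl
  · exact ⟨hab, haa⟩
  · exact ⟨hab.mul_right (hz ha1), haa⟩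
  · refine ⟨hab.mul_left (hz hb1).symm, ?_⟩
    rw [(hz ha1).symm.mul_mul_mul_comm, haa, C.duo.fr.es.sq, one_mul]
  · refine ⟨(hab.mul_left (hz hb1).symm).mul_right ((hz ha1).mul_left (Commute.refl z)), ?_⟩
    rw [(hz ha1).symm.mul_mul_mul_comm, haa, C.duo.fr.es.sq, one_mul]

end Cfsg.Agent.Lib.Co1Golay43
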