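import Cfsg.Agent.Lib.Co1Golay43.Coords

/-!
# Conway type: an element of the normaliser moving `z`

The transport of `A` by the element interchanging `z` and `x` is abelian, so it belongs to the same
class of singular subspaces and can be moved back to `A` fixing `z` and `x`.

Owner: helper43.
-/

set_option autoImplicit false
set_option maxRecDepth 100000

namespace Cfsg.Agent.Lib.Co1Golay43

open Cfsg.Agent.Lib.Co1Type31

/-- Pairs fixing `4` which move the singular vectors perpendicular to it to `16`. -/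
def fix4 : List (ℕ × ℕ) := [(12, 12), (48, 52), (48, 112), (48, 116), (48, 176), (48, 180), (48, 192),
  (48, 208), (48, 212), (52, 192), (112, 176), (112, 192), (112, 196), (112, 224), (112, 228), (116, 176),
  (176, 224), (176, 228)]

theorem fix4_spec : ∀ p ∈ fix4, p ∈ pairs6 ∧ pr p 4 = 4 := by decide +kernel

theorem fix4_cover : ∀ b ∈ w6, b ≠ 0 → b ≠ 4 → qn b = false → bn b 4 = false → ∃ p ∈ fix4, pr p b = 16 := by
  decide +kernel

theorem third_cases : ∀ t ∈ w6, qn t = false → bn t 4 = false → bn t 16 = false → t ≠ 0 → t ≠ 4 → t ≠ 16 →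
    t ≠ 20 → inW t = true ∨ inW (sw t) = true := by decide +kernel

variable {G : Type*} [Group G] [Finite G] {z : G} {Q : Subgroup G} {co : G → ℕ} {ac : G → ℕ → ℕ}

omit [Finite G] in
theorem EG_card_le [Finite G] (h : Frame z Q co ac) : Nat.card (EG h) ≤ 32 := by
  classical
  have hc : ∀ k < 256, ∃ r, r ∈ Q ∧ co r = k := fun k hk => h.co_surj k hk
  choose! R hR hRc using hc
  have hcode : ∀ r : EG h, ∃ s < 16, wcode (2 * s) = co (r : G) := by
    intro r
    have key : ∀ k < 256, inW k = true → ∃ s < 16, wcode (2 * s) = k := by decide +kernel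
    exact key _ (h.co_lt _ r.2.1) r.2.2
  choose S hS hSc using hcode
  refine (Nat.card_le_card_of_injective
    (fun r : EG h => ((⟨S r, hS r⟩ : Fin 16), decide ((r : G) = R (co (r : G))))) ?_).trans (by simp)
  intro a b e
  simp only [Prod.mk.injEq, Fin.mk.injEq] at e
  have hco : co (a : G) = co (b : G) := by rw [← hSc a, e.1, hSc b]
  have hl := h.co_lt _ a.2.1
  refine Subtype.ext ?_
  rcases h.co_eq (hR _ hl) a.2.1 (hRc _ hl) with ea | ea <;>
    rcases h.co_eq (hR _ hl) b.2.1 ((hRc _ hl).trans hco) with eb | eb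
  · exact ea.trans eb.symm
  · exfalso
    have h1 : decide ((a : G) = R (co (a : G))) = true := decide_eq_true ea
    have h2 : decide ((b : G) = R (co (b : G))) = false := decide_eq_false fun q => by
      rw [← hco] at q
      exact h.es.ne (left_eq_mul.1 (q.symm.trans eb))
    rw [e.2, h2] at h1
    exact Bool.noConfusion h1
  · exfalso
    have h1 : decide ((a : G) = R (co (a : G))) = false := decide_eq_false fun q =>
      h.es.ne (left_eq_mul.1 (q.symm.trans ea))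
    have h2 : decide ((b : G) = R (co (b : G))) = true := decide_eq_true (eb.trans (by rw [hco]))
    rw [e.2, h2] at h1
    exact Bool.noConfusion h1
  · exact ea.trans eb.symm

theorem AG_card_le (h : Frame z Q co ac) : Nat.card (AG h) ≤ 2 ^ 11 := by
  classical
  choose i hi hact using fun a : AG h => exists_actA h a.2
  choose L hL hLi using fun j : Fin 64 => exists_lift h j.2
  refine (Nat.card_le_card_of_injective
    (fun a : AG h => ((⟨i a, hi a⟩ : Fin 64),
      (⟨_, actA_quot h (hL ⟨i a, hi a⟩) a.2 (hLi _) (hact a)⟩ : EG h))) ?_).trans ?_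
  · intro a b e
    simp only [Prod.mk.injEq, Fin.mk.injEq, Subtype.mk.injEq] at e
    obtain ⟨e1, e2⟩ := e
    refine Subtype.ext ?_
    have hLe : L ⟨i a, hi a⟩ = L ⟨i b, hi b⟩ := by congr 1; exact Fin.ext e1
    rw [hLe] at e2
    exact mul_left_cancel e2
  · rw [Nat.card_prod, Nat.card_fin]
    have := EG_card_le h
    omega

variable {x n m : G} (C : Cfg z Q co ac x n m)
include C

/-- In the other class the centralizer is not abelian. -/
theorem other_not_abelian :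
    ¬ ∀ a ∈ AG (duo_sw C.duo).fr, ∀ b ∈ AG (duo_sw C.duo).fr, Commute a b := by
  intro hab
  set d' := duo_sw C.duo
  obtain ⟨u, hu, hua⟩ := C.duo.lift 128 (by decide +kernel)
  have hw : ∀ w ∈ wB, sw w < 256 ∧ b1 (sw w) = false ∧ bn (sw w) 4 = false ∧ bn (sw w) 16 = false ∧
      bn 128 (sw w &&& 252) = false := by decide +kernel
  have hm : m ∈ AG d'.fr := by
    refine mem_AG_of d'.fr C.mid.comm fun w hw' => ?_
    obtain ⟨h0, -, h4, h16, -⟩ := hw w hw'
    obtain ⟨r, hr, e⟩ := C.duo.fr.co_surj (sw w) h0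
    exact ⟨r, hr, by rw [coS, e, (sw_spec w (wB_spec w hw').1).2.1],
      (C.mid.cent r hr (by rw [e]; exact h4) (by rw [e]; exact h16)).symm⟩
  have hu' : u ∈ AG d'.fr := by
    refine mem_AG_of d'.fr hu.2 fun w hw' => ?_
    obtain ⟨h0, hb1, -, -, h128⟩ := hw w hw'
    obtain ⟨r, hr, e⟩ := C.duo.fr.co_surj (sw w) h0
    refine ⟨r, hr, by rw [coS, e, (sw_spec w (wB_spec w hw').1).2.1], ?_⟩
    have hrA : InA Q co r := ⟨hr, by rw [e]; exact hb1⟩
    have hc := C.duo.com_act 128 (by decide +kernel) u r hu hua hrA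
    rw [← bn_mask (by decide +kernel) (C.duo.fr.co_lt r hr) hrA.2, e, h128, C.duo.ee_zero] at hc
    exact (mul_inv_eq_iff_eq_mul.1 (mul_inv_eq_one.1 hc)).symm
  have e := C.bad u hu hua
  rw [mul_inv_eq_iff_eq_mul.2 (hab m hm u hu').eq] at e
  exact C.duo.fr.es.ne (left_eq_mul.1 e)

/-- An element of the normaliser of `A` sending `z` to `x`, and a conjugate of an element of `E` outside `Q`. -/
theorem exists_move : ∃ g ∈ Subgroup.normalizer (AG C.duo.fr : Set G), g * z * g⁻¹ = x ∧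
    ∃ r ∈ EG C.duo.fr, g * r * g⁻¹ ∉ Q := by
  classical
  set h := C.duo.fr
  have d := C.duo
  obtain ⟨B⟩ := exists_base C
  have hcardA : Nat.card (AG h) = 2 ^ 11 := B.card_AG
  -- the transported elements
  obtain ⟨g1, g2, g4, -, -⟩ := base_lines
  obtain ⟨u4, hu4, hu4a⟩ := d.lift 4 (by decide +kernel)
  obtain ⟨u16, hu16, hu16a⟩ := d.lift 16 (by decide +kernel)
  obtain ⟨u64, hu64, hu64a⟩ := d.lift 64 (by decide +kernel)
  obtain ⟨a4, -⟩ := inB_AG C (a := 4) (by simp) g1 hu4 hu4a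
  obtain ⟨a16, -⟩ := inB_AG C (a := 16) (by simp) g2 hu16 hu16a
  obtain ⟨a64, -⟩ := inB_AG C (a := 64) (by simp) g4 hu64 hu64a
  set r4 := n * u4 * n⁻¹ with hr4
  set r16 := n * u16 * n⁻¹ with hr16
  set r64 := n * u64 * n⁻¹ with hr64
  have A4 : InA Q co r4 := d.A_of_B hu4
  have A16 : InA Q co r16 := d.A_of_B hu16
  have A64 : InA Q co r64 := d.A_of_B hu64
  set v4 := co r4 &&& 252
  set v16 := co r16 &&& 252
  set v64 := co r64 &&& 252
  have hw6 : ∀ {r : G}, InA Q co r → co r &&& 252 ∈ w6 := fun hr => mem_w6 (h.co_lt _ hr.1)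
  -- singular and orthogonal
  have hq : ∀ {u : G}, u ∈ AG h → InA Q co (n * u * n⁻¹) → qn (co (n * u * n⁻¹) &&& 252) = false := by
    intro u ha hA
    rw [qn_mask (h.co_lt _ hA.1) hA.2]
    have e := h.sq _ hA.1
    rw [show n * u * n⁻¹ * (n * u * n⁻¹) = n * (u * u) * n⁻¹ by group, AG_sq C ha, mul_one,
      mul_inv_cancel] at e
    cases hb : qn (co (n * u * n⁻¹)) with
    | false => rfl
    | true => rw [hb] at e; exact absurd e.symm h.es.ne
  have hperp : ∀ {u u' : G}, u ∈ AG h → u' ∈ AG h → InA Q co (n * u * n⁻¹) → InA Q co (n * u' * n⁻¹) →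
      bn (co (n * u * n⁻¹) &&& 252) (co (n * u' * n⁻¹) &&& 252) = false := by
    intro u u' ha ha' hA hA'
    rw [bn_mask2 (h.co_lt _ hA.1) (h.co_lt _ hA'.1) hA.2 hA'.2]
    exact (h.commute_Q hA.1 hA'.1).1 ((AG_abelian C ha ha').map (MulAut.conj n).toMonoidHom)
  -- independent
  have hker : ∀ {u : G} {a : ℕ}, a ∈ w6 → InB Q n z u → Act ac u a → co (n * u * n⁻¹) &&& 252 = 0 → a = 0 := by
    intro u a ha hu hua e
    have hA := d.A_of_B hu
    have hc01 : co (n * u * n⁻¹) = 0 ∨ co (n * u * n⁻¹) = 1 := by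
      rcases mask_cases (h.co_lt _ hA.1) hA.2 with e' | e' <;> rw [e] at e'
      · exact Or.inl e'
      · exact Or.inr e'
    obtain ⟨i, j, e'⟩ := d.exists_ee hA.1 hc01
    have hu' : u = n⁻¹ * ee z x i j * n := by rw [← e']; group
    have hQu : u ∈ Q := by
      have h1 : n⁻¹ * pw x i * n ∈ Q := by
        cases i
        · simpa [pw] using one_mem Q
        · show n⁻¹ * x * n ∈ Q
          rw [d.nz']; exact h.es.mem
      have h2 : n⁻¹ * pw z j * n ∈ Q := by
        cases j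
        · simpa [pw] using one_mem Q
        · show n⁻¹ * z * n ∈ Q
          rw [d.nx']; exact d.xQ
      rw [hu', show n⁻¹ * ee z x i j * n = (n⁻¹ * pw x i * n) * (n⁻¹ * pw z j * n) by rw [ee]; group]
      exact mul_mem h1 h2
    exact eich_inj ha (by decide +kernel) fun k hk => by rw [← hua k hk, h.ac_Q hQu hk, eich_zero hk]
  have m4 : (4 : ℕ) ∈ w6 := by decide +kernel
  have m16 : (16 : ℕ) ∈ w6 := by decide +kernel
  have m64 : (64 : ℕ) ∈ w6 := by decide +kernel
  have hcomb : ∀ {u u' : G} {a a' : ℕ}, a ∈ w6 → a' ∈ w6 → InB Q n z u → InB Q n z u' → Act ac u a →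
      Act ac u' a' → InB Q n z (u * u') ∧ Act ac (u * u') (a ^^^ a') ∧
        co (n * (u * u') * n⁻¹) &&& 252 = (co (n * u * n⁻¹) &&& 252) ^^^ (co (n * u' * n⁻¹) &&& 252) := by
    intro u u' a a' ha ha' hu hu' hua hua'
    obtain ⟨h1, h2⟩ := d.act_mul hu hu' ha ha' hua hua'
    refine ⟨h1, h2, ?_⟩
    rw [show n * (u * u') * n⁻¹ = (n * u * n⁻¹) * (n * u' * n⁻¹) by group,
      h.co_mul _ (d.A_of_B hu).1 _ (d.A_of_B hu').1, xor_mask]
  have i4 : v4 ≠ 0 := fun e => absurd (hker m4 hu4 hu4a e) (by norm_num)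
  have i16 : v16 ≠ 0 := fun e => absurd (hker m16 hu16 hu16a e) (by norm_num)
  have i64 : v64 ≠ 0 := fun e => absurd (hker m64 hu64 hu64a e) (by norm_num)
  have n1 : v16 ≠ v4 := fun e => by
    obtain ⟨h1, h2, h3⟩ := hcomb m16 m4 hu16 hu4 hu16a hu4a
    change co (n * (u16 * u4) * n⁻¹) &&& 252 = v16 ^^^ v4 at h3
    rw [e, Nat.xor_self] at h3
    exact absurd (hker (w6_xor m16 m4) h1 h2 h3) (by decide)
  have n2 : ∀ (i j : Bool), v64 ≠ (bif i then v4 else 0) ^^^ (bif j then v16 else 0) := by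
    intro i j e
    obtain ⟨h1, h2, h3⟩ := hcomb m64 m4 hu64 hu4 hu64a hu4a
    change co (n * (u64 * u4) * n⁻¹) &&& 252 = v64 ^^^ v4 at h3
    obtain ⟨k1, k2, k3⟩ := hcomb m64 m16 hu64 hu16 hu64a hu16a
    change co (n * (u64 * u16) * n⁻¹) &&& 252 = v64 ^^^ v16 at k3
    obtain ⟨l1, l2, l3⟩ := hcomb (w6_xor m64 m4) m16 h1 hu16 h2 hu16a
    change co (n * (u64 * u4 * u16) * n⁻¹) &&& 252 = (co (n * (u64 * u4) * n⁻¹) &&& 252) ^^^ v16 at l3
    cases i <;> cases j <;> simp only [cond_true, cond_false, Nat.zero_xor, Nat.xor_zero] at e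
    · exact i64 e
    · rw [e, Nat.xor_self] at k3; exact absurd (hker (w6_xor m64 m16) k1 k2 k3) (by decide)
    · rw [e, Nat.xor_self] at h3; exact absurd (hker (w6_xor m64 m4) h1 h2 h3) (by decide)
    · rw [h3, e, Nat.xor_assoc, Nat.xor_assoc] at l3
      have : v4 ^^^ (v16 ^^^ (v4 ^^^ v16)) = 0 := by
        rw [Nat.xor_left_comm v16, ← Nat.xor_assoc, Nat.xor_self, Nat.zero_xor, Nat.xor_self]
      rw [this] at l3
      exact absurd (hker (w6_xor (w6_xor m64 m4) m16) l1 l2 l3) (by decide)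
  -- the element moving them to the standard ones
  obtain ⟨p, hp, hp4⟩ := sg_trans v4 (hw6 A4) i4 (hq a4 A4)
  obtain ⟨-, -, -, -⟩ := pr_spec hp (lt_of_w6 (hw6 A16))
  have hinj : ∀ {p : ℕ × ℕ}, p ∈ pairs6 → ∀ {j k : ℕ}, j < 256 → k < 256 → pr p j = pr p k → j = k := by
    intro p hp j k hj hk e
    have h1 := pr_swap (ns6_spec _ (mem_pairs6 hp).1).1 (ns6_spec _ (mem_pairs6 hp).2).1 hj
    rw [e, pr_swap (ns6_spec _ (mem_pairs6 hp).1).1 (ns6_spec _ (mem_pairs6 hp).2).1 hk] at h1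
    exact h1.symm
  set b := pr p v16
  have hb4 : bn b 4 = false := by
    rw [← hp4, pr_bn hp (lt_of_w6 (hw6 A16)) (lt_of_w6 (hw6 A4))]
    exact hperp a16 a4 A16 A4
  obtain ⟨p₂, hp₂, hb16⟩ := fix4_cover b (pr_w6 hp (hw6 A16))
    (fun e => i16 (hinj hp (lt_of_w6 (hw6 A16)) (by norm_num) (e.trans (pairs6_lin hp).zero.symm)))
    (fun e => n1 (hinj hp (lt_of_w6 (hw6 A16)) (lt_of_w6 (hw6 A4)) (e.trans hp4.symm)))
    ((pr_spec hp (lt_of_w6 (hw6 A16))).2.1.trans (hq a16 A16)) hb4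
  obtain ⟨hp₂p, hp₂4⟩ := fix4_spec p₂ hp₂
  set t := pr p₂ (pr p v64)
  have ht6 : t ∈ w6 := pr_w6 hp₂p (pr_w6 hp (hw6 A64))
  have hσ : Lin8 fun k => pr p₂ (pr p k) := (pairs6_lin hp₂p).comp (pairs6_lin hp)
  have hσi : ∀ {j k}, j < 256 → k < 256 → pr p₂ (pr p j) = pr p₂ (pr p k) → j = k := fun {j k} hj hk e =>
    hinj hp hj hk (hinj hp₂p (pr_spec hp hj).1 (pr_spec hp hk).1 e)
  have s4 : pr p₂ (pr p v4) = 4 := by rw [hp4, hp₂4]
  have s16 : pr p₂ (pr p v16) = 16 := hb16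
  have hv4 := lt_of_w6 (hw6 A4)
  have hv16 := lt_of_w6 (hw6 A16)
  have hv64 := lt_of_w6 (hw6 A64)
  have htW : inW t = true ∨ inW (sw t) = true := by
    refine third_cases t ht6 ?_ ?_ ?_ ?_ ?_ ?_ ?_
    · exact ((pr_spec hp₂p (pr_spec hp hv64).1).2.1.trans (pr_spec hp hv64).2.1).trans (hq a64 A64)
    · rw [← s4, pr_bn hp₂p (pr_spec hp hv64).1 (pr_spec hp hv4).1, pr_bn hp hv64 hv4]
      exact hperp a64 a4 A64 A4
    · rw [← s16, pr_bn hp₂p (pr_spec hp hv64).1 (pr_spec hp hv16).1, pr_bn hp hv64 hv16]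
      exact hperp a64 a16 A64 A16
    · exact fun e => i64 (hσi hv64 (by norm_num) (e.trans hσ.zero.symm))
    · exact fun e => n2 true false (by
        simpa using hσi hv64 hv4 (e.trans s4.symm))
    · exact fun e => n2 false true (by
        simpa using hσi hv64 hv16 (e.trans s16.symm))
    · intro e
      refine n2 true true (hσi hv64 (xor_lt hv4 hv16) (e.trans ?_))
      show 20 = pr p₂ (pr p (v4 ^^^ v16))
      rw [show pr p₂ (pr p (v4 ^^^ v16)) = pr p₂ (pr p v4) ^^^ pr p₂ (pr p v16) from hσ.add _ hv4 _ hv16, s4, s16]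
      rfl
  -- the moved group
  obtain ⟨c1, hc1, hc1x, hc1k⟩ := d.exists_prE hp
  obtain ⟨c2, hc2, hc2x, hc2k⟩ := d.exists_prE hp₂p
  set c := c2 * c1 with hcdef
  have hcz : Commute c z := hc2.mul_left hc1
  have hcx : Commute c x := hc2x.mul_left hc1x
  set g := c * n with hgdef
  set D := (AG h).map (MulAut.conj g).toMonoidHom with hD
  have hDc : ∀ a ∈ D, ∀ b ∈ D, Commute a b := by
    rintro _ ⟨a, ha, rfl⟩ _ ⟨b, hb, rfl⟩
    exact (AG_abelian C ha hb).map (MulAut.conj g).toMonoidHom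
  have hDcard : Nat.card D = 2 ^ 11 := by rw [hD, Subgroup.card_map_of_injective (MulAut.conj g).injective, hcardA]
  have hgz : g * z * g⁻¹ = x := by
    rw [hgdef, show c * n * z * (c * n)⁻¹ = c * (n * z * n⁻¹) * c⁻¹ by group, d.nz]
    exact mul_inv_eq_iff_eq_mul.2 hcx.eq
  have hgx : g * x * g⁻¹ = z := by
    rw [hgdef, show c * n * x * (c * n)⁻¹ = c * (n * x * n⁻¹) * c⁻¹ by group, d.nx]
    exact mul_inv_eq_iff_eq_mul.2 hcz.eq
  have hzA : z ∈ AG h := EG_le_AG h (z_EG h)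
  have hxE : x ∈ EG h := ⟨d.xQ, by rw [d.cox]; rfl⟩
  -- the vectors in the moved group
  have hP : ∀ k ∈ [1, 4, 16, t], ∃ s ∈ Q, co s &&& 253 = k ∧ b1 (co s) = false ∧ s ∈ D := by
    have mk : ∀ {u : G}, u ∈ AG h → InA Q co (n * u * n⁻¹) → ∀ k,
        pr p₂ (pr p (co (n * u * n⁻¹) &&& 252)) = k → ∃ s ∈ Q, co s &&& 252 = k ∧ b1 (co s) = false ∧ s ∈ D := by
      intro u ha hA k hk
      have hl := h.co_lt _ hA.1
      have he : co (c * (n * u * n⁻¹) * c⁻¹) = pr p₂ (pr p (co (n * u * n⁻¹))) := by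
        rw [h.conj c hcz _ hA.1, hcdef, h.ac_mul hc2 hc1 hl, hc1k _ hl, hc2k _ (pr_spec hp hl).1]
      obtain ⟨l1, -, b1', m1⟩ := pr_spec hp hl
      obtain ⟨-, -, b2', m2⟩ := pr_spec hp₂p l1
      refine ⟨c * (n * u * n⁻¹) * c⁻¹, h.norm c hcz _ hA.1, ?_, ?_, u, ha, ?_⟩
      · rw [he, m2, m1, hk]
      · rw [he, b2', b1', hA.2]
      · show g * u * g⁻¹ = _
        rw [hgdef]; group
    intro k hk
    have hx' : ∃ s ∈ Q, co s &&& 253 = 1 ∧ b1 (co s) = false ∧ s ∈ D :=
      ⟨x, d.xQ, by rw [d.cox]; rfl, by rw [d.cox]; rfl, z, hzA, hgz⟩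
    have adj : ∀ k ∈ w6, (∃ s ∈ Q, co s &&& 252 = k ∧ b1 (co s) = false ∧ s ∈ D) →
        ∃ s ∈ Q, co s &&& 253 = k ∧ b1 (co s) = false ∧ s ∈ D := by
      rintro k hk ⟨s, hs, e, hb, hsD⟩
      have key : ∀ v < 256, b1 v = false → v &&& 252 ∈ w6 →
          (v &&& 253 = v &&& 252) ∨ ((v ^^^ 1) &&& 253 = v &&& 252 ∧ (v ^^^ 1) &&& 252 = v &&& 252 ∧
            b1 (v ^^^ 1) = false) := by decide +kernel
      rcases key _ (h.co_lt s hs) hb (e ▸ hk) with e' | ⟨e1, -, e3⟩
      · exact ⟨s, hs, e'.trans e, hb, hsD⟩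
      · obtain ⟨x', hx'Q, -, -, hx'D⟩ := hx'
        exact ⟨s * x, mul_mem hs d.xQ, by rw [h.co_mul s hs x d.xQ, d.cox, e1, e],
          by rw [h.co_mul s hs x d.xQ, d.cox, e3], mul_mem hsD ⟨z, hzA, hgz⟩⟩
    simp only [List.mem_cons, List.not_mem_nil, or_false] at hk
    rcases hk with rfl | rfl | rfl | rfl
    · exact hx'
    · exact adj _ m4 (mk a4 A4 _ s4)
    · exact adj _ m16 (mk a16 A16 _ s16)
    · exact adj _ ht6 (mk a64 A64 _ rfl)
  have hzD : z ∈ D := ⟨x, EG_le_AG h hxE, hgx⟩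
  have hmain : ∀ {co' : G → ℕ} {ac' : G → ℕ → ℕ} (h' : Frame z Q co' ac') (σ : ℕ → ℕ),
      (∀ s ∈ Q, co' s = σ (co s)) → (∀ j k, σ (j ^^^ k) = σ j ^^^ σ k) →
      (∀ w ∈ wB, ∃ i j l o : Bool, w = σ ((bif i then 1 else 0) ^^^ (bif j then 4 else 0) ^^^
        (bif l then 16 else 0) ^^^ (bif o then t else 0))) → D = AG h' := by
    intro co' ac' h' σ hσ' hσx hw
    have hle : D ≤ AG h' := by
      intro a ha
      refine mem_AG_of h' (hDc a ha z hzD) fun w hw' => ?_
      obtain ⟨i, j, l, o, e⟩ := hw w hw'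
      have hpick : ∀ (b : Bool) (k : ℕ), k ∈ [1, 4, 16, t] → ∃ s ∈ Q, co s = (bif b then k else 0) ∧ s ∈ D := by
        intro b k hk
        cases b
        · exact ⟨1, one_mem Q, h.co_one, one_mem D⟩
        · obtain ⟨s, hs, e, hb, hsD⟩ := hP k hk
          refine ⟨s, hs, ?_, hsD⟩
          rw [cond_true, ← e]
          have key : ∀ v < 256, b1 v = false → v &&& 253 = v := by decide +kernel
          exact (key _ (h.co_lt s hs) hb).symm
      obtain ⟨s1, q1, e1, d1⟩ := hpick i 1 (by simp)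
      obtain ⟨s2, q2, e2, d2⟩ := hpick j 4 (by simp)
      obtain ⟨s3, q3, e3, d3⟩ := hpick l 16 (by simp)
      obtain ⟨s4', q4, e4, d4⟩ := hpick o t (by simp)
      refine ⟨s1 * s2 * s3 * s4', mul_mem (mul_mem (mul_mem q1 q2) q3) q4, ?_,
        hDc a ha _ (mul_mem (mul_mem (mul_mem d1 d2) d3) d4)⟩
      rw [hσ' _ (mul_mem (mul_mem (mul_mem q1 q2) q3) q4), h.co_mul _ (mul_mem (mul_mem q1 q2) q3) _ q4,
        h.co_mul _ (mul_mem q1 q2) _ q3, h.co_mul _ q1 _ q2, e1, e2, e3, e4, e]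
    exact Subgroup.eq_of_le_of_card_ge hle (by rw [hDcard]; exact AG_card_le h')
  rcases htW with ht | ht
  · have key : ∀ t ∈ w6, inW t = true → t ≠ 0 → t ≠ 4 → t ≠ 16 → t ≠ 20 → ∀ w ∈ wB, ∃ i j l o : Bool,
        w = ((bif i then 1 else 0) ^^^ (bif j then 4 else 0) ^^^ (bif l then 16 else 0) ^^^
          (bif o then t else 0)) := by decide +kernel
    have hDA : D = AG h := hmain h id (fun _ _ => rfl) (fun _ _ => rfl) (key t ht6 ht
      (fun e => i64 (hσi hv64 (by norm_num) (e.trans hσ.zero.symm)))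
      (fun e => n2 true false (by simpa using hσi hv64 hv4 (e.trans s4.symm)))
      (fun e => n2 false true (by simpa using hσi hv64 hv16 (e.trans s16.symm)))
      (fun e => n2 true true (hσi hv64 (xor_lt hv4 hv16) (e.trans (by
        simp only [cond_true]
        rw [show pr p₂ (pr p (v4 ^^^ v16)) = pr p₂ (pr p v4) ^^^ pr p₂ (pr p v16) from hσ.add _ hv4 _ hv16, s4, s16]
        rfl)))))
    have hgN : g ∈ Subgroup.normalizer (AG h : Set G) := by
      refine Subgroup.mem_normalizer_iff.2 fun a => ⟨fun ha => hDA ▸ ⟨a, ha, rfl⟩, fun ha => ?_⟩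
      have ha' : g * a * g⁻¹ ∈ D := by rw [hDA]; exact ha
      obtain ⟨b, hb, e⟩ := ha'
      have : b = a := (MulAut.conj g).injective e
      rwa [← this]
    refine ⟨g, hgN, hgz, ?_⟩
    by_contra hnot
    push Not at hnot
    have hsub : ∀ r : EG h, ∃ i j, g * (r : G) * g⁻¹ = ee z x i j := by
      intro r
      refine d.inter (hnot r r.2) ?_
      rw [hgdef, show c * n * (r : G) * (c * n)⁻¹ = c * (n * (r : G) * n⁻¹) * c⁻¹ by group]
      exact d.P_conj hcx (by
        rw [show n⁻¹ * (n * (r : G) * n⁻¹) * n = (r : G) by group]; exact r.2.1)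
    choose I J hIJ using hsub
    have hle : Nat.card (EG h) ≤ 4 := by
      refine (Nat.card_le_card_of_injective (fun r : EG h => (I r, J r)) fun a b e => Subtype.ext ?_).trans (by simp)
      simp only [Prod.mk.injEq] at e
      have := (hIJ a).trans (e.1 ▸ e.2 ▸ (hIJ b).symm)
      simpa using this
    -- five elements in `E`
    have h5 : 5 ≤ Nat.card (EG h) := by
      have hmem : ∀ s : Fin 5, B.el (2 * s.1) ∈ EG h := fun s => by
        have hs : 2 * s.1 < 32 := by omega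
        exact ⟨(B.el_low _ hs).1, by rw [(B.el_low _ hs).2]; exact (wcode_spec _ hs).2.1⟩
      refine le_of_eq_of_le (Nat.card_fin 5).symm (Nat.card_le_card_of_injective
        (fun s : Fin 5 => (⟨B.el (2 * s.1), hmem s⟩ : EG h)) fun a b e => ?_)
      have := B.el_inj (a := 2 * a.1) (b := 2 * b.1) (by omega) (by omega) (congrArg Subtype.val e)
      exact Fin.ext (by omega)
    omega
  · exfalso
    have key : ∀ t ∈ w6, inW (sw t) = true → t ≠ 0 → t ≠ 4 → t ≠ 16 → t ≠ 20 → ∀ w ∈ wB, ∃ i j l o : Bool,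
        w = sw ((bif i then 1 else 0) ^^^ (bif j then 4 else 0) ^^^ (bif l then 16 else 0) ^^^
          (bif o then t else 0)) := by decide +kernel
    have hDA : D = AG (duo_sw C.duo).fr := hmain _ sw (fun _ _ => rfl) sw_xor (key t ht6 ht
      (fun e => i64 (hσi hv64 (by norm_num) (e.trans hσ.zero.symm)))
      (fun e => n2 true false (by simpa using hσi hv64 hv4 (e.trans s4.symm)))
      (fun e => n2 false true (by simpa using hσi hv64 hv16 (e.trans s16.symm)))
      (fun e => n2 true true (hσi hv64 (xor_lt hv4 hv16) (e.trans (by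
        simp only [cond_true]
        rw [show pr p₂ (pr p (v4 ^^^ v16)) = pr p₂ (pr p v4) ^^^ pr p₂ (pr p v16) from hσ.add _ hv4 _ hv16, s4, s16]
        rfl)))))
    exact other_not_abelian C fun a ha b hb => hDc a (hDA ▸ ha) b (hDA ▸ hb)

end Cfsg.Agent.Lib.Co1Golay43
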