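import Cfsg.Agent.Lib.Co1Golay43.BridgeData

/-!
# Conway type: counting the ones of all functionals at once

Owner: helper43.
-/

set_option autoImplicit false
set_option maxRecDepth 100000

namespace Cfsg.Agent.Lib.Co1Golay43

theorem par_top : (List.range 11).all (fun j => (List.range (2 ^ j)).all fun a =>
    parMask.testBit (2 ^ j + a) == !(parMask.testBit a)) = true := by decide +kernel

theorem par_zero : parMask.testBit 0 = false := by decide +kernel

theorem two_pow_add_xor {n a : ℕ} (ha : a < 2 ^ n) : 2 ^ n + a = 2 ^ n ^^^ a := by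
  refine Nat.eq_of_testBit_eq fun i => ?_
  rw [Nat.testBit_xor, Nat.testBit_two_pow]
  rcases lt_trichotomy i n with h | rfl | h
  · rw [Nat.testBit_two_pow_add_gt h, decide_eq_false (by omega : ¬ n = i), Bool.false_xor]
  · rw [Nat.testBit_two_pow_add_eq, Nat.testBit_lt_two_pow ha]; simp
  · have h1 : 2 ^ (n + 1) ≤ 2 ^ i := Nat.pow_le_pow_right (by norm_num) h
    have h2 : 2 ^ (n + 1) = 2 * 2 ^ n := by ring
    rw [Nat.testBit_lt_two_pow (show 2 ^ n + a < 2 ^ i by omega), decide_eq_false (by omega : ¬ n = i),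
      Nat.testBit_lt_two_pow (show a < 2 ^ i by omega)]
    rfl

/-- Parity is additive. -/
theorem parMask_xor_aux : ∀ n ≤ 11, ∀ a < 2 ^ n, ∀ b < 2 ^ n,
    parMask.testBit (a ^^^ b) = Bool.xor (parMask.testBit a) (parMask.testBit b) := by
  intro n
  induction n with
  | zero =>
    intro _ a ha b hb
    obtain rfl : a = 0 := by omega
    obtain rfl : b = 0 := by omega
    rw [Nat.xor_self, Bool.xor_self, par_zero]
  | succ n ih =>
    intro hn a ha b hb
    have htop : ∀ x < 2 ^ n, parMask.testBit (2 ^ n + x) = !(parMask.testBit x) := fun x hx =>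
      beq_iff_eq.1 (List.all_eq_true.1 (List.all_eq_true.1 par_top n (List.mem_range.2 (by omega))) x
        (List.mem_range.2 hx))
    rw [pow_succ] at ha hb
    have ihn := ih (by omega)
    rcases lt_or_ge a (2 ^ n) with h1 | h1 <;> rcases lt_or_ge b (2 ^ n) with h2 | h2
    · exact ihn a h1 b h2
    · obtain ⟨d, rfl⟩ := Nat.exists_eq_add_of_le h2
      have hd : d < 2 ^ n := by omega
      have hlt := Nat.xor_lt_two_pow h1 hd
      rw [two_pow_add_xor hd, Nat.xor_left_comm, ← two_pow_add_xor hlt, htop _ hlt, ← two_pow_add_xor hd,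
        htop _ hd, ihn a h1 d hd]
      cases parMask.testBit a <;> cases parMask.testBit d <;> rfl
    · obtain ⟨c, rfl⟩ := Nat.exists_eq_add_of_le h1
      have hc : c < 2 ^ n := by omega
      have hlt := Nat.xor_lt_two_pow hc h2
      rw [two_pow_add_xor hc, Nat.xor_assoc, ← two_pow_add_xor hlt, htop _ hlt, ← two_pow_add_xor hc,
        htop _ hc, ihn c hc b h2]
      cases parMask.testBit c <;> cases parMask.testBit b <;> rfl
    · obtain ⟨c, rfl⟩ := Nat.exists_eq_add_of_le h1
      obtain ⟨d, rfl⟩ := Nat.exists_eq_add_of_le h2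
      have hc : c < 2 ^ n := by omega
      have hd : d < 2 ^ n := by omega
      have e : 2 ^ n ^^^ c ^^^ (2 ^ n ^^^ d) = c ^^^ d := by
        rw [Nat.xor_comm _ c, Nat.xor_assoc, ← Nat.xor_assoc (2 ^ n), Nat.xor_self, Nat.zero_xor]
      rw [two_pow_add_xor hc, two_pow_add_xor hd, e, ← two_pow_add_xor hc, ← two_pow_add_xor hd, htop _ hc,
        htop _ hd, ihn c hc d hd]
      cases parMask.testBit c <;> cases parMask.testBit d <;> rfl

/-- sums of counts -/
def combS : List (ℕ × ℕ) → List (ℕ × ℕ) → List (ℕ × ℕ)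
  | a :: l, b :: r => (a.1 + b.1, a.2 + b.2) :: combS l r
  | _, _ => []

/-- crossed sums of counts -/
def combX : List (ℕ × ℕ) → List (ℕ × ℕ) → List (ℕ × ℕ)
  | a :: l, b :: r => (a.1 + b.2, a.2 + b.1) :: combX l r
  | _, _ => []

/-- for every functional on `2^j` states from `off`, how many of the set give zero and one -/
def wh (M : ℕ) : ℕ → ℕ → List (ℕ × ℕ)
  | 0, off => [(bif M.testBit off then 1 else 0, 0)]
  | j + 1, off => combS (wh M j off) (wh M j (off + 2 ^ j)) ++ combX (wh M j off) (wh M j (off + 2 ^ j))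

/-- the number giving `b` -/
def cz (M j off w : ℕ) (b : Bool) : ℕ :=
  (List.range (2 ^ j)).countP fun a => M.testBit (off + a) && (parMask.testBit (a &&& w) == b)

theorem comb_get : ∀ (l r : List (ℕ × ℕ)), l.length = r.length →
    (combS l r).length = l.length ∧ (combX l r).length = l.length ∧ ∀ i < l.length,
      (combS l r).getD i (0, 0) = ((l.getD i (0, 0)).1 + (r.getD i (0, 0)).1, (l.getD i (0, 0)).2 + (r.getD i (0, 0)).2) ∧
      (combX l r).getD i (0, 0) = ((l.getD i (0, 0)).1 + (r.getD i (0, 0)).2, (l.getD i (0, 0)).2 + (r.getD i (0, 0)).1)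
  | [], [], _ => ⟨rfl, rfl, fun _ hi => absurd hi (Nat.not_lt_zero _)⟩
  | [], _ :: _, h => by simp at h
  | _ :: _, [], h => by simp at h
  | a :: l, b :: r, h => by
    obtain ⟨h1, h2, h3⟩ := comb_get l r (by simpa using h)
    refine ⟨by simp [combS, h1], by simp [combX, h2], fun i hi => ?_⟩
    cases i with
    | zero => simp [combS, combX]
    | succ i =>
      simp only [combS, combX, List.getD_cons_succ]
      exact h3 i (by simpa using hi)

theorem wh_spec (M : ℕ) : ∀ j ≤ 11, ∀ off, (wh M j off).length = 2 ^ j ∧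
    ∀ w < 2 ^ j, (wh M j off).getD w (0, 0) = (cz M j off w false, cz M j off w true) := by
  intro j
  induction j with
  | zero =>
    intro _ off
    refine ⟨rfl, fun w hw => ?_⟩
    obtain rfl : w = 0 := by omega
    simp only [wh, cz, pow_zero, List.range_one, List.countP_singleton, Nat.add_zero, Nat.zero_and, par_zero]
    cases M.testBit off <;> rfl
  | succ j ih =>
    intro hj off
    obtain ⟨l1, e1⟩ := ih (by omega) off
    obtain ⟨l2, e2⟩ := ih (by omega) (off + 2 ^ j)
    obtain ⟨c1, c2, c3⟩ := comb_get _ _ (l1.trans l2.symm)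
    refine ⟨?_, fun w hw => ?_⟩
    · rw [wh, List.length_append, c1, c2, l1, pow_succ]; omega
    rw [pow_succ] at hw
    have hsplit : ∀ w b, cz M (j + 1) off w b = cz M j off w b + (List.range (2 ^ j)).countP
        (fun a => M.testBit (off + 2 ^ j + a) && (parMask.testBit ((2 ^ j + a) &&& w) == b)) := fun w b => by
      rw [cz, cz, pow_succ, mul_two, List.range_add, List.countP_append, List.countP_map]
      congr 1
      refine List.countP_congr fun a _ => ?_
      simp only [Function.comp_apply, Nat.add_assoc]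
    rcases lt_or_ge w (2 ^ j) with h | h
    · have hhi : ∀ b, cz M (j + 1) off w b = cz M j off w b + cz M j (off + 2 ^ j) w b := fun b => by
        rw [hsplit]
        congr 1
        refine List.countP_congr fun a ha => ?_
        rw [two_pow_add_xor (List.mem_range.1 ha), Nat.and_xor_distrib_right,
          show 2 ^ j &&& w = 0 by rw [Nat.and_comm, Nat.and_two_pow, Nat.testBit_lt_two_pow h]; simp,
          Nat.zero_xor]
      rw [wh, List.getD_append _ _ _ _ (by rw [c1, l1]; exact h), (c3 w (by rw [l1]; exact h)).1, e1 w h,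
        e2 w h, hhi, hhi]
    · obtain ⟨v, rfl⟩ := Nat.exists_eq_add_of_le h
      have hv : v < 2 ^ j := by omega
      have hlo : ∀ {a}, a < 2 ^ j → a &&& (2 ^ j + v) = a &&& v := fun {a} ha => by
        rw [two_pow_add_xor hv, Nat.and_xor_distrib_left, Nat.and_two_pow, Nat.testBit_lt_two_pow ha]
        simp
      have hp2 : 2 ^ j &&& (2 ^ j + v) = 2 ^ j := by
        rw [Nat.and_comm, Nat.and_two_pow, Nat.testBit_two_pow_add_eq, Nat.testBit_lt_two_pow hv]; simp
      have hpar : parMask.testBit (2 ^ j) = true := by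
        have := beq_iff_eq.1 (List.all_eq_true.1 (List.all_eq_true.1 par_top j (List.mem_range.2 (by omega))) 0
          (List.mem_range.2 (Nat.two_pow_pos j)))
        rwa [Nat.add_zero, par_zero] at this
      have hp : (2 : ℕ) ^ j < 2 ^ 11 := Nat.pow_lt_pow_right (by norm_num) (by omega)
      have hlow : ∀ b, cz M j off (2 ^ j + v) b = cz M j off v b := fun b => by
        refine List.countP_congr fun a ha => ?_
        rw [hlo (List.mem_range.1 ha)]
      have hhi : ∀ b, cz M (j + 1) off (2 ^ j + v) b = cz M j off v b + cz M j (off + 2 ^ j) v (!b) := fun b => by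
        rw [hsplit, hlow]
        congr 1
        refine List.countP_congr fun a ha => ?_
        have ha' := List.mem_range.1 ha
        have hav : a &&& v < 2 ^ 11 := lt_of_le_of_lt Nat.and_le_left (ha'.trans hp)
        rw [two_pow_add_xor ha', Nat.and_xor_distrib_right, hp2, hlo ha',
          parMask_xor_aux 11 le_rfl _ hp _ hav, hpar]
        cases parMask.testBit (a &&& v) <;> cases b <;> rfl
      rw [wh, List.getD_append_right _ _ _ _ (by rw [c1, l1]; omega), c1, l1, Nat.add_sub_cancel_left,
        (c3 v (by rw [l1]; exact hv)).2, e1 v hv, e2 v hv, hhi, hhi]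
      rfl

end Cfsg.Agent.Lib.Co1Golay43
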